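import Cfsg.Agent.H887.DS.Uniq

/-!
# `SL(3, E)` in dimensions 6, 10, `SL(4, E)` in dimension 10: the field, unitary groups (helper887)

* `not_cj_zero`, `not_cj_last` : `xi ε a 0`, `xi ε 0 b` with `a, b ≠ 0` exclude `Cj P (p ^ k)`;
* **`field3`** : `m = 3`, `n ∈ {6, 10}`: `SD P` or `|E| = |F|`, not `Cj`, `p` odd (`p ≥ 5` for `n = 10`);
* **`field4`** : `m = 4`, `n = 10`: `|E| = |F|`, not `Cj`, `p` odd.
-/

set_option autoImplicit false
set_option linter.unusedSectionVars false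
set_option linter.style.haveILetI false

namespace Cfsg.Agent.H887.DS

open Matrix CoxeterSystem Cfsg.Agent.ChevalleyStructure.CoxeterGeom Cfsg.Agent.Tits.Roots Cfsg.Agent.Tits.Core
  Cfsg.Agent.Tits.Exchange Cfsg.Agent.Nodes.Reps Cfsg.Agent.Nodes.BNOf Cfsg.Agent.Nodes.StabComb
  Cfsg.Agent.Nodes.Bruhat Cfsg.Agent.Nodes.OppDec Cfsg.Agent.Nodes.LeviDec Cfsg.Agent.KFacts.RgdOpp
  Cfsg.Agent.Omega.CR Cfsg.Agent.Omega.FOne.Lift.Sd Cfsg.Agent.Nodes.RootsA Cfsg.Agent.Nodes.RGDTypeA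
open Cfsg.Agent.LieRecognition.BNCox (cA cA_apply)
open Cfsg.Agent.TitsThree.KSideA (tv tv_of_ne tv_add tv_zero tv_neg tv_comm tv_commute)
open Cfsg.Agent.H905.Md Module Cfsg.Agent.H911
open Cfsg Cfsg.Geo Cfsg.Agent.H67
open Cfsg.Agent.H915.LD (Core Soc tr SD Fr Cj)

universe u

section general

variable {F : Type u} [Field F] [Finite F] {ι : Type} [Fintype ι] [DecidableEq ι] [Nonempty ι] {P : Subgroup (GL ι F)}
  {E : Type*} [Field E] [Finite E] (p : ℕ) [hp : Fact p.Prime] [hFp : CharP F p] [hEp : CharP E p] {l : ℕ}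
  {φ : SpecialLinearGroup (Fin (l + 1)) E →* GL ι F}
  (hirr : ∀ L : Submodule (AlgebraicClosure F) (ι → AlgebraicClosure F), (∀ g, ∀ w ∈ L, lin (acRep φ) g w ∈ L) →
    L = ⊥ ∨ L = ⊤)
  {v : ι → AlgebraicClosure F} {ψ : Module.Dual (AlgebraicClosure F) (ι → AlgebraicClosure F)}
  (hv : v ≠ 0) (hψ : ψ ≠ 0) {ε : E →+* AlgebraicClosure F} {a : ℕ}
include p hp hFp hEp hirr hv hψ

omit p hp hFp hEp hirr hv hψ [Finite E] in
theorem ns_zero_zero {i : Fin l} (hi : i.val = 0) : (ns l E i).1 0 0 = 0 := by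
  by_contra h
  have h1 := mono_ns (F := E) i 0 0 h
  have h2 : (0 : Fin (l + 1)) = i.castSucc := Fin.ext hi.symm
  rw [h2, Equiv.swap_apply_left] at h1
  exact (Fin.castSucc_lt_succ (i := i)).ne h1

omit p hp hFp hEp hirr hv hψ [Finite E] in
theorem ns_inv_last {i : Fin l} (hi : i.val + 1 = l) : ((ns l E i)⁻¹).1 (Fin.last l) (Fin.last l) = 0 := by
  by_contra h
  have h1 := (mono_ns (F := E) i).inv (Fin.last l) (Fin.last l) h
  have h2 : Fin.last l = i.succ := Fin.ext (by simp; omega)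
  rw [h2] at h1
  have h3 : (Equiv.swap i.castSucc i.succ)⁻¹ i.succ = i.castSucc := by
    rw [Equiv.Perm.inv_eq_iff_eq, Equiv.swap_apply_left]
  rw [h3] at h1
  exact (Fin.castSucc_lt_succ (i := i)).ne h1.symm

theorem not_cj_zero (hl : 2 ≤ l) (ha : a ≠ 0) (hf : ∀ g, ψ (lin (acRep φ) g v) = xi ε a 0 g) (hφ : φ.range = P)
    (hP : ActsAbsolutelyIrreducibly (matrixSet P)) {k : ℕ} (hCj : Cj P (p ^ k)) : False := by
  have h1 := cj_xi p hirr hv hψ hf (by omega) hφ hP hCj (ns l E ⟨0, by omega⟩ * 1)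
  rw [xi_ns_mul (i := ⟨0, by omega⟩) (fun _ => rfl) (fun h => by simp at h; omega), xi_one, one_pow, mul_one] at h1
  unfold xi at h1
  rw [ns_zero_zero (i := ⟨0, by omega⟩) rfl, map_zero, zero_pow ha, zero_mul] at h1
  exact one_ne_zero h1

theorem not_cj_last (hl : 2 ≤ l) (ha : a ≠ 0) (hf : ∀ g, ψ (lin (acRep φ) g v) = xi ε 0 a g) (hφ : φ.range = P)
    (hP : ActsAbsolutelyIrreducibly (matrixSet P)) {k : ℕ} (hCj : Cj P (p ^ k)) : False := by
  have h1 := cj_xi p hirr hv hψ hf (by omega) hφ hP hCj (ns l E ⟨l - 1, by omega⟩ * 1)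
  have h2 : xi ε a 0 (ns l E ⟨l - 1, by omega⟩ * 1) = 1 := by
    rw [xi_ns_mul (i := ⟨l - 1, by omega⟩) (fun h => by simp at h; omega) (fun _ => rfl), xi_one]
  rw [h2, one_pow, mul_one] at h1
  unfold xi at h1
  rw [ns_inv_last (i := ⟨l - 1, by omega⟩) (by simp; omega), map_zero, zero_pow ha, mul_zero] at h1
  exact one_ne_zero h1

/-- the exponent and the field -/
theorem dvd_zero (hl : 2 ≤ l) {b : ℕ} (hf : ∀ g, ψ (lin (acRep φ) g v) = xi ε a b g) :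
    Nat.card E - 1 ∣ a * (Nat.card F - 1) := by
  refine dvd_of_pow_eq ε Nat.card_pos fun s => ?_
  have h1 := fr_xi p hirr hv hψ hf (hs (⟨0, by omega⟩ : Fin l) s)
  have hinv : (hs (⟨0, by omega⟩ : Fin l) s)⁻¹ = hs ⟨0, by omega⟩ s⁻¹ := by
    have h2 := hs_mul (⟨0, by omega⟩ : Fin l) (1 : Eˣ) 1
    rw [mul_one] at h2
    have h3 : hs (⟨0, by omega⟩ : Fin l) (1 : Eˣ) = 1 := (mul_eq_left (a := hs (⟨0, by omega⟩ : Fin l) (1 : Eˣ))).1 h2.symm
    rw [inv_eq_iff_mul_eq_one, ← hs_mul, mul_inv_cancel, h3]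
  have h2 : xi ε a b (hs (⟨0, by omega⟩ : Fin l) s) = ε s ^ a := by
    have g1 : (0 : Fin (l + 1)) = (⟨0, by omega⟩ : Fin l).castSucc := Fin.ext rfl
    have g2 : Fin.last l ≠ (⟨0, by omega⟩ : Fin l).castSucc := Fin.ne_of_val_ne (by
      rw [Fin.val_last, Fin.val_castSucc]; simp; omega)
    have g3 : Fin.last l ≠ (⟨0, by omega⟩ : Fin l).succ := Fin.ne_of_val_ne (by
      rw [Fin.val_last, Fin.val_succ]; simp; omega)
    unfold xi
    rw [hinv, hs_apply, hs_apply, if_pos g1, if_neg g2, if_neg g3, map_one, one_pow, mul_one]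
  rwa [h2] at h1

theorem dvd_last (hl : 2 ≤ l) {b : ℕ} (hf : ∀ g, ψ (lin (acRep φ) g v) = xi ε a b g) :
    Nat.card E - 1 ∣ b * (Nat.card F - 1) := by
  refine dvd_of_pow_eq ε Nat.card_pos fun s => ?_
  have h1 := fr_xi p hirr hv hψ hf (hs (⟨l - 1, by omega⟩ : Fin l) s)
  have hinv : (hs (⟨l - 1, by omega⟩ : Fin l) s)⁻¹ = hs ⟨l - 1, by omega⟩ s⁻¹ := by
    have h2 := hs_mul (⟨l - 1, by omega⟩ : Fin l) (1 : Eˣ) 1
    rw [mul_one] at h2
    have h3 : hs (⟨l - 1, by omega⟩ : Fin l) (1 : Eˣ) = 1 :=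
      (mul_eq_left (a := hs (⟨l - 1, by omega⟩ : Fin l) (1 : Eˣ))).1 h2.symm
    rw [inv_eq_iff_mul_eq_one, ← hs_mul, mul_inv_cancel, h3]
  have h2 : xi ε a b (hs (⟨l - 1, by omega⟩ : Fin l) s) = ε s ^ b := by
    have g1 : (0 : Fin (l + 1)) ≠ (⟨l - 1, by omega⟩ : Fin l).castSucc := Fin.ne_of_val_ne (by
      rw [Fin.val_castSucc]; simp; omega)
    have g2 : (0 : Fin (l + 1)) ≠ (⟨l - 1, by omega⟩ : Fin l).succ := (Fin.succ_ne_zero _).symm
    have g3 : Fin.last l ≠ (⟨l - 1, by omega⟩ : Fin l).castSucc := Fin.ne_of_val_ne (by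
      rw [Fin.val_last, Fin.val_castSucc]; simp; omega)
    have g4 : Fin.last l = (⟨l - 1, by omega⟩ : Fin l).succ := Fin.ext (by
      rw [Fin.val_last, Fin.val_succ]; simp; omega)
    unfold xi
    rw [hinv, hs_apply, hs_apply, if_neg g1, if_neg g2, if_neg g3, if_pos g4, map_one, one_pow, one_mul,
      Units.val_inv_eq_inv_val, inv_inv]
  rwa [h2] at h1

end general

section

variable {F : Type u} [Field F] [Finite F] {ι : Type} [Fintype ι] [DecidableEq ι] {P : Subgroup (GL ι F)}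
  {E : Type*} [Field E] [Finite E] (p : ℕ) [hp : Fact p.Prime] [hFp : CharP F p] [hEp : CharP E p]
include hp hFp hEp

/-- **`m = 3`, `n ∈ {6, 10}`.** -/
theorem field3 (hC : Core P) (Φ : Soc P ≃* ProjectiveSpecialLinearGroup (Fin 3) E)
    (hn : Fintype.card ι = 6 ∨ Fintype.card ι = 10) :
    SD P ∨ (2 < p ∧ (Fintype.card ι = 10 → 5 ≤ p) ∧ Nat.card E = Nat.card F ∧ ∀ k, ¬ Cj P (p ^ k)) := by
  obtain ⟨φ, hφ, -, -, hirr, ε, v, ψ, a, b, hv0, hψ0, ha, hb, hf, hc⟩ := exists_rep3 p hC Φ (by omega)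
  haveI : Nonempty ι := Fintype.card_pos_iff.1 (by omega)
  obtain ⟨j, hj, hFE⟩ := psl_card (l := 2) p hC.absIrred hC.perfect (by norm_num) (fun h => by omega) Φ hC.no_subfield
  have key : ∀ c, OneCase p 3 c (Fintype.card ι) → ∃ r i, 1 ≤ r ∧ r < p ∧ c = r * p ^ i ∧ 2 < p ∧
      (Fintype.card ι = 10 → 5 ≤ p) := by
    rintro c (⟨r, e, hr, hrp, hce, hn'⟩ | ⟨e, e', -, -, hn'⟩)
    · refine ⟨r, e, hr, hrp, hce, ?_⟩
      rcases (choose_cases hr hn').1 rfl (by omega) with ⟨-, h4⟩ | ⟨rfl, h4⟩ | ⟨rfl, h4⟩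
      · omega
      · exact ⟨hrp, fun h => by omega⟩
      · refine ⟨by omega, fun _ => ?_⟩
        by_contra h5
        have h6 : p = 4 := by omega
        have := hp.out
        rw [h6] at this
        exact absurd this (by norm_num)
    · omega
  rcases hc with ⟨rfl, hc⟩ | ⟨rfl, hc⟩ | ⟨⟨i, j, rfl, rfl, hij⟩, h6, h9⟩
  · obtain ⟨r, i, hr, hrp, rfl, h1, h2⟩ := key _ hc
    have hpos : r * p ^ i ≠ 0 := (Nat.mul_pos (by omega) (pow_pos hp.out.pos i)).ne'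
    exact Or.inr ⟨h1, h2, card_eq_of_dvd hj hFE hr hrp (dvd_zero p hirr hv0 hψ0 le_rfl hf),
      fun k hk => not_cj_zero p hirr hv0 hψ0 le_rfl hpos hf hφ hC.absIrred hk⟩
  · obtain ⟨r, i, hr, hrp, rfl, h1, h2⟩ := key _ hc
    have hpos : r * p ^ i ≠ 0 := (Nat.mul_pos (by omega) (pow_pos hp.out.pos i)).ne'
    exact Or.inr ⟨h1, h2, card_eq_of_dvd hj hFE hr hrp (dvd_last p hirr hv0 hψ0 le_rfl hf),
      fun k hk => not_cj_last p hirr hv0 hψ0 le_rfl hpos hf hφ hC.absIrred hk⟩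
  · left
    rcases hij with rfl | h
    · exact sd_of_lin p hφ (sd_of_eq hirr (by norm_num) hv0 hψ0 hf)
    · omega

/-- **`m = 4`, `n = 10`.** -/
theorem field4 (hC : Core P) (Φ : Soc P ≃* ProjectiveSpecialLinearGroup (Fin 4) E) (hn : Fintype.card ι = 10) :
    2 < p ∧ Nat.card E = Nat.card F ∧ ∀ k, ¬ Cj P (p ^ k) := by
  obtain ⟨φ, hφ, hk, hpr⟩ := psl_cover (l := 3) p hC.perfect (by norm_num) (fun h => by omega) Φ
  haveI : Nonempty ι := Fintype.card_pos_iff.1 (by omega)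
  haveI : Finite (cA 3).Group := finite_W (cA 3).toCoxeterSystem (isCartan 3)
  haveI hchar : CharP (AlgebraicClosure F) p := charP_of_injective_algebraMap (algebraMap F _).injective p
  obtain ⟨j, hj, hFE⟩ := psl_card (l := 3) p hC.absIrred hC.perfect (by norm_num) (fun h => by omega) Φ hC.no_subfield
  have R := Nodes.RGDTypeA.rgd (cA 3).toCoxeterSystem (isCartan 3) (F := E) (p := p)
  have hirr := ac_irr R (gg_eq_top (Nodes.RGDTypeA.G1_eq_top _ _)) slT_comm hφ hC.absIrred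
  obtain ⟨ε⟩ := exists_emb E (AlgebraicClosure F) p
  have hpos : ∀ i, 2 * p ^ i ≠ 0 := fun i => (Nat.mul_pos (by omega) (pow_pos hp.out.pos i)).ne'
  rcases sl4 (cs := (cA 3).toCoxeterSystem) (h := isCartan 3) p
    (ρ := lin (acRep φ)) hirr ε (by rw [Module.finrank_fintype_fun_eq_card]; omega)
    (by rw [Module.finrank_fintype_fun_eq_card]; omega) with ⟨h1, -⟩ | ⟨v, hv, hv0, ψ, hψ0, a, b, ha, hb, hf, i, h | h⟩
  · rw [Module.finrank_fintype_fun_eq_card] at h1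
    omega
  · rw [Module.finrank_fintype_fun_eq_card] at h
    omega
  · rw [Module.finrank_fintype_fun_eq_card] at h
    obtain ⟨h2, -, ⟨rfl, rfl⟩ | ⟨rfl, rfl⟩⟩ := h
    · exact ⟨h2, card_eq_of_dvd hj hFE (by norm_num) h2 (dvd_zero p (irr_all hirr) hv0 hψ0 (by norm_num) hf),
        fun k hk => not_cj_zero p (irr_all hirr) hv0 hψ0 (by norm_num) (hpos i) hf hφ hC.absIrred hk⟩
    · exact ⟨h2, card_eq_of_dvd hj hFE (by norm_num) h2 (dvd_last p (irr_all hirr) hv0 hψ0 (by norm_num) hf),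
        fun k hk => not_cj_last p (irr_all hirr) hv0 hψ0 (by norm_num) (hpos i) hf hφ hC.absIrred hk⟩

end

end Cfsg.Agent.H887.DS
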