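import Cfsg.Agent.H887.DS.FourFive
import Cfsg.Agent.H915.LD

/-!
# `Core P`, `Soc P = PSL(m, E)` in the defining characteristic, dimension at most 11 (helper887)

* `exists_rep` : the module over the algebraic closure;
* `dim_cases` : `3 ≤ m < n < 12` implies `(m, n) ∈ {(3, 6), (3, 7), (3, 8), (3, 9), (3, 10), (4, 6), (4, 10), (5, 10)}`;
* **`sd_of_psl`** : `n ∈ {7, 8, 11}`, `3 ≤ m < n` implies `SD P`.
-/

set_option autoImplicit false
set_option linter.unusedSectionVars false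
set_option linter.style.haveILetI false

namespace Cfsg.Agent.H887.DS

open Matrix CoxeterSystem Cfsg.Agent.ChevalleyStructure.CoxeterGeom Cfsg.Agent.Tits.Roots Cfsg.Agent.Tits.Core
  Cfsg.Agent.Tits.Exchange Cfsg.Agent.Nodes.Reps Cfsg.Agent.Nodes.BNOf Cfsg.Agent.Nodes.StabComb
  Cfsg.Agent.Nodes.Bruhat Cfsg.Agent.Nodes.OppDec Cfsg.Agent.Nodes.LeviDec Cfsg.Agent.KFacts.RgdOpp
  Cfsg.Agent.Omega.CR Cfsg.Agent.Omega.FOne.Lift.Sd Cfsg.Agent.Nodes.RootsA Cfsg.Agent.H911 Cfsg.Agent.Nodes.RGDLib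
open Cfsg.Agent.LieRecognition.BNCox (cA cA_apply)
open Cfsg.Agent.H905.Md Module
open Cfsg Cfsg.Geo Cfsg.Agent.H67
open Cfsg.Agent.H915.LD (Core Soc tr SD Fr Cj)

universe u

section

variable {F : Type u} [Field F] [Finite F] {ι : Type} [Fintype ι] [DecidableEq ι] {P : Subgroup (GL ι F)}
  {E : Type*} [Field E] [Finite E] (p : ℕ) [hp : Fact p.Prime] [hFp : CharP F p] [hEp : CharP E p] {l : ℕ}
include hp hFp hEp

/-- the trace over the closure -/
theorem sd_of_lin {φ : SpecialLinearGroup (Fin (l + 1)) E →* GL ι F} (hφ : φ.range = P)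
    (h : ∀ y, LinearMap.trace (AlgebraicClosure F) (ι → AlgebraicClosure F) (lin (acRep φ) y⁻¹) =
      LinearMap.trace (AlgebraicClosure F) (ι → AlgebraicClosure F) (lin (acRep φ) y)) : SD P := by
  intro g hg
  rw [← hφ] at hg
  obtain ⟨y, rfl⟩ := hg
  have h1 := h y
  rw [trace_lin, trace_lin, trace_acRep, trace_acRep, map_inv] at h1
  exact (algebraMap F (AlgebraicClosure F)).injective h1

variable (hC : Core P) (hl : 2 ≤ l) (Φ : Soc P ≃* ProjectiveSpecialLinearGroup (Fin (l + 1)) E)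
include hC hl Φ

omit hp hFp hEp in
theorem two_le_card : 2 ≤ Fintype.card ι := nonempty_of_psl hC.perfect (by omega) (fun h => by omega) Φ

/-- **The dimension is at least `C(m, 2)` or equal to `m`.** -/
theorem card_eq_of_lt (hlt : Fintype.card ι < (l + 1).choose 2) : Fintype.card ι = l + 1 :=
  psl_dim p hC.absIrred hC.perfect (by omega) (fun h => by omega) Φ hl (Or.inl hlt)

end

section

variable {F : Type u} [Field F] [Finite F] {ι : Type} [Fintype ι] [DecidableEq ι] {P : Subgroup (GL ι F)}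
  {E : Type*} [Field E] [Finite E] (p : ℕ) [hp : Fact p.Prime] [hFp : CharP F p] [hEp : CharP E p]
include hp hFp hEp

/-- **`SL(3, E)`: the matrix coefficient.** -/
theorem exists_rep3 (hC : Core P) (Φ : Soc P ≃* ProjectiveSpecialLinearGroup (Fin (2 + 1)) E) (hn : Fintype.card ι < 12) :
    ∃ φ : SpecialLinearGroup (Fin (2 + 1)) E →* GL ι F, φ.range = P ∧
      φ.ker ≤ Subgroup.center (SpecialLinearGroup (Fin (2 + 1)) E) ∧
      (∀ g, ∃ hg : φ g ∈ P, prj Φ ⟨φ g, hg⟩ = g) ∧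
      (∀ L : Submodule (AlgebraicClosure F) (ι → AlgebraicClosure F), (∀ g, ∀ w ∈ L, lin (acRep φ) g w ∈ L) →
        L = ⊥ ∨ L = ⊤) ∧
      ∃ (ε : E →+* AlgebraicClosure F) (v : ι → AlgebraicClosure F) (ψ : Module.Dual (AlgebraicClosure F)
        (ι → AlgebraicClosure F)) (a b : ℕ), v ≠ 0 ∧ ψ ≠ 0 ∧ a < Nat.card E ∧ b < Nat.card E ∧
        (∀ g, ψ (lin (acRep φ) g v) = xi ε a b g) ∧ Case3 p a b (Fintype.card ι) := by
  obtain ⟨φ, hφ, hk, hpr⟩ := psl_cover (l := 2) p hC.perfect (by norm_num) (fun h => by omega) Φ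
  have h2 := two_le_card (l := 2) hC le_rfl Φ
  haveI : Nonempty ι := Fintype.card_pos_iff.1 (by omega)
  haveI : Finite (cA 2).Group := finite_W (cA 2).toCoxeterSystem (isCartan 2)
  haveI hchar : CharP (AlgebraicClosure F) p := charP_of_injective_algebraMap (algebraMap F _).injective p
  have R := Nodes.RGDTypeA.rgd (cA 2).toCoxeterSystem (isCartan 2) (F := E) (p := p)
  have hirr := ac_irr R (gg_eq_top (Nodes.RGDTypeA.G1_eq_top _ _)) slT_comm hφ hC.absIrred
  obtain ⟨ε⟩ := exists_emb E (AlgebraicClosure F) p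
  obtain ⟨v, hv, hv0, ψ, hψ0, a, b, ha, hb, hf, hc⟩ := sl3 (cs := (cA 2).toCoxeterSystem) (h := isCartan 2) p
    (ρ := lin (acRep φ)) hirr ε (by rwa [Module.finrank_fintype_fun_eq_card])
    (by rwa [Module.finrank_fintype_fun_eq_card])
  rw [Module.finrank_fintype_fun_eq_card] at hc
  exact ⟨φ, hφ, hk, hpr, irr_all hirr, ε, v, ψ, a, b, hv0, hψ0, ha, hb, hf, hc⟩

/-- **`SL(3, E)`: the dimension.** -/
theorem dim3 (hC : Core P) (Φ : Soc P ≃* ProjectiveSpecialLinearGroup (Fin (2 + 1)) E) (hn : Fintype.card ι < 12) :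
    Fintype.card ι = 3 ∨ Fintype.card ι = 6 ∨ Fintype.card ι = 9 ∨ Fintype.card ι = 10 ∨
      (SD P ∧ 6 ≤ Fintype.card ι ∧ Fintype.card ι ≤ 9) := by
  obtain ⟨φ, hφ, -, -, hirr, ε, v, ψ, a, b, hv0, hψ0, ha, hb, hf, hc⟩ := exists_rep3 p hC Φ hn
  have key : ∀ c, OneCase p 3 c (Fintype.card ι) → Fintype.card ι = 3 ∨ Fintype.card ι = 6 ∨ Fintype.card ι = 9 ∨
      Fintype.card ι = 10 := by
    rintro c (⟨r, e, hr, hrp, -, hn'⟩ | ⟨e, e', -, -, hn'⟩)
    · rcases (choose_cases hr hn').1 rfl (by omega) with ⟨-, h4⟩ | ⟨-, h4⟩ | ⟨-, h4⟩ <;> omega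
    · omega
  rcases hc with ⟨-, hc⟩ | ⟨-, hc⟩ | ⟨⟨i, j, rfl, rfl, hij⟩, h6, h9⟩
  · have := key _ hc; omega
  · have := key _ hc; omega
  · rcases hij with rfl | h
    · right; right; right; right
      refine ⟨sd_of_lin p hφ (sd_of_eq hirr (by norm_num) hv0 hψ0 hf), h6, h9⟩
    · omega

/-- **`SL(4, E)`: the dimension.** -/
theorem dim4 (hC : Core P) (Φ : Soc P ≃* ProjectiveSpecialLinearGroup (Fin (3 + 1)) E) (hn : Fintype.card ι < 12) :
    Fintype.card ι = 4 ∨ Fintype.card ι = 6 ∨ (2 < p ∧ Fintype.card ι = 10) := by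
  obtain ⟨φ, hφ, hk, hpr⟩ := psl_cover (l := 3) p hC.perfect (by norm_num) (fun h => by omega) Φ
  have h2 := two_le_card (l := 3) hC (by norm_num) Φ
  haveI : Nonempty ι := Fintype.card_pos_iff.1 (by omega)
  haveI : Finite (cA 3).Group := finite_W (cA 3).toCoxeterSystem (isCartan 3)
  haveI hchar : CharP (AlgebraicClosure F) p := charP_of_injective_algebraMap (algebraMap F _).injective p
  have R := Nodes.RGDTypeA.rgd (cA 3).toCoxeterSystem (isCartan 3) (F := E) (p := p)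
  have hirr := ac_irr R (gg_eq_top (Nodes.RGDTypeA.G1_eq_top _ _)) slT_comm hφ hC.absIrred
  obtain ⟨ε⟩ := exists_emb E (AlgebraicClosure F) p
  rcases sl4 (cs := (cA 3).toCoxeterSystem) (h := isCartan 3) p
    (ρ := lin (acRep φ)) hirr ε (by rwa [Module.finrank_fintype_fun_eq_card])
    (by rwa [Module.finrank_fintype_fun_eq_card]) with ⟨h1, -⟩ | ⟨v, hv, hv0, ψ, hψ0, a, b, ha, hb, hf, i, h | h⟩
  · rw [Module.finrank_fintype_fun_eq_card] at h1
    exact Or.inr (Or.inl h1)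
  · rw [Module.finrank_fintype_fun_eq_card] at h
    exact Or.inl h.1
  · rw [Module.finrank_fintype_fun_eq_card] at h
    exact Or.inr (Or.inr ⟨h.1, h.2.1⟩)

/-- **`SL(5, E)`: the dimension.** -/
theorem dim5 (hC : Core P) (Φ : Soc P ≃* ProjectiveSpecialLinearGroup (Fin (4 + 1)) E) (hn : Fintype.card ι < 15) :
    Fintype.card ι = 5 ∨ Fintype.card ι = 10 := by
  obtain ⟨φ, hφ, hk, hpr⟩ := psl_cover (l := 4) p hC.perfect (by norm_num) (fun h => by omega) Φ
  have h2 := two_le_card (l := 4) hC (by norm_num) Φ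
  haveI : Nonempty ι := Fintype.card_pos_iff.1 (by omega)
  haveI : Finite (cA 4).Group := finite_W (cA 4).toCoxeterSystem (isCartan 4)
  haveI hchar : CharP (AlgebraicClosure F) p := charP_of_injective_algebraMap (algebraMap F _).injective p
  have R := Nodes.RGDTypeA.rgd (cA 4).toCoxeterSystem (isCartan 4) (F := E) (p := p)
  have hirr := ac_irr R (gg_eq_top (Nodes.RGDTypeA.G1_eq_top _ _)) slT_comm hφ hC.absIrred
  obtain ⟨ε⟩ := exists_emb E (AlgebraicClosure F) p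
  rcases sl5 (cs := (cA 4).toCoxeterSystem) (h := isCartan 4) p
    (ρ := lin (acRep φ)) hirr ε (by rwa [Module.finrank_fintype_fun_eq_card])
    (by rwa [Module.finrank_fintype_fun_eq_card]) with ⟨h1, -⟩ | h1
  · rw [Module.finrank_fintype_fun_eq_card] at h1
    exact Or.inr h1
  · rw [Module.finrank_fintype_fun_eq_card] at h1
    exact Or.inl h1

/-- **The dimensions.** -/
theorem dim_cases {m : ℕ} (hC : Core P) (hm : 3 ≤ m) (hmn : m < Fintype.card ι) (hn : Fintype.card ι < 12)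
    (Φ : Soc P ≃* ProjectiveSpecialLinearGroup (Fin m) E) :
    (m = 3 ∧ (Fintype.card ι = 6 ∨ Fintype.card ι = 9 ∨ Fintype.card ι = 10 ∨
      (SD P ∧ 6 ≤ Fintype.card ι ∧ Fintype.card ι ≤ 9))) ∨
    (m = 4 ∧ (Fintype.card ι = 6 ∨ (2 < p ∧ Fintype.card ι = 10))) ∨ (m = 5 ∧ Fintype.card ι = 10) := by
  obtain ⟨l, rfl⟩ : ∃ l, m = l + 1 := ⟨m - 1, by omega⟩
  by_cases h6 : l < 5
  · have h7 : 2 ≤ l := by omega
    clear hm
    interval_cases l
    · left
      rcases dim3 p hC Φ hn with h | h | h | h | h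
      · omega
      · exact ⟨rfl, Or.inl h⟩
      · exact ⟨rfl, Or.inr (Or.inl h)⟩
      · exact ⟨rfl, Or.inr (Or.inr (Or.inl h))⟩
      · exact ⟨rfl, Or.inr (Or.inr (Or.inr h))⟩
    · have := dim4 p hC Φ hn
      omega
    · have := dim5 p hC Φ (by omega)
      omega
  · exfalso
    push Not at h6
    have h1 : (5 + 1).choose 2 ≤ (l + 1).choose 2 := Nat.choose_le_choose 2 (by omega)
    have h2 : (5 + 1).choose 2 = 15 := rfl
    have := card_eq_of_lt p hC (by omega) Φ (by omega)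
    omega

/-- **`n ∈ {7, 8, 11}`: self-dual.** -/
theorem sd_of_psl {m : ℕ} (hC : Core P) (hm : 3 ≤ m) (hmn : m < Fintype.card ι)
    (hn : Fintype.card ι = 7 ∨ Fintype.card ι = 8 ∨ Fintype.card ι = 11)
    (Φ : Soc P ≃* ProjectiveSpecialLinearGroup (Fin m) E) : SD P ∧ m = 3 ∧ Fintype.card ι ≤ 8 := by
  have := dim_cases p hC hm hmn (by omega) Φ
  rcases this with ⟨h1, h | h | h | ⟨h, h2, h3⟩⟩ | ⟨h1, h | ⟨-, h⟩⟩ | ⟨h1, h⟩
  · omega
  · omega
  · omega
  · exact ⟨h, h1, by omega⟩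
  · omega
  · omega
  · omega

end

end Cfsg.Agent.H887.DS
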