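import Cfsg.Agent.H887.DS.Low

/-!
# `SL(3, E)` in dimension 9 (helper887)

* `iso_of_coef'`, `trace_of_coef'` : `V₁` simple, `dim V₂ ≤ dim V₁`, same coefficient: isomorphic, same traces;
* `finrank_lt` : `dim V < |M|` if the functions `F α` are dependent;
* **`nine`** : `Core P`, `Soc P = PSL(3, E)`, `n = 9`: the traces are `σ(tr x) τ(tr x)` or `σ(tr x) τ(tr x⁻¹)`, `σ ≠ τ`.
-/

set_option autoImplicit false
set_option linter.unusedSectionVars false
set_option linter.style.haveILetI false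

namespace Cfsg.Agent.H887.DS

open Module

section

variable {G k V₁ V₂ : Type*} [Group G] [Field k] [AddCommGroup V₁] [Module k V₁] [AddCommGroup V₂] [Module k V₂]
  {ρ₁ : G →* Module.End k V₁} {ρ₂ : G →* Module.End k V₂}
  (hirr₁ : ∀ L : Submodule k V₁, (∀ g, ∀ w ∈ L, ρ₁ g w ∈ L) → L = ⊥ ∨ L = ⊤)
  {φ₁ : Module.Dual k V₁} {v₁ : V₁} {φ₂ : Module.Dual k V₂} {v₂ : V₂}
include hirr₁

/-- **Same coefficient, isomorphic**, one of the modules simple, dimensions. -/
theorem iso_of_coef' [FiniteDimensional k V₂] (hφ₁ : φ₁ ≠ 0) (hv₁ : v₁ ≠ 0) (hd : finrank k V₂ ≤ finrank k V₁)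
    (h : ∀ g, φ₁ (ρ₁ g v₁) = φ₂ (ρ₂ g v₂)) : ∃ θ : V₁ ≃ₗ[k] V₂, ∀ g v, θ (ρ₁ g v) = ρ₂ g (θ v) := by
  have i1 := Psi_injective hirr₁ hφ₁
  have hr : LinearMap.range (Psi ρ₁ φ₁) =
      (Submodule.span k (Set.range fun g => ρ₂ g v₂)).map (Psi ρ₂ φ₂) := by
    rw [LinearMap.range_eq_map, ← span_eq_top hirr₁ hv₁, Submodule.map_span, Submodule.map_span, ← Set.range_comp,
      ← Set.range_comp]
    congr 2
    funext g
    funext x
    rw [Function.comp_apply, Function.comp_apply, Psi_apply, Psi_apply]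
    have h1 := h (x * g)
    rw [map_mul, map_mul] at h1
    exact h1
  have e1 : finrank k V₁ = finrank k ((Submodule.span k (Set.range fun g => ρ₂ g v₂)).map (Psi ρ₂ φ₂)) := by
    rw [← hr]
    exact (LinearMap.finrank_range_of_inj i1).symm
  have hle : (Submodule.span k (Set.range fun g => ρ₂ g v₂)).map (Psi ρ₂ φ₂) ≤ LinearMap.range (Psi ρ₂ φ₂) :=
    LinearMap.map_le_range
  haveI : FiniteDimensional k (LinearMap.range (Psi ρ₂ φ₂)) := inferInstance
  have e2 := Submodule.finrank_mono hle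
  have e3 := (Psi ρ₂ φ₂).finrank_range_add_finrank_ker
  have e4 : finrank k (LinearMap.ker (Psi ρ₂ φ₂)) = 0 := by omega
  have i2 : Function.Injective (Psi ρ₂ φ₂) := by
    rw [← LinearMap.ker_eq_bot]
    exact Submodule.finrank_eq_zero.1 e4
  have hr' : LinearMap.range (Psi ρ₁ φ₁) = LinearMap.range (Psi ρ₂ φ₂) := by
    rw [hr]
    exact Submodule.eq_of_le_of_finrank_le hle (by omega)
  let θ : V₁ ≃ₗ[k] V₂ := (LinearEquiv.ofInjective _ i1).trans
    ((LinearEquiv.ofEq _ _ hr').trans (LinearEquiv.ofInjective _ i2).symm)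
  have hθ : ∀ v, Psi ρ₂ φ₂ (θ v) = Psi ρ₁ φ₁ v := by
    intro v
    have h1 := (LinearEquiv.ofInjective (Psi ρ₂ φ₂) i2).apply_symm_apply
      ((LinearEquiv.ofEq _ _ hr') ((LinearEquiv.ofInjective _ i1) v))
    have h2 := congrArg Subtype.val h1
    exact h2
  refine ⟨θ, fun g v => ?_⟩
  apply i2
  rw [hθ]
  funext x
  have h1 := congrFun (hθ v) (x * g)
  rw [Psi_apply, Psi_apply, map_mul, map_mul] at h1
  exact h1.symm

theorem trace_of_coef' [FiniteDimensional k V₂] (hφ₁ : φ₁ ≠ 0) (hv₁ : v₁ ≠ 0) (hd : finrank k V₂ ≤ finrank k V₁)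
    (h : ∀ g, φ₁ (ρ₁ g v₁) = φ₂ (ρ₂ g v₂)) (g : G) :
    LinearMap.trace k V₁ (ρ₁ g) = LinearMap.trace k V₂ (ρ₂ g) := by
  obtain ⟨θ, hθ⟩ := iso_of_coef' hirr₁ hφ₁ hv₁ hd h
  have h1 : ρ₂ g = θ.conj (ρ₁ g) := by
    ext v
    rw [LinearEquiv.conj_apply_apply, hθ, θ.apply_symm_apply]
  rw [h1, LinearMap.trace_conj']

variable {M : Type*} [Fintype M] {c : M → k} {F Gf : M → G → k}

theorem finrank_lt (hφ : φ₁ ≠ 0) (hv : v₁ ≠ 0) (hf : ∀ h g, φ₁ (ρ₁ (h * g) v₁) = ∑ α, c α * F α h * Gf α g)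
    (hF : ∃ x : M → k, x ≠ 0 ∧ ∀ h, ∑ α, x α * F α h = 0) : finrank k V₁ < Fintype.card M := by
  rw [finrank_eq hirr₁ hφ hv hf]
  have h1 : (Submodule.span k (Set.range fun g => (fun α => c α * Gf α g : M → k))).map
      (Fintype.linearCombination k F) ≤ LinearMap.range (Fintype.linearCombination k F) := LinearMap.map_le_range
  haveI : FiniteDimensional k (LinearMap.range (Fintype.linearCombination k F)) := inferInstance
  refine (Submodule.finrank_mono h1).trans_lt ?_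
  have h2 := (Fintype.linearCombination k F).finrank_range_add_finrank_ker
  rw [Module.finrank_fintype_fun_eq_card] at h2
  have h3 : 0 < finrank k (LinearMap.ker (Fintype.linearCombination k F)) := by
    rw [Module.finrank_pos_iff_exists_ne_zero]
    obtain ⟨x, hx, hx'⟩ := hF
    refine ⟨⟨x, ?_⟩, fun h0 => hx (congrArg Subtype.val h0)⟩
    rw [LinearMap.mem_ker, Fintype.linearCombination_apply]
    funext h
    rw [Finset.sum_apply, Pi.zero_apply, ← hx' h]
    exact Finset.sum_congr rfl fun α _ => rfl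
  omega

end

section PP

variable {G k V : Type*} [Group G] [Field k] [AddCommGroup V] [Module k V]
  {ρ : G →* Module.End k V} (hirr : ∀ L : Submodule k V, (∀ g, ∀ w ∈ L, ρ g w ∈ L) → L = ⊥ ∨ L = ⊤)
  {φ : Module.Dual k V} {v : V} {E : Type*} [Field E] (ι : E →+* k) {p : ℕ} [hp : Fact p.Prime] [CharP k p]
  {X Z Y W : G → Fin 3 → E}
include hirr

theorem two_PP_le (hXZ : ∀ g, X g 0 * Z g 0 + X g 1 * Z g 1 + X g 2 * Z g 2 = 0) (hφ : φ ≠ 0) (hv : v ≠ 0) {i : ℕ}
    (hf : ∀ h g, φ (ρ (h * g) v) = ι (∑ j, X h j * Y g j) ^ p ^ i * ι (∑ j, Z h j * W g j) ^ p ^ i) :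
    finrank k V ≤ 8 := by
  have h1 := finrank_lt hirr (M := Fin 3 × Fin 3)
    (c := fun _ => (1 : k)) (F := fun κ h => ι (X h κ.1) ^ p ^ i * ι (Z h κ.2) ^ p ^ i)
    (Gf := fun κ g => ι (Y g κ.1) ^ p ^ i * ι (W g κ.2) ^ p ^ i) hφ hv ?_ ?_
  · rw [Fintype.card_prod, Fintype.card_fin] at h1
    omega
  · intro h g
    rw [hf, map_sum, map_sum, sum_pow_char_pow, sum_pow_char_pow, Finset.sum_mul_sum, ← Finset.univ_product_univ,
      Finset.sum_product]
    refine Finset.sum_congr rfl fun s _ => Finset.sum_congr rfl fun t _ => ?_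
    rw [map_mul, map_mul, mul_pow, mul_pow]
    ring
  · refine ⟨fun s => if s.1 = s.2 then 1 else 0, ?_, ?_⟩
    · intro h0
      have := congrFun h0 (0, 0)
      simp at this
    · intro g
      rw [Fintype.sum_prod_type, Fin.sum_univ_three, Fin.sum_univ_three, Fin.sum_univ_three, Fin.sum_univ_three]
      have h2 : ι (X g 0 * Z g 0 + X g 1 * Z g 1 + X g 2 * Z g 2) ^ p ^ i = 0 := by
        rw [hXZ, map_zero, zero_pow (pow_pos hp.out.pos i).ne']
      rw [map_add, map_add, map_mul, map_mul, map_mul, add_pow_char_pow, add_pow_char_pow, mul_pow, mul_pow, mul_pow] at h2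
      simpa using h2

end PP

section kron

open Matrix Kronecker

variable {E : Type*} [Field E] {k : Type*} [Field k] {m : ℕ}

/-- the inverse transpose -/
def it (g : SpecialLinearGroup (Fin m) E) : SpecialLinearGroup (Fin m) E := (g⁻¹).transpose

theorem it_mul (g h : SpecialLinearGroup (Fin m) E) : it (g * h) = it g * it h := by
  unfold it
  apply Subtype.ext
  rw [_root_.mul_inv_rev]
  change ((h⁻¹).1 * (g⁻¹).1)ᵀ = ((g⁻¹).1)ᵀ * ((h⁻¹).1)ᵀ
  rw [Matrix.transpose_mul]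

theorem it_one : it (1 : SpecialLinearGroup (Fin m) E) = 1 := by
  unfold it
  apply Subtype.ext
  rw [inv_one]
  change (1 : Matrix (Fin m) (Fin m) E)ᵀ = 1
  rw [Matrix.transpose_one]

theorem it_apply (g : SpecialLinearGroup (Fin m) E) (i j : Fin m) : (it g).1 i j = (g⁻¹).1 j i := rfl

theorem it_it (g : SpecialLinearGroup (Fin m) E) : it (it g) = g := by
  have h1 : it g⁻¹ = (it g)⁻¹ := by
    rw [eq_inv_iff_mul_eq_one, ← it_mul, inv_mul_cancel, it_one]
  apply Subtype.ext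
  ext i j
  rw [it_apply, ← h1, it_apply, inv_inv]

/-- the inverse transpose as an automorphism -/
def itE (E : Type*) [Field E] (m : ℕ) : SpecialLinearGroup (Fin m) E ≃* SpecialLinearGroup (Fin m) E where
  toFun := it
  invFun := it
  left_inv := it_it
  right_inv := it_it
  map_mul' := it_mul

/-- the Kronecker product of two twists -/
def kr (σ τ : E →+* k) (a b : SpecialLinearGroup (Fin m) E →* SpecialLinearGroup (Fin m) E) :
    SpecialLinearGroup (Fin m) E →* Matrix (Fin m × Fin m) (Fin m × Fin m) k where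
  toFun g := ((a g).1.map σ) ⊗ₖ ((b g).1.map τ)
  map_one' := by
    rw [map_one, map_one]
    change ((1 : Matrix (Fin m) (Fin m) E).map σ) ⊗ₖ ((1 : Matrix (Fin m) (Fin m) E).map τ) = 1
    rw [Matrix.map_one σ (map_zero σ) (map_one σ), Matrix.map_one τ (map_zero τ) (map_one τ), Matrix.one_kronecker_one]
  map_mul' g h := by
    rw [map_mul, map_mul]
    change (((a g).1 * (a h).1).map σ) ⊗ₖ (((b g).1 * (b h).1).map τ) = _
    rw [Matrix.map_mul, Matrix.map_mul, Matrix.mul_kronecker_mul]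

theorem kr_apply (σ τ : E →+* k) (a b : SpecialLinearGroup (Fin m) E →* SpecialLinearGroup (Fin m) E)
    (g : SpecialLinearGroup (Fin m) E) (s t : Fin m × Fin m) :
    kr σ τ a b g s t = σ ((a g).1 s.1 t.1) * τ ((b g).1 s.2 t.2) := rfl

theorem kr_trace (σ τ : E →+* k) (a b : SpecialLinearGroup (Fin m) E →* SpecialLinearGroup (Fin m) E)
    (g : SpecialLinearGroup (Fin m) E) : (kr σ τ a b g).trace = σ ((a g).1.trace) * τ ((b g).1.trace) := by
  change (((a g).1.map σ) ⊗ₖ ((b g).1.map τ)).trace = _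
  rw [Matrix.trace_kronecker, ← AddMonoidHom.map_trace σ, ← AddMonoidHom.map_trace τ]

end kron

section nine

open Matrix Cfsg.Agent.H905.Md Cfsg.Agent.H911
open Cfsg Cfsg.Geo Cfsg.Agent.H67
open Cfsg.Agent.H915.LD (Core Soc tr SD Fr Cj)

universe u

variable {F : Type u} [Field F] [Finite F] {ι : Type} [Fintype ι] [DecidableEq ι] {P : Subgroup (GL ι F)}
  {E : Type*} [Field E] [Finite E] (p : ℕ) [hp : Fact p.Prime] [hFp : CharP F p] [hEp : CharP E p]

omit hFp [Finite E] hEp in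
theorem iterate_emb {k : Type*} [Field k] [CharP k p] (ε : E →+* k) (i : ℕ) :
    ∃ σ : E →+* k, ∀ x, σ x = ε x ^ p ^ i :=
  ⟨(iterateFrobenius k p i).comp ε, fun x => by
    rw [RingHom.comp_apply, iterateFrobenius_def]⟩

theorem nine_aux {φ : SpecialLinearGroup (Fin 3) E →* GL ι F}
    (hirr : ∀ L : Submodule (AlgebraicClosure F) (ι → AlgebraicClosure F), (∀ g, ∀ w ∈ L, lin (acRep φ) g w ∈ L) →
        L = ⊥ ∨ L = ⊤) (hn : Fintype.card ι = 9) {v : ι → AlgebraicClosure F}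
    {ψ : Module.Dual (AlgebraicClosure F) (ι → AlgebraicClosure F)} (hv : v ≠ 0) (hψ : ψ ≠ 0)
    {σ τ : E →+* AlgebraicClosure F} {a b : SpecialLinearGroup (Fin 3) E →* SpecialLinearGroup (Fin 3) E}
    (s : Fin 3 × Fin 3) (h : ∀ g, ψ (lin (acRep φ) g v) = σ ((a g).1 s.1 s.1) * τ ((b g).1 s.2 s.2))
    (x : SpecialLinearGroup (Fin 3) E) :
    algebraMap F (AlgebraicClosure F) ((φ x : Matrix ι ι F).trace) = σ ((a x).1.trace) * τ ((b x).1.trace) := by
  have h1 := trace_of_coef' hirr (ρ₂ := lin (kr σ τ a b)) (φ₂ := LinearMap.proj s) (v₂ := Pi.single s 1) hψ hv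
    (by rw [Module.finrank_fintype_fun_eq_card, Module.finrank_fintype_fun_eq_card, hn]; rfl) (fun g => by
      rw [h, lin_apply, Matrix.mulVec_single_one]
      rfl) x
  rw [trace_lin, trace_lin, trace_acRep, kr_trace] at h1
  exact h1

include p in
/-- **Dimension 9.** -/
theorem nine (hC : Core P) (Φ : Soc P ≃* ProjectiveSpecialLinearGroup (Fin 3) E) (hn : Fintype.card ι = 9) :
    ∃ φ : SpecialLinearGroup (Fin 3) E →* GL ι F, φ.range = P ∧
      φ.ker ≤ Subgroup.center (SpecialLinearGroup (Fin 3) E) ∧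
      (∀ L : Submodule (AlgebraicClosure F) (ι → AlgebraicClosure F), (∀ g, ∀ w ∈ L, lin (acRep φ) g w ∈ L) →
        L = ⊥ ∨ L = ⊤) ∧
      ∃ (σ τ : E →+* AlgebraicClosure F), σ ≠ τ ∧
        ((∀ x, algebraMap F (AlgebraicClosure F) ((φ x : Matrix ι ι F).trace) = σ (x.1.trace) * τ (x.1.trace)) ∨
        (∀ x, algebraMap F (AlgebraicClosure F) ((φ x : Matrix ι ι F).trace) = σ (x.1.trace) * τ ((x⁻¹).1.trace))) := by
  obtain ⟨φ, hφ, hk, -, hirr, ε, v, ψ, a, b, hv0, hψ0, ha, hb, hf, hc⟩ := exists_rep3 p hC Φ (by omega)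
  haveI hchar : CharP (AlgebraicClosure F) p := charP_of_injective_algebraMap (algebraMap F _).injective p
  have htr : ∀ x : SpecialLinearGroup (Fin 3) E, (it x).1.trace = (x⁻¹).1.trace := fun x => by
    change ((x⁻¹).1ᵀ).trace = _
    rw [Matrix.trace_transpose]
  have one : ∀ c, c < Nat.card E → OneCase p 3 c (Fintype.card ι) → ∃ i j, c = p ^ i + p ^ j ∧
      p ^ i < Nat.card E ∧ p ^ j < Nat.card E ∧ p ^ i ≠ p ^ j := by
    rintro c hcE (⟨r, e, hr, hrp, -, hn'⟩ | ⟨e, e', h1, h2, -⟩)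
    · rcases (choose_cases hr hn').1 rfl (by omega) with ⟨-, h4⟩ | ⟨-, h4⟩ | ⟨-, h4⟩ <;> omega
    · exact ⟨e, e', h2, by omega, by omega, fun h3 => h1.ne (Nat.pow_right_injective hp.out.two_le h3)⟩
  have hne : ∀ (σ τ : E →+* AlgebraicClosure F) (i j : ℕ), (∀ x, σ x = ε x ^ p ^ i) → (∀ x, τ x = ε x ^ p ^ j) →
      p ^ i ≠ p ^ j → p ^ i < Nat.card E → p ^ j < Nat.card E → σ ≠ τ := by
    intro σ τ i j hσ hτ hij h1 h2 e
    obtain ⟨u, hu⟩ := exists_ne ε hij h1 h2
    rw [← hσ, ← hτ, e] at hu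
    exact hu rfl
  rcases hc with ⟨rfl, hc⟩ | ⟨rfl, hc⟩ | ⟨⟨i, j, rfl, rfl, hij⟩, h6, h9⟩
  · obtain ⟨i, j, rfl, h1, h2, h3⟩ := one _ ha hc
    obtain ⟨σ, hσ⟩ := iterate_emb p ε i
    obtain ⟨τ, hτ⟩ := iterate_emb p ε j
    refine ⟨φ, hφ, hk, hirr, σ, τ, hne σ τ i j hσ hτ h3 h1 h2, Or.inl fun x => ?_⟩
    exact nine_aux hirr hn hv0 hψ0 (a := MonoidHom.id _) (b := MonoidHom.id _) (0, 0) (fun g => by
      rw [hf]
      unfold xi
      rw [pow_zero, mul_one, pow_add, ← hσ, ← hτ]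
      rfl) x
  · -- the dual
    obtain ⟨i, j, rfl, h1, h2, h3⟩ := one _ hb hc
    obtain ⟨σ, hσ⟩ := iterate_emb p ε i
    obtain ⟨τ, hτ⟩ := iterate_emb p ε j
    have key : ∀ x, algebraMap F (AlgebraicClosure F) ((φ x : Matrix ι ι F).trace) = σ ((it x).1.trace) * τ ((it x).1.trace) :=
      nine_aux hirr hn hv0 hψ0 (a := (itE E 3).toMonoidHom) (b := (itE E 3).toMonoidHom) (2, 2) (fun g => by
        rw [hf]
        unfold xi
        rw [pow_zero, one_mul, pow_add, ← hσ, ← hτ]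
        rfl)
    have hker : (φ.comp (itE E 3).toMonoidHom).ker ≤ Subgroup.center (SpecialLinearGroup (Fin 3) E) := by
      intro x hx
      rw [MonoidHom.mem_ker, MonoidHom.comp_apply] at hx
      have h4 : itE E 3 x ∈ Subgroup.center (SpecialLinearGroup (Fin 3) E) := hk (MonoidHom.mem_ker.2 hx)
      rw [Subgroup.mem_center_iff] at h4 ⊢
      intro y
      have h5 := h4 (itE E 3 y)
      rw [← map_mul, ← map_mul] at h5
      exact (itE E 3).injective h5
    refine ⟨φ.comp (itE E 3).toMonoidHom, ?_, hker, ?_, σ, τ, hne σ τ i j hσ hτ h3 h1 h2, Or.inl fun x => ?_⟩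
    · rw [MonoidHom.range_comp, MonoidHom.range_eq_top.2 (itE E 3).surjective, ← MonoidHom.range_eq_map, hφ]
    · intro L hL
      refine hirr L fun g w hw => ?_
      have h4 := hL (it g) w hw
      have h5 : lin (acRep (φ.comp (itE E 3).toMonoidHom)) (it g) = lin (acRep φ) g := by
        have h6 : acRep (φ.comp (itE E 3).toMonoidHom) (it g) = acRep φ g := by
          rw [acRep_apply, acRep_apply]
          change (φ (it (it g)) : Matrix ι ι F).map _ = _
          rw [it_it]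
        change Matrix.toLin' _ = Matrix.toLin' _
        rw [h6]
      rwa [h5] at h4
    · have h4 := key (it x)
      rw [it_it] at h4
      exact h4
  · have hij' : i ≠ j := by
      rintro rfl
      have h8 := two_PP_le hirr ε (p := p) (i := i) (φ := ψ) (v := v) (X := fun x j => x.1 0 j)
        (Z := fun x j => (x⁻¹).1 j (Fin.last 2)) (Y := fun y j => y.1 j 0) (W := fun y j => (y⁻¹).1 (Fin.last 2) j)
        (fun g => by
          have q1 : (g * g⁻¹).1 0 (Fin.last 2) = 0 := by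
            rw [mul_inv_cancel]
            rfl
          change (g.1 * (g⁻¹).1) 0 (Fin.last 2) = 0 at q1
          rw [Matrix.mul_apply, Fin.sum_univ_three] at q1
          exact q1) hψ0 hv0 (fun x y => by rw [hf, xi_mul])
      rw [Module.finrank_fintype_fun_eq_card] at h8
      omega
    have h3 : p ^ i ≠ p ^ j := fun h3 => hij' (Nat.pow_right_injective hp.out.two_le h3)
    obtain ⟨σ, hσ⟩ := iterate_emb p ε i
    obtain ⟨τ, hτ⟩ := iterate_emb p ε j
    refine ⟨φ, hφ, hk, hirr, σ, τ, hne σ τ i j hσ hτ h3 ha hb, Or.inr fun x => ?_⟩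
    have h4 := nine_aux hirr hn hv0 hψ0 (σ := σ) (τ := τ) (a := MonoidHom.id _) (b := (itE E 3).toMonoidHom) (0, 2)
      (fun g => by
        rw [hf]
        unfold xi
        rw [← hσ, ← hτ]
        rfl) x
    rw [h4]
    change _ * τ ((it x).1.trace) = _
    rw [htr]
    rfl

end nine

end Cfsg.Agent.H887.DS
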