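import Cfsg.Agent.H887.DS.Minor2
import Cfsg.Agent.H887.DS.SixTen

/-!
# `SL(4, E)` in dimension 6, `SL(5, E)` in dimension 10 (helper887)

* `fr_xf`, `cj_xf` : fields and unitary forms for the coefficient with minors;
* **`six4`** : `Core P`, `Soc P = PSL(4, E)`, `n = 6`: `SD P`;
* **`ten5`** : `Core P`, `Soc P = PSL(5, E)`, `n = 10`: `|E| = |F|`, not `Cj P (p ^ k)`.
-/

set_option autoImplicit false
set_option linter.unusedSectionVars false
set_option linter.style.haveILetI false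

namespace Cfsg.Agent.H887.DS

open Matrix CoxeterSystem Cfsg.Agent.ChevalleyStructure.CoxeterGeom Cfsg.Agent.Tits.Roots Cfsg.Agent.Tits.Core
  Cfsg.Agent.Tits.Exchange Cfsg.Agent.Nodes.Reps Cfsg.Agent.Nodes.BNOf Cfsg.Agent.Nodes.StabComb
  Cfsg.Agent.Nodes.Bruhat Cfsg.Agent.Nodes.OppDec Cfsg.Agent.Nodes.LeviDec Cfsg.Agent.KFacts.RgdOpp
  Cfsg.Agent.Omega.CR Cfsg.Agent.Omega.FOne.Lift.Sd Cfsg.Agent.Nodes.RootsA Cfsg.Agent.Nodes.RGDTypeA
open Cfsg.Agent.LieRecognition.BNCox (cA cA_apply)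
open Cfsg.Agent.TitsThree.KSideA (tv tv_of_ne tv_add tv_zero tv_neg tv_comm tv_commute)
open Cfsg.Agent.H905.Md Module Cfsg.Agent.H911
open Cfsg Cfsg.Geo Cfsg.Agent.H67
open Cfsg.Agent.H915.LD (Core Soc tr SD Fr Cj)

universe u

section conj

variable {G k V : Type*} [Group G] [Field k] [AddCommGroup V] [Module k V] {ρ : G →* Module.End k V}

theorem comp_ne_zero {φ : Module.Dual k V} (hφ : φ ≠ 0) (w : G) : φ.comp (ρ w) ≠ 0 := by
  intro h0
  apply hφ
  ext x
  have h1 := congrArg (fun f : Module.Dual k V => f (ρ w⁻¹ x)) h0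
  change φ (ρ w (ρ w⁻¹ x)) = 0 at h1
  rwa [← rho_mul, mul_inv_cancel, map_one] at h1

theorem rho_ne_zero {v : V} (hv : v ≠ 0) (w : G) : ρ w v ≠ 0 := by
  intro h0
  apply hv
  have h1 := congrArg (ρ w⁻¹) h0
  rwa [← rho_mul, inv_mul_cancel, map_one, map_zero] at h1

end conj

section sd

variable {E : Type*} [Field E] {l : ℕ} {k V : Type*} [Field k] [AddCommGroup V] [Module k V] [FiniteDimensional k V]
  {ρ : SpecialLinearGroup (Fin (l + 1)) E →* Module.End k V}
  (hirr : ∀ L : Submodule k V, (∀ g, ∀ w ∈ L, ρ g w ∈ L) → L = ⊥ ∨ L = ⊤) {ι : E →+* k} {a b c d : ℕ} {v : V}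
  {φ : Module.Dual k V} {o z : Fin (l + 1)}
include hirr

/-- **Self-dual.** -/
theorem sd_of_pal (hl : 3 ≤ l) (ho : o.val = 1) (hz : z.val + 1 = l) (hv : v ≠ 0) (hφ : φ ≠ 0)
    (hf : ∀ g, φ (ρ g v) = xf ι o z a b c d g) (hf' : ∀ g, φ (ρ g v) = xf ι o z d c b a g)
    (g : SpecialLinearGroup (Fin (l + 1)) E) : LinearMap.trace k V (ρ g⁻¹) = LinearMap.trace k V (ρ g) := by
  refine dual_of_coef hirr (φ := φ) (v := v) (φ' := φ.comp (ρ (ww E o z))) (v' := ρ (ww E o z)⁻¹ v) hφ hv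
    (comp_ne_zero hφ _) (rho_ne_zero hv _) ?_ g
  intro g
  change φ (ρ g⁻¹ v) = φ (ρ (ww E o z) (ρ g (ρ (ww E o z)⁻¹ v)))
  rw [← rho_mul, ← rho_mul, hf', hf, ← xf_ww hl ho hz]
  congr 1
  group

end sd

section xf

variable {F : Type u} [Field F] [Finite F] {ι : Type} [Fintype ι] [DecidableEq ι] [Nonempty ι] {P : Subgroup (GL ι F)}
  {E : Type*} [Field E] [Finite E] (p : ℕ) [hp : Fact p.Prime] [hFp : CharP F p] [hEp : CharP E p] {l : ℕ}
  {φ : SpecialLinearGroup (Fin (l + 1)) E →* GL ι F}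
  (hirr : ∀ L : Submodule (AlgebraicClosure F) (ι → AlgebraicClosure F), (∀ g, ∀ w ∈ L, lin (acRep φ) g w ∈ L) →
    L = ⊥ ∨ L = ⊤)
  {v : ι → AlgebraicClosure F} {ψ : Module.Dual (AlgebraicClosure F) (ι → AlgebraicClosure F)}
  (hv : v ≠ 0) (hψ : ψ ≠ 0) {ε : E →+* AlgebraicClosure F} {a b c d : ℕ} {o z : Fin (l + 1)}
  (hl : 3 ≤ l) (ho : o.val = 1) (hz : z.val + 1 = l)
  (hf : ∀ g, ψ (lin (acRep φ) g v) = xf ε o z a b c d g)
include p hp hFp hEp hirr hv hψ hl ho hz hf

/-- **The field.** -/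
theorem fr_xf (g : SpecialLinearGroup (Fin (l + 1)) E) : xf ε o z a b c d g ^ Nat.card F = xf ε o z a b c d g := by
  obtain ⟨v', ψ', hv', hψ', hf'⟩ := fr_coef hv hψ hf
  exact unique_of_coef p hirr hv hψ hf (fun c d hcd t g => xf_mul_tv hl ho hz hcd t g)
    (fun c d hcd t g => xf_tv_mul hl ho hz hcd t g)
    hv' hψ' hf' (fun c d hcd t g => by rw [xf_mul_tv hl ho hz hcd]) (fun c d hcd t g => by rw [xf_tv_mul hl ho hz hcd])
    (xf_one hl ho hz) (by rw [xf_one hl ho hz, one_pow]) g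

/-- **Unitary groups.** -/
theorem cj_xf (hφ : φ.range = P) (hP : ActsAbsolutelyIrreducibly (matrixSet P)) {k : ℕ}
    (hCj : Cj P (p ^ k)) (g : SpecialLinearGroup (Fin (l + 1)) E) :
    xf ε o z d c b a g ^ p ^ k = xf ε o z a b c d g := by
  obtain ⟨v', ψ', hv', hψ', hf'⟩ := cj_coef p hφ hP hCj hv hψ hf
  refine unique_of_coef p hirr hv hψ hf (fun c d hcd t g => xf_mul_tv hl ho hz hcd t g)
    (fun c d hcd t g => xf_tv_mul hl ho hz hcd t g)
    (v' := lin (acRep φ) (ww E o z)⁻¹ v') (ψ' := ψ'.comp (lin (acRep φ) (ww E o z)))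
    (f' := fun g => xf ε o z d c b a g ^ p ^ k)
    (rho_ne_zero hv' _) (comp_ne_zero hψ' _) ?_ (fun c d hcd t g => by simp only [xf_mul_tv hl ho hz hcd])
    (fun c d hcd t g => by simp only [xf_tv_mul hl ho hz hcd]) (xf_one hl ho hz)
    (by simp only [xf_one hl ho hz, one_pow]) g
  intro g
  change ψ' (lin (acRep φ) (ww E o z) (lin (acRep φ) g (lin (acRep φ) (ww E o z)⁻¹ v'))) = _
  rw [← rho_mul, ← rho_mul, hf', xf_ww hl ho hz]

/-- the exponents and the field -/
theorem dvd_xf (i : Fin l) : Nat.card E - 1 ∣ ((if i.val = 0 then a else 0) +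
    (if i.val = 1 then b else 0) + (if i.val + 2 = l then c else 0) + (if i.val + 1 = l then d else 0)) *
      (Nat.card F - 1) := by
  refine dvd_of_pow_eq ε Nat.card_pos fun s => ?_
  have h1 := fr_xf p hirr hv hψ hl ho hz hf (hs i s)
  rwa [xf_hs hl ho hz] at h1

end xf

section

variable {F : Type u} [Field F] [Finite F] {ι : Type} [Fintype ι] [DecidableEq ι] {P : Subgroup (GL ι F)}
  {E : Type*} [Field E] [Finite E] (p : ℕ) [hp : Fact p.Prime] [hFp : CharP F p] [hEp : CharP E p]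
include hp hFp hEp

/-- **`m = 4`, `n = 6`.** -/
theorem six4 (hC : Core P) (Φ : Soc P ≃* ProjectiveSpecialLinearGroup (Fin 4) E) (hn : Fintype.card ι = 6) : SD P := by
  obtain ⟨φ, hφ, hk, hpr⟩ := psl_cover (l := 3) p hC.perfect (by norm_num) (fun h => by omega) Φ
  haveI : Nonempty ι := Fintype.card_pos_iff.1 (by omega)
  haveI : Finite (cA 3).Group := finite_W (cA 3).toCoxeterSystem (isCartan 3)
  haveI hchar : CharP (AlgebraicClosure F) p := charP_of_injective_algebraMap (algebraMap F _).injective p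
  have R := Nodes.RGDTypeA.rgd (cA 3).toCoxeterSystem (isCartan 3) (F := E) (p := p)
  have hirr := ac_irr R (gg_eq_top (Nodes.RGDTypeA.G1_eq_top _ _)) slT_comm hφ hC.absIrred
  obtain ⟨ε⟩ := exists_emb E (AlgebraicClosure F) p
  rcases sl4 (cs := (cA 3).toCoxeterSystem) (h := isCartan 3) p
    (ρ := lin (acRep φ)) hirr ε (by rw [Module.finrank_fintype_fun_eq_card]; omega)
    (by rw [Module.finrank_fintype_fun_eq_card]; omega) with ⟨-, hJ⟩ | ⟨v, hv, hv0, ψ, hψ0, a, b, ha, hb, hf, i, h | h⟩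
  · have ho : (1 : Fin (3 + 1)).val = 1 := rfl
    have hz : (2 : Fin (3 + 1)).val + 1 = 3 := rfl
    obtain ⟨v, hv, hv0, ψ, hψ0, e, he, heJ, hf⟩ := exists_coef4 (cs := (cA 3).toCoxeterSystem) (h := isCartan 3) p
      (ρ := lin (acRep φ)) ε hirr (o := 1) (z := 2) le_rfl ho hz
    have e0 : e 0 = 0 := by
      rw [← heJ]
      by_contra hcon
      exact absurd ((hJ 0).1 hcon) (by decide)
    have e2 : e 2 = 0 := by
      rw [← heJ]
      by_contra hcon
      exact absurd ((hJ 2).1 hcon) (by decide)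
    refine sd_of_lin p hφ (sd_of_pal (irr_all hirr) le_rfl ho hz hv0 hψ0 (hf 0 (e 1) 0 0 ?_) (hf 0 0 (e 1) 0 ?_))
    · intro i
      fin_cases i
      · simp [e0]
      · simp
      · simp [e2]
    · intro i
      fin_cases i
      · simp [e0]
      · simp
      · simp [e2]
  · rw [Module.finrank_fintype_fun_eq_card] at h
    omega
  · rw [Module.finrank_fintype_fun_eq_card] at h
    omega

/-- **`m = 5`, `n = 10`.** -/
theorem ten5 (hC : Core P) (Φ : Soc P ≃* ProjectiveSpecialLinearGroup (Fin 5) E) (hn : Fintype.card ι = 10) :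
    Nat.card E = Nat.card F ∧ ∀ k, ¬ Cj P (p ^ k) := by
  obtain ⟨φ, hφ, hk, hpr⟩ := psl_cover (l := 4) p hC.perfect (by norm_num) (fun h => by omega) Φ
  haveI : Nonempty ι := Fintype.card_pos_iff.1 (by omega)
  haveI : Finite (cA 4).Group := finite_W (cA 4).toCoxeterSystem (isCartan 4)
  haveI hchar : CharP (AlgebraicClosure F) p := charP_of_injective_algebraMap (algebraMap F _).injective p
  obtain ⟨j, hj, hFE⟩ := psl_card (l := 4) p hC.absIrred hC.perfect (by norm_num) (fun h => by omega) Φ hC.no_subfield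
  have R := Nodes.RGDTypeA.rgd (cA 4).toCoxeterSystem (isCartan 4) (F := E) (p := p)
  have hirr := ac_irr R (gg_eq_top (Nodes.RGDTypeA.G1_eq_top _ _)) slT_comm hφ hC.absIrred
  obtain ⟨ε⟩ := exists_emb E (AlgebraicClosure F) p
  rcases sl5 (cs := (cA 4).toCoxeterSystem) (h := isCartan 4) p
    (ρ := lin (acRep φ)) hirr ε (by rw [Module.finrank_fintype_fun_eq_card]; omega)
    (by rw [Module.finrank_fintype_fun_eq_card]; omega) with ⟨-, i₀, hi₀, hJ⟩ | h
  · have ho : (1 : Fin (4 + 1)).val = 1 := rfl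
    have hz : (3 : Fin (4 + 1)).val + 1 = 4 := rfl
    obtain ⟨v, hv, hv0, ψ, hψ0, e, he, heJ, hf⟩ := exists_coef4 (cs := (cA 4).toCoxeterSystem) (h := isCartan 4) p
      (ρ := lin (acRep φ)) ε hirr (o := 1) (z := 3) (by norm_num) ho hz
    have hi : i₀ ∉ Jx (cA 4).toCoxeterSystem (isCartan 4) (X E) (lin (acRep φ)) := (hJ i₀).2 rfl
    have hD := finrank_D R hirr slT_comm
    have hLe : finrank (AlgebraicClosure F) (Le (cA 4).toCoxeterSystem (isCartan 4) (T (Fin (4 + 1)) E) (X E)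
        (lin (acRep φ)) {i₀}) ≤ 2 := by
      have h1 := dim_ge_A R hirr hi
      have h3 := finrank_Io R hirr i₀
      rw [hD] at h1 h3
      rw [Module.finrank_fintype_fun_eq_card, hn] at h1
      have c52 : Nat.choose (4 + 1) 2 = 10 := rfl
      have c53 : Nat.choose (4 + 1) (i₀.val + 1) = 10 := by rcases hi₀ with rfl | rfl <;> rfl
      rw [c52, c53] at h1
      omega
    have hne : e i₀ ≠ 0 := fun h0 => hi ((heJ i₀).2 h0)
    have key : (Ds p (e i₀)).card ≤ 2 → ∃ i, e i₀ = 1 * p ^ i := by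
      intro h2
      rcases Ds_small hp.out (e i₀) (by omega) (by omega) with ⟨r, i, hr1, hr2, h3, h4⟩ | ⟨-, -, -, -, h3⟩
      · obtain rfl : r = 1 := by omega
        exact ⟨i, h3⟩
      · omega
    have h0J : ∀ i, i ≠ i₀ → e i = 0 := by
      intro i hii
      rw [← heJ]
      by_contra hcon
      exact hii ((hJ i).1 hcon)
    rcases hi₀ with rfl | rfl
    · have hf' := hf 0 (e 1) 0 0 (by
        intro i
        fin_cases i
        · simp [h0J 0 (by decide)]
        · simp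
        · simp [h0J 2 (by decide)]
        · simp [h0J 3 (by decide)])
      obtain ⟨i, hi'⟩ := key ((Ds_le_Le_one ε (by norm_num) ho hz p hv hf' (he 1) rfl).trans hLe)
      constructor
      · have h1 := dvd_xf p (irr_all hirr) hv0 hψ0 (by norm_num) ho hz hf' 1
        have h2 : ((if (1 : Fin 4).val = 0 then 0 else 0) + (if (1 : Fin 4).val = 1 then e 1 else 0) +
          (if (1 : Fin 4).val + 2 = 4 then 0 else 0) + (if (1 : Fin 4).val + 1 = 4 then 0 else 0)) = 1 * p ^ i := by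
          rw [← hi']; simp
        rw [h2] at h1
        exact card_eq_of_dvd hj hFE le_rfl hp.out.one_lt h1
      · intro k hk
        have h1 := cj_xf p (irr_all hirr) hv0 hψ0 (by norm_num) ho hz hf' hφ hC.absIrred hk (ns 4 E 1 * 1)
        rw [xf_ns_mul (by norm_num) ho hz (by simp) (by simp) (by simp) (by simp), xf_one (by norm_num) ho hz, one_pow] at h1
        have h2 : xf ε (1 : Fin (4 + 1)) 3 0 (e 1) 0 0 (ns 4 E 1 * 1) ≠ 0 := by rw [← h1]; exact one_ne_zero
        rw [mul_one] at h2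
        have h3 := xf_mono (by norm_num) ho hz (mono_ns (F := E) (1 : Fin 4)) h2 (i := 1) (Or.inr (Or.inl ⟨rfl, hne⟩)) 1
        revert h3
        decide
    · have hf' := hf 0 0 (e 2) 0 (by
        intro i
        fin_cases i
        · simp [h0J 0 (by decide)]
        · simp [h0J 1 (by decide)]
        · simp
        · simp [h0J 3 (by decide)])
      obtain ⟨i, hi'⟩ := key ((Ds_le_Le_pen ε (by norm_num) ho hz p hv hf' (he 2) rfl).trans hLe)
      constructor
      · have h1 := dvd_xf p (irr_all hirr) hv0 hψ0 (by norm_num) ho hz hf' 2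
        have h2 : ((if (2 : Fin 4).val = 0 then 0 else 0) + (if (2 : Fin 4).val = 1 then 0 else 0) +
          (if (2 : Fin 4).val + 2 = 4 then e 2 else 0) + (if (2 : Fin 4).val + 1 = 4 then 0 else 0)) = 1 * p ^ i := by
          rw [← hi']; simp
        rw [h2] at h1
        exact card_eq_of_dvd hj hFE le_rfl hp.out.one_lt h1
      · intro k hk
        have h1 := cj_xf p (irr_all hirr) hv0 hψ0 (by norm_num) ho hz hf' hφ hC.absIrred hk (ns 4 E 2 * 1)
        rw [xf_ns_mul (by norm_num) ho hz (by simp) (by simp) (by simp) (by simp), xf_one (by norm_num) ho hz, one_pow] at h1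
        have h2 : xf ε (1 : Fin (4 + 1)) 3 0 0 (e 2) 0 (ns 4 E 2 * 1) ≠ 0 := by rw [← h1]; exact one_ne_zero
        rw [mul_one] at h2
        have h3 := xf_mono (by norm_num) ho hz (mono_ns (F := E) (2 : Fin 4)) h2 (i := 2)
          (Or.inr (Or.inr (Or.inl ⟨rfl, hne⟩))) 2
        revert h3
        decide
  · rw [Module.finrank_fintype_fun_eq_card] at h
    omega

end

end Cfsg.Agent.H887.DS
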