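import Cfsg.Agent.H887.DS.Minor

/-!
# The matrix coefficient with minors (helper887)

* `exists_coef4` : `l ≥ 3`, all nodes outside `J` among `0, 1, l - 2, l - 1`: `φ (g v) = xf ι o z a b c d g`;
* `Ds_le_Le_one`, `Ds_le_Le_pen` : `Ds p e ≤ dim Le {i}`, `i = 1`, `i = l - 2` the only node outside `J`;
* `ww`, `xf_ww` : `xf a b c d (w g⁻¹ w⁻¹) = xf d c b a g`.
-/

set_option autoImplicit false
set_option linter.unusedSectionVars false
set_option linter.style.haveILetI false

namespace Cfsg.Agent.H887.DS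

open Matrix CoxeterSystem Cfsg.Agent.ChevalleyStructure.CoxeterGeom Cfsg.Agent.Tits.Roots Cfsg.Agent.Tits.Core
  Cfsg.Agent.Tits.Exchange Cfsg.Agent.Nodes.Reps Cfsg.Agent.Nodes.BNOf Cfsg.Agent.Nodes.StabComb
  Cfsg.Agent.Nodes.Bruhat Cfsg.Agent.Nodes.OppDec Cfsg.Agent.Nodes.LeviDec Cfsg.Agent.KFacts.RgdOpp
  Cfsg.Agent.Omega.CR Cfsg.Agent.Omega.FOne.Lift.Sd Cfsg.Agent.Nodes.RootsA Cfsg.Agent.Nodes.RGDTypeA
open Cfsg.Agent.LieRecognition.BNCox (cA cA_apply)
open Cfsg.Agent.TitsThree.KSideA (tv tv_of_ne tv_add tv_zero tv_neg tv_comm tv_commute)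
open Cfsg.Agent.H905.Md Module

section conj

variable {E k : Type*} [Field E] [Field k] {l : ℕ}

/-- the element exchanging `x` and `y` -/
noncomputable def nw (x y : Fin (l + 1)) : SpecialLinearGroup (Fin (l + 1)) E := tv x y 1 * tv y x (-1) * tv x y 1

/-- a sign -/
def sg (E : Type*) [Field E] (y i : Fin (l + 1)) : E := if i = y then -1 else 1

theorem sg_mul (y i : Fin (l + 1)) : sg E y i * sg E y i = 1 := by
  unfold sg
  split_ifs <;> ring

theorem nw_mul {x y : Fin (l + 1)} (hxy : x ≠ y) (g : SpecialLinearGroup (Fin (l + 1)) E) (i j : Fin (l + 1)) :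
    (nw x y * g).1 i j = sg E y i * g.1 (Equiv.swap x y i) j := by
  unfold nw sg
  rw [mul_assoc, mul_assoc]
  simp only [tv_mul_apply hxy, tv_mul_apply hxy.symm]
  by_cases h1 : i = x
  · subst h1
    simp only [if_true, if_neg hxy, if_neg hxy.symm, Equiv.swap_apply_left]
    ring
  · by_cases h2 : i = y
    · subst h2
      simp only [if_true, if_neg hxy.symm, Equiv.swap_apply_right]
      ring
    · simp only [if_neg h1, if_neg h2, Equiv.swap_apply_of_ne_of_ne h1 h2]
      ring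

theorem mul_nw_inv {x y : Fin (l + 1)} (hxy : x ≠ y) (g : SpecialLinearGroup (Fin (l + 1)) E) (i j : Fin (l + 1)) :
    (g * (nw x y)⁻¹).1 i j = sg E y j * g.1 i (Equiv.swap x y j) := by
  unfold nw sg
  simp only [_root_.mul_inv_rev, ← tv_neg, neg_neg]
  rw [← mul_assoc, ← mul_assoc]
  simp only [mul_tv_apply hxy, mul_tv_apply hxy.symm]
  by_cases h1 : j = x
  · subst h1
    simp only [if_true, if_neg hxy, Equiv.swap_apply_left]
    ring
  · by_cases h2 : j = y
    · subst h2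
      simp only [if_true, if_neg hxy, if_neg hxy.symm, Equiv.swap_apply_right]
      ring
    · simp only [if_neg h1, if_neg h2, Equiv.swap_apply_of_ne_of_ne h1 h2]
      ring

theorem nw_conj {x y : Fin (l + 1)} (hxy : x ≠ y) (g : SpecialLinearGroup (Fin (l + 1)) E) (i j : Fin (l + 1)) :
    (nw x y * g * (nw x y)⁻¹).1 i j = sg E y i * sg E y j * g.1 (Equiv.swap x y i) (Equiv.swap x y j) := by
  rw [mul_nw_inv hxy, nw_mul hxy]
  ring

theorem nw_conj_diag {x y : Fin (l + 1)} (hxy : x ≠ y) (g : SpecialLinearGroup (Fin (l + 1)) E) (i : Fin (l + 1)) :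
    (nw x y * g * (nw x y)⁻¹).1 i i = g.1 (Equiv.swap x y i) (Equiv.swap x y i) := by
  rw [nw_conj hxy, sg_mul, one_mul]

theorem mn_conj {x y : Fin (l + 1)} (hxy : x ≠ y) (g : SpecialLinearGroup (Fin (l + 1)) E) (i j : Fin (l + 1)) :
    mn i j (nw x y * g * (nw x y)⁻¹) = mn (Equiv.swap x y i) (Equiv.swap x y j) g := by
  unfold mn
  rw [nw_conj_diag hxy, nw_conj_diag hxy, nw_conj hxy, nw_conj hxy]
  have h1 := sg_mul (E := E) y i
  have h2 := sg_mul (E := E) y j
  linear_combination (-(sg E y j * sg E y j) * (g.1 (Equiv.swap x y i) (Equiv.swap x y j) *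
    g.1 (Equiv.swap x y j) (Equiv.swap x y i))) * h1 - (g.1 (Equiv.swap x y i) (Equiv.swap x y j) *
    g.1 (Equiv.swap x y j) (Equiv.swap x y i)) * h2

theorem mn_comm (i j : Fin (l + 1)) (g : SpecialLinearGroup (Fin (l + 1)) E) : mn i j g = mn j i g := by
  unfold mn
  ring

/-- the element exchanging `0`, `l` and `1`, `l - 1` -/
noncomputable def ww (E : Type*) [Field E] (o z : Fin (l + 1)) : SpecialLinearGroup (Fin (l + 1)) E :=
  nw 0 (Fin.last l) * nw o z

theorem ww_conj (o z : Fin (l + 1)) (g : SpecialLinearGroup (Fin (l + 1)) E) :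
    ww E o z * g * (ww E o z)⁻¹ = nw 0 (Fin.last l) * (nw o z * g * (nw o z)⁻¹) * (nw 0 (Fin.last l))⁻¹ := by
  unfold ww
  group

variable {o z : Fin (l + 1)} (hl : 3 ≤ l) (ho : o.val = 1) (hz : z.val + 1 = l)
include hl ho hz

theorem fin_facts : (0 : Fin (l + 1)) ≠ Fin.last l ∧ (0 : Fin (l + 1)) ≠ o ∧ (0 : Fin (l + 1)) ≠ z ∧ o ≠ z ∧
    o ≠ Fin.last l ∧ z ≠ Fin.last l := by
  have v3 : (0 : Fin (l + 1)).val = 0 := rfl
  have v4 : (Fin.last l).val = l := rfl
  simp only [ne_eq, Fin.ext_iff, v3, v4, ho]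
  omega

theorem ww_zero (g : SpecialLinearGroup (Fin (l + 1)) E) :
    (ww E o z * g * (ww E o z)⁻¹).1 0 0 = g.1 (Fin.last l) (Fin.last l) := by
  obtain ⟨h1, h2, h3, h4, h5, h6⟩ := fin_facts hl ho hz
  rw [ww_conj, nw_conj_diag h1, nw_conj_diag h4, Equiv.swap_apply_left, Equiv.swap_apply_of_ne_of_ne h5.symm h6.symm]

theorem ww_last (g : SpecialLinearGroup (Fin (l + 1)) E) :
    (ww E o z * g * (ww E o z)⁻¹).1 (Fin.last l) (Fin.last l) = g.1 0 0 := by
  obtain ⟨h1, h2, h3, h4, h5, h6⟩ := fin_facts hl ho hz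
  rw [ww_conj, nw_conj_diag h1, nw_conj_diag h4, Equiv.swap_apply_right, Equiv.swap_apply_of_ne_of_ne h2 h3]

theorem ww_mn (g : SpecialLinearGroup (Fin (l + 1)) E) :
    mn 0 o (ww E o z * g * (ww E o z)⁻¹) = mn z (Fin.last l) g := by
  obtain ⟨h1, h2, h3, h4, h5, h6⟩ := fin_facts hl ho hz
  rw [ww_conj, mn_conj h1, mn_conj h4, Equiv.swap_apply_left, Equiv.swap_apply_of_ne_of_ne h5.symm h6.symm,
    Equiv.swap_apply_of_ne_of_ne h2.symm h5, Equiv.swap_apply_left, mn_comm]

theorem ww_mn' (g : SpecialLinearGroup (Fin (l + 1)) E) :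
    mn z (Fin.last l) (ww E o z * g * (ww E o z)⁻¹) = mn 0 o g := by
  obtain ⟨h1, h2, h3, h4, h5, h6⟩ := fin_facts hl ho hz
  rw [ww_conj, mn_conj h1, mn_conj h4, Equiv.swap_apply_right, Equiv.swap_apply_of_ne_of_ne h3.symm h6,
    Equiv.swap_apply_of_ne_of_ne h2 h3, Equiv.swap_apply_right, mn_comm]

theorem xf_ww (ι : E →+* k) (a b c d : ℕ) (g : SpecialLinearGroup (Fin (l + 1)) E) :
    xf ι o z a b c d (ww E o z * g * (ww E o z)⁻¹)⁻¹ = xf ι o z d c b a g := by
  unfold xf xi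
  rw [inv_inv, ww_last hl ho hz, ww_mn' hl ho hz]
  have e : (ww E o z * g * (ww E o z)⁻¹)⁻¹ = ww E o z * g⁻¹ * (ww E o z)⁻¹ := by group
  rw [e, ww_zero hl ho hz, ww_mn hl ho hz]
  ring

end conj

section rep4

variable {E : Type*} [Field E] [Finite E] {l : ℕ} {W : Type*} [Group W] [Finite W] {cs : CoxeterSystem (cA l) W}
  {A : Fin l → Fin l → ℤ} {h : IsCartan (cA l) A} (p : ℕ) [hp : Fact p.Prime] [hEp : CharP E p]
  {k V : Type*} [Field k] [IsAlgClosed k] [CharP k p] [AddCommGroup V] [Module k V] [FiniteDimensional k V] [Nontrivial V]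
  {ρ : SpecialLinearGroup (Fin (l + 1)) E →* Module.End k V}
  (ι : E →+* k)

omit hp hEp [IsAlgClosed k] [CharP k p] [FiniteDimensional k V] [Nontrivial V] in
/-- **The exponents.** -/
theorem exists_exp {v : V} (hv0 : v ≠ 0) (hv : v ∈ D cs h (X E) ρ) {χ : SpecialLinearGroup (Fin (l + 1)) E → k}
    (hχ : ∀ t ∈ T (Fin (l + 1)) E, ρ t v = χ t • v) :
    ∃ e : Fin l → ℕ, (∀ i, e i < Nat.card E) ∧ (∀ i, i ∈ Jx cs h (X E) ρ ↔ e i = 0) ∧
      ∀ Ξ : SpecialLinearGroup (Fin (l + 1)) E → k, Ξ 1 = 1 → (∀ t ∈ T (Fin (l + 1)) E, ∀ t', Ξ (t * t') = Ξ t * Ξ t') →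
        (∀ i s, Ξ (hs i s) = ι s ^ e i) → ∀ t ∈ T (Fin (l + 1)) E, ρ t v = Ξ t • v := by
  classical
  have hχm : ∀ t ∈ T (Fin (l + 1)) E, ∀ t' ∈ T (Fin (l + 1)) E, χ (t * t') = χ t * χ t' := by
    intro t ht t' ht'
    have h1 := hχ _ (mul_mem ht ht')
    rw [rho_mul, hχ t' ht', map_smul, hχ t ht, smul_smul, mul_comm] at h1
    exact (smul_left_injective k hv0 h1).symm
  have hχ1 : χ 1 = 1 := by
    have h1 := hχ 1 (one_mem _)
    rw [map_one, Module.End.one_apply] at h1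
    have h2 : (1 : k) • v = χ 1 • v := by rw [one_smul]; exact h1
    exact (smul_left_injective k hv0 h2).symm
  have hone : ∀ i : Fin l, hs i (1 : Eˣ) = 1 := by
    intro i
    have h3 := hs_mul i (1 : Eˣ) 1
    rw [mul_one] at h3
    exact (mul_eq_left (a := hs i (1 : Eˣ))).1 h3.symm
  have hex : ∀ i : Fin l, ∃ c : ℕ, c < Nat.card E ∧ (i ∈ Jx cs h (X E) ρ ↔ c = 0) ∧ ∀ s : Eˣ, χ (hs i s) = ι s ^ c := by
    intro i
    by_cases hi : i ∈ Jx cs h (X E) ρ
    · refine ⟨0, Nat.card_pos, by simp [hi], fun s => ?_⟩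
      have h1 := hχ _ (hs_mem i s)
      rw [rho_hs hi hv s] at h1
      have h2 : (1 : k) • v = χ (hs i s) • v := by rw [one_smul]; exact h1
      rw [pow_zero]
      exact (smul_left_injective k hv0 h2).symm
    · obtain ⟨c, h1, h2, h3⟩ := exists_pow ι
        ({ toFun := fun s => χ (hs i s)
           map_one' := by rw [hone, hχ1]
           map_mul' := fun s s' => by rw [hs_mul, hχm _ (hs_mem _ _) _ (hs_mem _ _)] } : Eˣ →* k)
      exact ⟨c, h2, by simp only [hi, false_iff]; omega, h3⟩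
  choose e he1 he2 he3 using hex
  refine ⟨e, he1, he2, fun Ξ hΞ1 hΞm hΞ t ht => ?_⟩
  have key : ∀ t ∈ T (Fin (l + 1)) E, χ t = Ξ t := by
    refine T_induction ?_ ?_ ?_
    · rw [hχ1, hΞ1]
    · intro t ht t' ht' h1 h2
      rw [hχm t ht t' ht', h1, h2, hΞm t ht]
    · intro i s
      rw [he3, hΞ]
  rw [hχ t ht, key t ht]

variable
  (hirr : ∀ L : Submodule k V, Ivt ρ (GG cs h (T (Fin (l + 1)) E) (X E)) L → L = ⊥ ∨ L = ⊤)
include hirr

include p in
/-- **The matrix coefficient.** -/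
theorem exists_coef4 {o z : Fin (l + 1)} (hl : 3 ≤ l) (ho : o.val = 1) (hz : z.val + 1 = l) :
    ∃ v ∈ D cs h (X E) ρ, v ≠ 0 ∧ ∃ φ : Module.Dual k V, φ ≠ 0 ∧ ∃ e : Fin l → ℕ, (∀ i, e i < Nat.card E) ∧
      (∀ i, i ∈ Jx cs h (X E) ρ ↔ e i = 0) ∧ ∀ a b c d : ℕ, (∀ i : Fin l, e i = (if i.val = 0 then a else 0) +
    (if i.val = 1 then b else 0) + (if i.val + 2 = l then c else 0) + (if i.val + 1 = l then d else 0)) →
      ∀ g, φ (ρ g v) = xf ι o z a b c d g := by
  have R := rgd cs h (F := E) (p := p)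
  obtain ⟨v, hv, hv0, χ, hχ⟩ := exists_chi R hirr slT_comm
  obtain ⟨e, he1, he2, he3⟩ := exists_exp ι hv0 hv hχ
  obtain ⟨φ, hφ, hφ0⟩ := exists_pair_D R hirr hv hv0
  have h4 : ((φ v)⁻¹ • φ) v = 1 := by rw [LinearMap.smul_apply, smul_eq_mul, inv_mul_cancel₀ hφ0]
  refine ⟨v, hv, hv0, (φ v)⁻¹ • φ, ?_, e, he1, he2, ?_⟩
  · intro h5
    rw [h5, LinearMap.zero_apply] at h4
    exact zero_ne_one h4
  · intro a b c d he
    have hsum : ∀ i : Fin l, xf ι o z a b c d (hs i (1 : Eˣ)) = xf ι o z a b c d (hs i (1 : Eˣ)) := fun _ => rfl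
    refine master_gen p hirr (Ξ := xf ι o z a b c d) (xf_one hl ho hz) (fun x y hxy t g => xf_mul_tv hl ho hz hxy t g)
      (fun x y hxy t g => xf_tv_mul hl ho hz hxy t g) (fun t ht g => xf_T_mul hl ho hz ht g)
      (fun t ht g => xf_mul_T hl ho hz ht g) ?_ ?_ hv ?_ (Submodule.smul_mem _ _ hφ) h4
    · intro i hi g
      have h1 := (he2 i).1 hi
      rw [he i] at h1
      refine xf_ns_mul hl ho hz ?_ ?_ ?_ ?_ g
      · intro h2
        rw [if_pos h2] at h1
        omega
      · intro h2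
        rw [if_pos h2] at h1
        omega
      · intro h2
        rw [if_pos h2] at h1
        omega
      · intro h2
        rw [if_pos h2] at h1
        omega
    · intro g σ hm hne i hi c'
      refine xf_mono hl ho hz hm hne ?_ c'
      have h1 := mt (he2 i).2 hi
      rw [he i] at h1
      by_contra hcon
      push Not at hcon
      obtain ⟨k1, k2, k3, k4⟩ := hcon
      apply h1
      have g1 : (if i.val = 0 then a else 0) = 0 := by
        split_ifs with h2
        · exact k1 h2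
        · rfl
      have g2 : (if i.val = 1 then b else 0) = 0 := by
        split_ifs with h2
        · exact k2 h2
        · rfl
      have g3 : (if i.val + 2 = l then c else 0) = 0 := by
        split_ifs with h2
        · exact k3 h2
        · rfl
      have g4 : (if i.val + 1 = l then d else 0) = 0 := by
        split_ifs with h2
        · exact k4 h2
        · rfl
      rw [g1, g2, g3, g4]
    · refine he3 _ (xf_one hl ho hz) (fun t ht t' => xf_T_mul hl ho hz ht t') fun i s => ?_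
      rw [xf_hs hl ho hz, he i]

end rep4

section le

variable {E : Type*} [Field E] [Finite E] {l : ℕ} {W : Type*} [Group W] [Finite W] {cs : CoxeterSystem (cA l) W}
  {A : Fin l → Fin l → ℤ} {h : IsCartan (cA l) A}

variable {k V : Type*} [Field k] [AddCommGroup V] [Module k V] [FiniteDimensional k V]
  {ρ : SpecialLinearGroup (Fin (l + 1)) E →* Module.End k V}

variable (ι : E →+* k) {o z : Fin (l + 1)} (hl : 3 ≤ l) (ho : o.val = 1) (hz : z.val + 1 = l)
  (p : ℕ) [Fact p.Prime] [CharP k p] {v : V}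
  (hv : v ∈ D cs h (X E) ρ) {φ : Module.Dual k V}
include hl ho hz hv

theorem Ds_le_Le_one {b : ℕ} (hm : ∀ g, φ (ρ g v) = xf ι o z 0 b 0 0 g) (hb : b < Nat.card E) {i : Fin l}
    (hi : i.val = 1) : (Ds p b).card ≤ finrank k (Le cs h (T (Fin (l + 1)) E) (X E) ρ {i}) := by
  have hne : i.castSucc ≠ i.succ := (Fin.castSucc_lt_succ).ne
  have hio : o = i.castSucc := Fin.ext (by rw [ho, Fin.val_castSucc, hi])
  have e0 : (0 : Fin (l + 1)) ≠ i.castSucc := fun e => by
    have := congrArg Fin.val e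
    simp at this
    omega
  have e0' : (0 : Fin (l + 1)) ≠ i.succ := (Fin.succ_ne_zero i).symm
  refine Ds_le ι p _ (fun t => ρ (tv i.succ i.castSucc t) v) (fun t => low_mem_Le hv t)
    (fun s => φ.comp (ρ (tv i.castSucc i.succ s))) hb ?_
  intro s t
  change φ (ρ (tv i.castSucc i.succ s) (ρ (tv i.succ i.castSucc t) v)) = _
  rw [← rho_mul, hm]
  have h1 : mn 0 o (tv i.castSucc i.succ s * tv i.succ i.castSucc t : SpecialLinearGroup (Fin (l + 1)) E) = 1 + s * t := by
    unfold mn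
    have f1 : ∀ j, (tv i.castSucc i.succ s : SpecialLinearGroup (Fin (l + 1)) E).1 0 j = if j = 0 then 1 else 0 := by
      intro j
      rw [tv_val hne, Matrix.add_apply, Matrix.single_apply_of_ne, add_zero, Matrix.one_apply]
      · simp only [eq_comm]
      · rintro ⟨h1, -⟩
        exact e0 h1.symm
    rw [mul_tv_apply hne.symm, mul_tv_apply hne.symm, mul_tv_apply hne.symm, if_neg e0, hio, if_pos rfl, tv_diag hne,
      tv_diag hne, tv_same hne, f1, f1, if_neg e0.symm, if_pos rfl, if_neg e0'.symm]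
    ring
  unfold xf xi
  rw [h1, pow_zero, pow_zero, pow_zero, map_add, map_one, map_mul]
  ring

theorem Ds_le_Le_pen {c : ℕ} (hm : ∀ g, φ (ρ g v) = xf ι o z 0 0 c 0 g) (hc : c < Nat.card E) {i : Fin l}
    (hi : i.val + 2 = l) : (Ds p c).card ≤ finrank k (Le cs h (T (Fin (l + 1)) E) (X E) ρ {i}) := by
  have hne : i.castSucc ≠ i.succ := (Fin.castSucc_lt_succ).ne
  have hio : z = i.succ := Fin.ext (by rw [Fin.val_succ]; omega)
  have e0 : Fin.last l ≠ i.castSucc := fun e => by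
    have := congrArg Fin.val e
    simp at this
    omega
  have e0' : Fin.last l ≠ i.succ := fun e => by
    have := congrArg Fin.val e
    simp at this
    omega
  refine Ds_le ι p _ (fun t => ρ (tv i.succ i.castSucc t) v) (fun t => low_mem_Le hv t)
    (fun s => φ.comp (ρ (tv i.castSucc i.succ s))) hc ?_
  intro s t
  change φ (ρ (tv i.castSucc i.succ s) (ρ (tv i.succ i.castSucc t) v)) = _
  rw [← rho_mul, hm]
  have h1 : mn z (Fin.last l) (tv i.castSucc i.succ s * tv i.succ i.castSucc t : SpecialLinearGroup (Fin (l + 1)) E)⁻¹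
      = 1 + s * t := by
    unfold mn
    have f1 : ∀ j, (tv i.succ i.castSucc (-t) : SpecialLinearGroup (Fin (l + 1)) E).1 (Fin.last l) j =
        if j = Fin.last l then 1 else 0 := by
      intro j
      rw [tv_val hne.symm, Matrix.add_apply, Matrix.single_apply_of_ne, add_zero, Matrix.one_apply]
      · simp only [eq_comm]
      · rintro ⟨h1, -⟩
        exact e0' h1.symm
    have f2 : (tv i.succ i.castSucc (-t) * tv i.castSucc i.succ (-s) : SpecialLinearGroup (Fin (l + 1)) E).1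
        (Fin.last l) i.succ = 0 := by
      rw [mul_tv_apply hne, f1, f1, if_neg e0'.symm, if_neg e0.symm]
      simp
    rw [_root_.mul_inv_rev, ← tv_neg, ← tv_neg, hio, f2, mul_tv_apply hne, mul_tv_apply hne, if_pos rfl, if_neg e0',
      tv_diag hne.symm, tv_diag hne.symm, tv_same hne.symm]
    ring
  unfold xf xi
  rw [h1, pow_zero, pow_zero, pow_zero, map_add, map_one, map_mul]
  ring

end le

end Cfsg.Agent.H887.DS
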