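import Cfsg.Agent.H887.DS.CertData
import Cfsg.Agent.H887.DS.Minor2

/-!
# Lower bounds for the dimension by integral certificates (helper887)

* `Rk f d` : the matrix `f (x * y)` has rank at most `d`; `rk_of_coef`, `Rk.inv`, `Rk.conj`, `Rk.mono`;
* `Rk.cert` : the certificate;
* `le_c12`, `le_c22`, `le_c13`, `le_d101`, `le_d110`, `le_d020` : the dimension is at least 13.
-/

set_option autoImplicit false
set_option linter.unusedSectionVars false

namespace Cfsg.Agent.H887.DS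

open Matrix Module
open Cfsg.Agent.TitsThree.KSideA (tv tv_of_ne tv_add tv_zero tv_neg tv_comm tv_commute)
open Cfsg.Agent.H905.Md

section rk

variable {G k : Type*} [Group G] [Field k]

/-- the rank of the matrix `f (x * y)` is at most `d` -/
def Rk (f : G → k) (d : ℕ) : Prop :=
  ∃ n ≤ d, ∃ ψ w : G → Fin n → k, ∀ x y, f (x * y) = ψ x ⬝ᵥ w y

theorem rk_of_coef {V : Type*} [AddCommGroup V] [Module k V] [FiniteDimensional k V] {ρ : G →* Module.End k V}
    {φ : Module.Dual k V} {v : V} {f : G → k} (hf : ∀ g, φ (ρ g v) = f g) : Rk f (finrank k V) := by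
  let b := Module.finBasis k V
  refine ⟨finrank k V, le_rfl, fun x i => φ (ρ x (b i)), fun y i => b.repr (ρ y v) i, fun x y => ?_⟩
  rw [← hf, map_mul, Module.End.mul_apply]
  conv_lhs => rw [← b.sum_repr (ρ y v)]
  rw [map_sum, map_sum, dotProduct]
  exact Finset.sum_congr rfl fun i _ => by rw [map_smul, map_smul, smul_eq_mul, mul_comm]

theorem Rk.inv {f : G → k} {d : ℕ} (h : Rk f d) : Rk (fun g => f g⁻¹) d := by
  obtain ⟨n, hn, ψ, w, h⟩ := h
  refine ⟨n, hn, fun x => w x⁻¹, fun y => ψ y⁻¹, fun x y => ?_⟩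
  change f (x * y)⁻¹ = _
  rw [_root_.mul_inv_rev, h, dotProduct_comm]

theorem Rk.conj {f : G → k} {d : ℕ} (h : Rk f d) (u : G) : Rk (fun g => f (u * g * u⁻¹)) d := by
  obtain ⟨n, hn, ψ, w, h⟩ := h
  refine ⟨n, hn, fun x => ψ (u * x), fun y => w (y * u⁻¹), fun x y => ?_⟩
  change f (u * (x * y) * u⁻¹) = _
  rw [← h]
  congr 1
  group

theorem Rk.congr {f f' : G → k} {d : ℕ} (h : Rk f d) (e : ∀ g, f' g = f g) : Rk f' d := by
  have : f' = f := funext e
  rwa [this]

/-- **Functions of rank one.** -/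
theorem Rk.mono {f : G → k} {d : ℕ} (h : Rk f d) {S T M : Type*} [Finite T] [Fintype M] (x : S → G) (y : T → G)
    {c : M → k} {F : M → S → k} {Gf : M → T → k} (hf : ∀ s t, f (x s * y t) = ∑ α, c α * F α s * Gf α t)
    (hc : ∀ α, c α ≠ 0) (rF rG : Finset M)
    (hF : ∀ x : M → k, (∀ s, ∑ α, x α * F α s = 0) → (∀ α ∈ rF, x α = 0) → x = 0)
    (hG : ∀ x : M → k, (∀ t, ∑ α, x α * Gf α t = 0) → (∀ α ∈ rG, x α = 0) → x = 0) :
    Fintype.card M ≤ d + rF.card + rG.card := by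
  obtain ⟨n, hn, ψ, w, h⟩ := h
  have h1 := card_le_finrank (V := Fin n → k) (c := c) (F := F) (Gf := Gf) (fun t => w (y t))
    (fun s => Fintype.linearCombination k (ψ (x s))) (fun s t => by
      rw [← hf, h, Fintype.linearCombination_apply, dotProduct_comm]
      rfl) hc rF rG (fun z hz _ hr => hF z hz hr) hG
  rw [Module.finrank_fintype_fun_eq_card, Fintype.card_fin] at h1
  omega

/-- **The certificate.** -/
theorem Rk.cert {f : G → k} {d : ℕ} (h : Rk f d) {r : ℕ} (x y : Fin r → G) (M N : Fin r → Fin r → ℤ) (c : ℤ)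
    (hM : ∀ i j, f (x i * y j) = (M i j : k)) (hN : ∀ i j, ∑ m, N i m * M m j = if i = j then c else 0)
    (hc : (c : k) ≠ 0) : r ≤ d := by
  obtain ⟨n, hn, ψ, w, h⟩ := h
  have hli : LinearIndependent k (fun j => w (y j)) := by
    rw [Fintype.linearIndependent_iff]
    intro a ha i
    have h1 : ∀ m, ∑ j, (M m j : k) * a j = 0 := by
      intro m
      have h2 := congrArg (fun u => ψ (x m) ⬝ᵥ u) ha
      simp only [dotProduct_zero] at h2
      rw [← h2, dotProduct_sum]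
      refine Finset.sum_congr rfl fun j _ => ?_
      rw [dotProduct_smul, ← h, hM, smul_eq_mul, mul_comm]
    have h3 : ∑ m, (N i m : k) * ∑ j, (M m j : k) * a j = (c : k) * a i := by
      simp only [Finset.mul_sum]
      rw [Finset.sum_comm, Finset.sum_eq_single i]
      · have h4 := congrArg (Int.cast : ℤ → k) (hN i i)
        rw [if_pos rfl] at h4
        push_cast at h4
        rw [← h4, Finset.sum_mul]
        exact Finset.sum_congr rfl fun m _ => by ring
      · intro j _ hj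
        have h4 := congrArg (Int.cast : ℤ → k) (hN i j)
        rw [if_neg hj.symm] at h4
        push_cast at h4
        rw [← zero_mul (a j), ← h4, Finset.sum_mul]
        exact Finset.sum_congr rfl fun m _ => by ring
      · intro h; exact absurd (Finset.mem_univ _) h
    have h5 : (c : k) * a i = 0 := by
      rw [← h3]
      exact Finset.sum_eq_zero fun m _ => by rw [h1, mul_zero]
    exact (mul_eq_zero.1 h5).resolve_left hc
  have h1 := hli.fintype_card_le_finrank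
  rw [Fintype.card_fin, Module.finrank_fintype_fun_eq_card, Fintype.card_fin] at h1
  omega

theorem int_pow {p : ℕ} [Fact p.Prime] [CharP k p] (i : ℕ) (m : ℤ) : (m : k) ^ p ^ i = (m : k) := by
  have h1 := map_intCast (iterateFrobenius k p i) m
  rwa [iterateFrobenius_def] at h1

end rk

section three

variable {E : Type*} [Field E]

/-- upper unipotent -/
def up (s : Fin 3 → E) : SpecialLinearGroup (Fin (2 + 1)) E :=
  ⟨!![1, s 0, s 1; 0, 1, s 2; 0, 0, 1], by simp [Matrix.det_fin_three]⟩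

/-- its inverse -/
def upI (s : Fin 3 → E) : SpecialLinearGroup (Fin (2 + 1)) E :=
  ⟨!![1, -s 0, s 0 * s 2 - s 1; 0, 1, -s 2; 0, 0, 1], by simp [Matrix.det_fin_three]⟩

/-- lower unipotent -/
def lo (s : Fin 3 → E) : SpecialLinearGroup (Fin (2 + 1)) E :=
  ⟨!![1, 0, 0; s 0, 1, 0; s 1, s 2, 1], by simp [Matrix.det_fin_three]⟩

/-- its inverse -/
def loI (s : Fin 3 → E) : SpecialLinearGroup (Fin (2 + 1)) E :=
  ⟨!![1, 0, 0; -s 0, 1, 0; s 0 * s 2 - s 1, -s 2, 1], by simp [Matrix.det_fin_three]⟩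

theorem up_inv (s : Fin 3 → E) : (up s)⁻¹ = upI s := by
  apply inv_eq_of_mul_eq_one_right
  apply Subtype.ext
  change (up s).1 * (upI s).1 = (1 : Matrix (Fin (2 + 1)) (Fin (2 + 1)) E)
  ext i j
  fin_cases i <;> fin_cases j <;> (simp [up, upI, Matrix.mul_apply, Fin.sum_univ_three]; try ring)

theorem lo_inv (s : Fin 3 → E) : (lo s)⁻¹ = loI s := by
  apply inv_eq_of_mul_eq_one_right
  apply Subtype.ext
  change (lo s).1 * (loI s).1 = (1 : Matrix (Fin (2 + 1)) (Fin (2 + 1)) E)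
  ext i j
  fin_cases i <;> fin_cases j <;> (simp [lo, loI, Matrix.mul_apply, Fin.sum_univ_three]; try ring)

variable {k : Type*} [Field k] (ι : E →+* k)

theorem xi_up_lo (a b : ℕ) (s t : Fin 3 → E) : xi ι a b (up s * lo t) =
    ι (1 + s 0 * t 0 + s 1 * t 1) ^ a * ι (1 + s 2 * t 2 + (s 0 * s 2 - s 1) * (t 0 * t 2 - t 1)) ^ b := by
  rw [xi_mul, up_inv, lo_inv]
  congr 3
  · rw [Fin.sum_univ_three]
    simp [up, lo]
  · rw [Fin.sum_univ_three]
    simp [upI, loI, show Fin.last 2 = (2 : Fin 3) from rfl]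
    ring

variable {p : ℕ} [hp : Fact p.Prime] [CharP k p] {d : ℕ}

include hp in
theorem le_c22 (hp2 : p ≠ 2) {i j : ℕ} (h : Rk (xi ι (2 * p ^ i) (2 * p ^ j) : SpecialLinearGroup (Fin (2 + 1)) E → k) d) : 13 ≤ d := by
  refine h.cert (fun i => up fun e => (c22S i e : E)) (fun i => lo fun e => (c22T i e : E)) c22M c22N 64 ?_ c22_inv ?_
  · intro a b
    rw [xi_up_lo, c22_eq, pow_mul', pow_mul']
    push_cast
    simp only [map_add, map_mul, map_sub, map_one, map_intCast]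
    norm_cast
    simp only [Int.cast_mul, Int.cast_pow, int_pow (p := p)]
  · intro h0
    rw [CharP.intCast_eq_zero_iff k p] at h0
    have h1 : (p : ℤ) ∣ (2 : ℤ) ^ 6 := by norm_num; exact h0
    have h2 : p ∣ 2 ^ 6 := by exact_mod_cast h1
    exact hp2 ((Nat.prime_dvd_prime_iff_eq hp.out Nat.prime_two).1 (hp.out.dvd_of_dvd_pow h2))

include hp in
theorem le_c12 (hp2 : p ≠ 2) {i j : ℕ} (h : Rk (xi ι (p ^ i) (2 * p ^ j) : SpecialLinearGroup (Fin (2 + 1)) E → k) d) :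
    13 ≤ d := by
  refine h.cert (fun i => up fun e => (c12S i e : E)) (fun i => lo fun e => (c12T i e : E)) c12M c12N 64 ?_ c12_inv ?_
  · intro a b
    rw [xi_up_lo, c12_eq, pow_mul' _ 2 (p ^ j)]
    push_cast
    simp only [map_add, map_mul, map_sub, map_one, map_intCast]
    norm_cast
    simp only [Int.cast_mul, Int.cast_pow, int_pow (p := p)]
  · intro h0
    rw [CharP.intCast_eq_zero_iff k p] at h0
    have h1 : (p : ℤ) ∣ (2 : ℤ) ^ 6 := by norm_num; exact h0
    have h2 : p ∣ 2 ^ 6 := by exact_mod_cast h1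
    exact hp2 ((Nat.prime_dvd_prime_iff_eq hp.out Nat.prime_two).1 (hp.out.dvd_of_dvd_pow h2))

include hp in
theorem le_c13 (hp2 : 5 ≤ p) {i j : ℕ} (h : Rk (xi ι (p ^ i) (3 * p ^ j) : SpecialLinearGroup (Fin (2 + 1)) E → k) d) : 13 ≤ d := by
  refine h.cert (fun i => up fun e => (c13S i e : E)) (fun i => lo fun e => (c13T i e : E)) c13M c13N 768 ?_ c13_inv ?_
  · intro a b
    rw [xi_up_lo, c13_eq, pow_mul' _ 3 (p ^ j)]
    push_cast
    simp only [map_add, map_mul, map_sub, map_one, map_intCast]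
    norm_cast
    simp only [Int.cast_mul, Int.cast_pow, int_pow (p := p)]
  · intro h0
    rw [CharP.intCast_eq_zero_iff k p] at h0
    have h1 : (p : ℤ) ∣ ((2 ^ 8 * 3 : ℕ) : ℤ) := by norm_num; exact h0
    have h2 : p ∣ 2 ^ 8 * 3 := by exact_mod_cast h1
    rcases hp.out.dvd_mul.1 h2 with h3 | h3
    · have := Nat.le_of_dvd (by norm_num) (hp.out.dvd_of_dvd_pow h3)
      omega
    · have := Nat.le_of_dvd (by norm_num) h3
      omega

end three

section four

variable {E : Type*} [Field E]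

/-- upper unipotent -/
def uA (s : Fin 5 → E) : SpecialLinearGroup (Fin (3 + 1)) E :=
  ⟨!![1, s 0, s 1, s 2; 0, 1, s 3, s 4; 0, 0, 1, 0; 0, 0, 0, 1], by
    simp [Matrix.det_succ_row_zero, Fin.sum_univ_succ]⟩

/-- lower unipotent -/
def lA (s : Fin 5 → E) : SpecialLinearGroup (Fin (3 + 1)) E :=
  ⟨!![1, 0, 0, 0; s 0, 1, 0, 0; s 1, s 3, 1, 0; s 2, s 4, 0, 1], by
    simp [Matrix.det_succ_row_zero, Fin.sum_univ_succ]⟩

/-- upper unipotent -/
def uB (s : Fin 5 → E) : SpecialLinearGroup (Fin (3 + 1)) E :=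
  ⟨!![1, s 0, s 1, s 2; 0, 1, 0, s 3; 0, 0, 1, s 4; 0, 0, 0, 1], by
    simp [Matrix.det_succ_row_zero, Fin.sum_univ_succ]⟩

/-- its inverse -/
def uBI (s : Fin 5 → E) : SpecialLinearGroup (Fin (3 + 1)) E :=
  ⟨!![1, -s 0, -s 1, s 0 * s 3 + s 1 * s 4 - s 2; 0, 1, 0, -s 3; 0, 0, 1, -s 4; 0, 0, 0, 1], by
    simp [Matrix.det_succ_row_zero, Fin.sum_univ_succ]⟩

/-- lower unipotent -/
def lB (s : Fin 5 → E) : SpecialLinearGroup (Fin (3 + 1)) E :=
  ⟨!![1, 0, 0, 0; s 0, 1, 0, 0; s 1, 0, 1, 0; s 2, s 3, s 4, 1], by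
    simp [Matrix.det_succ_row_zero, Fin.sum_univ_succ]⟩

/-- its inverse -/
def lBI (s : Fin 5 → E) : SpecialLinearGroup (Fin (3 + 1)) E :=
  ⟨!![1, 0, 0, 0; -s 0, 1, 0, 0; -s 1, 0, 1, 0; s 0 * s 3 + s 1 * s 4 - s 2, -s 3, -s 4, 1], by
    simp [Matrix.det_succ_row_zero, Fin.sum_univ_succ]⟩

theorem uB_inv (s : Fin 5 → E) : (uB s)⁻¹ = uBI s := by
  apply inv_eq_of_mul_eq_one_right
  apply Subtype.ext
  change (uB s).1 * (uBI s).1 = (1 : Matrix (Fin (3 + 1)) (Fin (3 + 1)) E)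
  ext i j
  fin_cases i <;> fin_cases j <;> (simp [uB, uBI, Matrix.mul_apply, Fin.sum_univ_four]; try ring)

theorem lB_inv (s : Fin 5 → E) : (lB s)⁻¹ = lBI s := by
  apply inv_eq_of_mul_eq_one_right
  apply Subtype.ext
  change (lB s).1 * (lBI s).1 = (1 : Matrix (Fin (3 + 1)) (Fin (3 + 1)) E)
  ext i j
  fin_cases i <;> fin_cases j <;> (simp [lB, lBI, Matrix.mul_apply, Fin.sum_univ_four]; try ring)

variable {k : Type*} [Field k] (ι : E →+* k)

theorem xi_uB_lB (a b : ℕ) (s t : Fin 5 → E) : xi ι a b (uB s * lB t) =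
    ι (1 + s 0 * t 0 + s 1 * t 1 + s 2 * t 2) ^ a *
      ι (1 + s 3 * t 3 + s 4 * t 4 + (s 0 * s 3 + s 1 * s 4 - s 2) * (t 0 * t 3 + t 1 * t 4 - t 2)) ^ b := by
  rw [xi_mul, uB_inv, lB_inv]
  congr 3
  · rw [Fin.sum_univ_four]
    simp [uB, lB]
  · rw [Fin.sum_univ_four]
    simp [uBI, lBI, show Fin.last 3 = (3 : Fin 4) from rfl]
    ring

theorem xf_uA_lA (a b : ℕ) (s t : Fin 5 → E) : xf ι 1 2 a b 0 0 (uA s * lA t) =
    ι (1 + s 0 * t 0 + s 1 * t 1 + s 2 * t 2) ^ a *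
      ι ((1 + s 0 * t 0 + s 1 * t 1 + s 2 * t 2) * (1 + s 3 * t 3 + s 4 * t 4) -
        (s 0 + s 1 * t 3 + s 2 * t 4) * (t 0 + s 3 * t 1 + s 4 * t 2)) ^ b := by
  unfold xf xi mn
  rw [pow_zero, pow_zero, mul_one, mul_one]
  change ι (((uA s).1 * (lA t).1) 0 0) ^ a * ι (((uA s).1 * (lA t).1) 0 0 * ((uA s).1 * (lA t).1) 1 1 -
    ((uA s).1 * (lA t).1) 0 1 * ((uA s).1 * (lA t).1) 1 0) ^ b = _
  have e : ∀ i j, ((uA s).1 * (lA t).1) i j = (uA s).1 i 0 * (lA t).1 0 j + (uA s).1 i 1 * (lA t).1 1 j +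
      (uA s).1 i 2 * (lA t).1 2 j + (uA s).1 i 3 * (lA t).1 3 j := by
    intro i j
    rw [Matrix.mul_apply, Fin.sum_univ_four]
  rw [e, e, e, e]
  congr 3
  · simp [uA, lA]
  · simp [uA, lA]

variable {p : ℕ} [hp : Fact p.Prime] [CharP k p] {d : ℕ}

include hp in
theorem le_d101 {i j : ℕ} (h : Rk (xi ι (p ^ i) (p ^ j) : SpecialLinearGroup (Fin (3 + 1)) E → k) d) : 13 ≤ d := by
  refine h.cert (fun i => uB fun e => (d101S i e : E)) (fun i => lB fun e => (d101T i e : E)) d101M d101N 1 ?_ d101_inv ?_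
  · intro a b
    rw [xi_uB_lB, d101_eq]
    unfold z1 z3
    push_cast
    simp only [map_add, map_mul, map_sub, map_one, map_intCast]
    norm_cast
    simp only [Int.cast_mul, Int.cast_pow, int_pow (p := p)]
  · simp

include hp in
theorem le_d110 {i j : ℕ} (h : Rk (xf ι 1 2 (p ^ i) (p ^ j) 0 0 : SpecialLinearGroup (Fin (3 + 1)) E → k) d) :
    13 ≤ d := by
  refine h.cert (fun i => uA fun e => (d110S i e : E)) (fun i => lA fun e => (d110T i e : E)) d110M d110N 1 ?_ d110_inv ?_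
  · intro a b
    rw [xf_uA_lA, d110_eq]
    unfold z2 z1
    push_cast
    simp only [map_add, map_mul, map_sub, map_one, map_intCast]
    norm_cast
    simp only [Int.cast_mul, Int.cast_pow, int_pow (p := p)]
  · simp

include hp in
theorem le_d020 (hp2 : p ≠ 2) {i : ℕ}
    (h : Rk (xf ι 1 2 0 (2 * p ^ i) 0 0 : SpecialLinearGroup (Fin (3 + 1)) E → k) d) : 13 ≤ d := by
  refine h.cert (fun i => uA fun e => (d020S i e : E)) (fun i => lA fun e => (d020T i e : E)) d020M d020N 8 ?_ d020_inv ?_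
  · intro a b
    rw [xf_uA_lA, d020_eq, pow_zero, one_mul, pow_mul']
    unfold z2 z1
    push_cast
    simp only [map_add, map_mul, map_sub, map_one, map_intCast]
    norm_cast
    simp only [Int.cast_pow, int_pow (p := p)]
  · intro h0
    rw [CharP.intCast_eq_zero_iff k p] at h0
    have h1 : (p : ℤ) ∣ (2 : ℤ) ^ 3 := by norm_num; exact h0
    have h2 : p ∣ 2 ^ 3 := by exact_mod_cast h1
    exact hp2 ((Nat.prime_dvd_prime_iff_eq hp.out Nat.prime_two).1 (hp.out.dvd_of_dvd_pow h2))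

end four

end Cfsg.Agent.H887.DS
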