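import Mathlib

/-!
# Integral certificates (helper887)

Thirteen rows and columns of matrix coefficients of `SL(3)`, `SL(4)` with determinant a product of powers of 2 and 3.
-/

set_option autoImplicit false

namespace Cfsg.Agent.H887.DS

/-- points -/
def c22S : Fin 13 → Fin 3 → ℤ :=
  ![![0, 0, -1],
  ![0, 0, 0],
  ![-1, 0, -1],
  ![0, -1, 0],
  ![0, -1, -1],
  ![1, -1, -1],
  ![-1, -1, 0],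
  ![-1, 1, -1],
  ![-1, 0, 0],
  ![1, -1, 0],
  ![0, -1, 1],
  ![-1, -1, -1],
  ![0, 0, 1]]

/-- points -/
def c22T : Fin 13 → Fin 3 → ℤ :=
  ![![0, 1, 0],
  ![1, 1, 1],
  ![0, 0, 0],
  ![0, 1, 1],
  ![1, 0, -1],
  ![1, 1, 0],
  ![0, 0, 1],
  ![1, 1, -1],
  ![-1, 0, 1],
  ![-1, -1, 1],
  ![1, 0, 1],
  ![1, 0, 0],
  ![-1, 1, 0]]

/-- the matrix -/
def c22M : Fin 13 → Fin 13 → ℤ :=
  ![![1, 0, 1, 0, 4, 1, 0, 4, 0, 0, 0, 1, 1],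
  ![1, 1, 1, 1, 1, 1, 1, 1, 1, 1, 1, 1, 1],
  ![0, 0, 1, 1, 0, 0, 0, 0, 4, 0, 0, 0, 0],
  ![0, 0, 1, 0, 0, 0, 1, 0, 0, 4, 4, 1, 0],
  ![0, 0, 1, 0, 1, 0, 0, 0, 1, 0, 1, 1, 0],
  ![0, 0, 1, 0, 16, 1, 0, 4, 0, 0, 0, 4, 1],
  ![0, 1, 1, 0, 0, 0, 1, 1, 0, 9, 0, 0, 0],
  ![4, 0, 1, 0, 0, 1, 0, 4, 0, 0, 0, 0, 9],
  ![1, 0, 1, 1, 0, 0, 1, 0, 4, 4, 0, 0, 4],
  ![0, 1, 1, 0, 0, 0, 1, 1, 0, 1, 16, 4, 0],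
  ![0, 0, 1, 0, 1, 0, 4, 0, 1, 16, 9, 1, 0],
  ![0, 0, 1, 0, 0, 1, 0, 4, 16, 0, 0, 0, 1],
  ![1, 4, 1, 4, 0, 1, 4, 0, 4, 4, 4, 1, 1]]

/-- the inverse times 64 -/
def c22N : Fin 13 → Fin 13 → ℤ :=
  ![![88, 48, 0, -528, 312, -52, 0, -24, 48, 48, 120, -36, -24],
  ![-86, -28, 32, 148, -62, 29, 24, 46, -92, -20, -30, 17, 22],
  ![-88, -48, 64, 336, -120, 36, 0, 56, -112, -48, -56, 20, 24],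
  ![80, 32, 0, -160, 16, -24, 0, -48, 96, 32, 16, -24, -16],
  ![-38, -12, 32, 68, -38, 17, 0, 22, -44, -12, -6, 5, 6],
  ![-152, 80, 64, 464, -344, 60, 0, 48, -112, -48, -88, 36, -8],
  ![40, -48, -64, 16, 72, -12, -32, -8, 16, -16, 8, 4, 24],
  ![62, -20, -32, -68, 38, -17, 0, -22, 44, 12, 6, -5, 2],
  ![2, 4, 0, -44, 26, -3, 0, -2, 4, 4, 10, 1, -2],
  ![8, 16, 0, -48, 8, -4, 8, -8, 16, 8, 8, -4, -8],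
  ![-36, -8, 32, 88, -60, 14, 0, 20, -40, -8, -12, 6, 4],
  ![160, 64, -128, -448, 256, -64, 0, -96, 192, 64, 64, -32, -32],
  ![-40, -16, 0, 176, -104, 20, 0, 16, -16, -16, -40, 12, 8]]

/-- points -/
def c13S : Fin 13 → Fin 3 → ℤ :=
  ![![-1, 1, 0],
  ![0, 0, 0],
  ![-1, 0, 0],
  ![-1, 1, -1],
  ![1, 0, -1],
  ![0, 1, 1],
  ![0, 1, 0],
  ![0, -1, 1],
  ![0, 1, -1],
  ![1, 1, -1],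
  ![1, -1, -1],
  ![1, 1, 1],
  ![-1, 1, 1]]

/-- points -/
def c13T : Fin 13 → Fin 3 → ℤ :=
  ![![0, 0, 0],
  ![0, -1, -1],
  ![-1, 0, 0],
  ![1, 1, 1],
  ![0, 0, 1],
  ![-1, -1, 0],
  ![-1, 0, -1],
  ![1, 0, 1],
  ![1, -1, -1],
  ![0, 1, 0],
  ![0, -1, 0],
  ![0, 0, -1],
  ![1, 1, 0]]

/-- the matrix -/
def c13M : Fin 13 → Fin 13 → ℤ :=
  ![![1, 0, 2, 1, 1, 0, 0, 0, -1, 16, 0, 1, 8],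
  ![1, 1, 1, 1, 1, 1, 1, 1, 1, 1, 1, 1, 1],
  ![1, 1, 2, 0, 1, 2, 2, 0, 0, 1, 1, 1, 0],
  ![1, 0, 2, 0, 0, 1, 16, 0, -8, 2, 0, 8, 1],
  ![1, 1, 0, 0, 0, 0, 0, -2, 16, 8, 0, 8, 16],
  ![1, 0, 1, 16, 8, 0, -1, 1, 0, 16, 0, 0, 16],
  ![1, 0, 1, 2, 1, 0, 0, 0, 0, 16, 0, 1, 16],
  ![1, 2, 1, 0, 8, 16, 1, 27, 0, 0, 16, 0, 0],
  ![1, 0, 1, 0, 0, 0, 1, -1, 0, 16, 0, 8, 16],
  ![1, 0, 0, 0, 0, 1, 0, -16, 8, 54, 0, 8, 81],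
  ![1, 16, 0, 0, 0, 1, 0, 0, 24, 0, 2, 8, 1],
  ![1, 0, 0, 24, 8, -1, 0, 16, 0, 2, 0, 0, 3],
  ![1, 0, 2, 8, 8, -1, -16, 0, 0, 54, 0, 0, 27]]

/-- the inverse times 768 -/
def c13N : Fin 13 → Fin 13 → ℤ :=
  ![![-1792, 13056, 768, 2736, 0, -6816, -11008, -768, -5280, 3184, -768, 3760, 3696],
  ![-72, -1064, 8, -210, -72, 540, 1128, 52, 448, -278, 112, -314, -278],
  ![1792, -13056, -768, -2992, 0, 7200, 12032, 768, 5664, -3440, 768, -4016, -3952],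
  ![-56, 4136, 248, 854, -56, -2260, -4328, -244, -1720, 1162, -240, 1342, 1162],
  ![112, -7984, -496, -1643, 112, 4490, 8240, 472, 3330, -2247, 464, -2603, -2247],
  ![-1664, 12160, 1664, 2896, 0, -7264, -12160, -768, -5600, 3472, -768, 4112, 3920],
  ![28, 172, -60, 99, 28, -90, -140, -6, -168, 49, -8, 47, 49],
  ![28, -2132, -60, -421, 28, 1046, 2164, 122, 840, -567, 120, -601, -567],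
  ![56, 216, 8, 58, 56, -140, -280, -12, -168, 70, -16, 82, 70],
  ![-128, 2176, 128, 504, 0, -1232, -2176, -128, -976, 600, -128, 696, 664],
  ![1568, -4448, -1312, -1328, -96, 3168, 4192, 368, 2448, -1344, 320, -1744, -1792],
  ![0, -288, 0, -65, 0, 158, 160, 16, 238, -77, 16, -81, -77],
  ![128, -2176, -128, -488, 0, 1200, 2176, 128, 944, -584, 128, -680, -648]]

/-- points -/
def d110S : Fin 13 → Fin 5 → ℤ :=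
  ![![1, 1, 0, 0, 0],
  ![0, 0, 0, 1, 1],
  ![0, 0, 0, 1, 0],
  ![1, 1, 0, 1, 1],
  ![1, 0, 0, 0, 1],
  ![0, 0, 0, 0, 0],
  ![1, 1, 1, 1, 1],
  ![1, 0, 0, 1, 1],
  ![1, 1, 0, 0, 1],
  ![0, 1, 0, 0, 1],
  ![0, 0, 1, 0, 0],
  ![0, 1, 0, 1, 1],
  ![0, 1, 0, 1, 0]]

/-- points -/
def d110T : Fin 13 → Fin 5 → ℤ :=
  ![![0, 0, 1, 0, 0],
  ![1, 1, 0, 1, 0],
  ![1, 1, 1, 1, 1],
  ![0, 0, 0, 0, 1],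
  ![0, 0, 0, 0, 0],
  ![1, 0, 1, 0, 0],
  ![0, 0, 1, 0, 1],
  ![0, 1, 0, 0, 0],
  ![0, 1, 1, 1, 1],
  ![0, 1, 0, 1, 0],
  ![1, 1, 1, 0, 0],
  ![0, 0, 1, 1, 0],
  ![1, 1, 0, 0, 0]]

/-- the matrix -/
def d110M : Fin 13 → Fin 13 → ℤ :=
  ![![1, 3, 3, 1, 1, 2, 1, 4, 4, 4, 6, 1, 6],
  ![1, 2, 3, 2, 1, 1, 2, 1, 3, 2, 1, 2, 1],
  ![1, 2, 2, 1, 1, 1, 1, 1, 2, 2, 1, 2, 1],
  ![0, 6, 9, 2, 1, 0, 1, 2, 4, 4, 0, 0, 3],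
  ![0, 2, 4, 2, 1, 0, 1, 1, 1, 1, 0, 0, 2],
  ![1, 1, 1, 1, 1, 1, 1, 1, 1, 1, 1, 1, 1],
  ![2, 6, 12, 2, 1, 3, 4, 2, 9, 4, 4, 4, 3],
  ![0, 4, 6, 2, 1, 0, 1, 0, 1, 1, -2, 1, 0],
  ![0, 3, 6, 2, 1, 0, 1, 4, 4, 4, 3, -1, 6],
  ![1, 2, 4, 2, 1, 1, 2, 4, 6, 4, 4, 0, 4],
  ![4, 1, 2, 1, 1, 4, 4, 1, 4, 1, 4, 4, 1],
  ![1, 4, 6, 2, 1, 1, 2, 4, 8, 6, 4, 1, 4],
  ![1, 4, 4, 1, 1, 1, 1, 4, 6, 6, 4, 2, 4]]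

/-- the inverse times 1 -/
def d110N : Fin 13 → Fin 13 → ℤ :=
  ![![0, -5, -1, -4, 3, -1, -1, 4, 1, -4, 2, 6, 0],
  ![0, 3, 15, 12, 6, -15, 0, -12, -9, 16, -1, -16, 1],
  ![0, -3, -12, -9, -3, 11, 0, 9, 6, -12, 1, 12, 0],
  ![1, -5, -14, -14, -5, 12, -1, 15, 9, -17, 2, 19, -2],
  ![-1, 3, 14, 13, 8, -11, 1, -15, -10, 16, -2, -17, 2],
  ![1, 0, -13, -11, -13, 16, 0, 13, 11, -15, 0, 15, -4],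
  ![-1, 7, 10, 14, 5, -10, 1, -15, -9, 16, -2, -19, 3],
  ![0, 0, -2, -2, -3, 2, 0, 3, 2, -1, 0, 1, 0],
  ![0, 2, 15, 9, 3, -13, 0, -9, -6, 13, -1, -12, -1],
  ![0, -2, -19, -12, -6, 18, 0, 12, 9, -18, 1, 17, 0],
  ![0, -3, -9, -5, 3, 6, 0, 4, 1, -7, 1, 7, 2],
  ![0, 0, 2, 0, 0, -2, 0, 0, 0, 1, 0, -1, 0],
  ![0, 3, 14, 9, 2, -12, 0, -9, -5, 12, -1, -12, -1]]

/-- points -/
def d101S : Fin 13 → Fin 5 → ℤ :=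
  ![![0, 0, 0, 1, 0],
  ![0, 1, 0, 0, 0],
  ![0, 0, 0, 0, 1],
  ![1, 1, 1, 1, 0],
  ![1, 0, 0, 0, 1],
  ![1, 0, 1, 0, 1],
  ![0, 0, 1, 0, 0],
  ![0, 0, 0, 1, 1],
  ![0, 0, 1, 1, 0],
  ![0, 0, 1, 0, 1],
  ![1, 0, 1, 0, 0],
  ![1, 0, 0, 1, 1],
  ![0, 1, 0, 1, 0]]

/-- points -/
def d101T : Fin 13 → Fin 5 → ℤ :=
  ![![1, 1, 0, 0, 0],
  ![0, 0, 1, 0, 0],
  ![1, 0, 1, 0, 1],
  ![0, 0, 1, 0, 1],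
  ![0, 1, 0, 0, 1],
  ![0, 0, 0, 0, 1],
  ![1, 0, 1, 1, 0],
  ![0, 1, 1, 1, 1],
  ![0, 0, 0, 1, 1],
  ![0, 1, 1, 0, 0],
  ![1, 0, 1, 1, 1],
  ![0, 1, 1, 1, 0],
  ![0, 1, 0, 0, 0]]

/-- the matrix -/
def d101M : Fin 13 → Fin 13 → ℤ :=
  ![![1, 1, 1, 1, 1, 1, 2, 2, 2, 1, 2, 2, 1],
  ![2, 1, 1, 1, 2, 1, 1, 2, 1, 2, 1, 2, 2],
  ![1, 1, 2, 2, 2, 2, 1, 2, 2, 1, 2, 1, 1],
  ![3, 2, 3, 2, 2, 1, 6, 6, 2, 3, 6, 6, 2],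
  ![2, 1, 4, 2, 2, 2, 2, 2, 2, 1, 4, 1, 1],
  ![2, 4, 9, 6, 1, 2, 3, 4, 2, 4, 6, 4, 1],
  ![1, 4, 4, 4, 0, 1, 2, 2, 1, 4, 2, 4, 1],
  ![1, 1, 2, 2, 2, 2, 2, 3, 3, 1, 3, 2, 1],
  ![1, 4, 4, 4, 0, 1, 4, 4, 2, 4, 4, 6, 1],
  ![1, 4, 6, 6, 1, 2, 2, 4, 2, 4, 4, 4, 1],
  ![2, 4, 6, 4, 0, 1, 3, 2, 1, 4, 3, 4, 1],
  ![2, 0, 2, 1, 3, 2, 4, 3, 3, 0, 6, 1, 1],
  ![2, 1, 1, 1, 2, 1, 2, 4, 2, 2, 2, 4, 2]]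

/-- the inverse times 1 -/
def d101N : Fin 13 → Fin 13 → ℤ :=
  ![![0, -1, -2, 0, 2, -2, 0, 0, -1, 2, 1, 0, 1],
  ![3, -5, 3, 1, -2, 2, 7, -3, -5, -2, -2, 1, 3],
  ![0, 0, 1, 0, -1, 1, 0, 0, 0, -1, 0, 0, 0],
  ![0, 2, 1, -2, 0, -2, -7, -3, 4, 3, 3, 1, 0],
  ![-1, -1, 3, -1, -3, 1, 0, -2, 0, -1, 1, 2, 2],
  ![-1, 1, -1, 1, 3, -1, 0, 2, 1, 0, -1, -2, -2],
  ![0, 1, 1, 0, -1, 0, -2, 0, 1, 0, 1, 0, -1],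
  ![1, -2, -1, 2, 0, 1, 5, 2, -4, -1, -2, -1, 0],
  ![0, 0, -2, 0, 0, 0, 1, 2, -1, 0, 0, 0, 0],
  ![-3, 2, -6, 2, 2, 0, 4, 8, -2, -1, -2, -2, -3],
  ![0, 0, -1, 0, 1, 0, 1, 0, 0, 0, -1, 0, 0],
  ![-1, 1, 2, -2, 0, -1, -5, -3, 4, 1, 2, 1, 1],
  ![3, 2, 3, -1, -1, 1, -4, -4, 3, 0, 0, 0, -1]]

/-- points -/
def d020S : Fin 13 → Fin 5 → ℤ :=
  ![![0, 0, 0, 0, 0],
  ![1, 1, 1, 0, 1],
  ![1, 1, 0, 0, 1],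
  ![1, 1, 0, 1, 1],
  ![1, 0, 0, 1, 1],
  ![0, 1, 1, 1, 1],
  ![0, 1, 1, 0, 1],
  ![1, 1, 1, 1, 0],
  ![0, 1, 0, 1, 1],
  ![1, 1, 1, 1, 1],
  ![0, 0, 1, 0, 1],
  ![0, 0, 1, 0, 0],
  ![1, 1, 0, 0, 0]]

/-- points -/
def d020T : Fin 13 → Fin 5 → ℤ :=
  ![![0, 1, 1, 1, 0],
  ![1, 1, 1, 1, 0],
  ![1, 0, 1, 1, 1],
  ![0, 0, 1, 1, 1],
  ![0, 0, 0, 0, 0],
  ![1, 0, 0, 1, 0],
  ![1, 0, 1, 1, 0],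
  ![1, 1, 0, 0, 0],
  ![0, 0, 1, 0, 1],
  ![1, 1, 1, 0, 0],
  ![1, 1, 1, 1, 1],
  ![1, 0, 0, 1, 1],
  ![1, 1, 0, 1, 1]]

/-- the matrix -/
def d020M : Fin 13 → Fin 13 → ℤ :=
  ![![1, 1, 1, 1, 1, 1, 1, 1, 1, 1, 1, 1, 1],
  ![1, 0, 0, 1, 1, 0, 1, 4, 4, 4, 4, 1, 9],
  ![0, 1, 0, 0, 1, 0, 4, 4, 1, 1, 4, 4, 16],
  ![0, 0, 4, 1, 1, 4, 0, 1, 1, 0, 9, 16, 25],
  ![0, 1, 16, 4, 1, 9, 4, 0, 1, 1, 9, 25, 16],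
  ![16, 9, 4, 16, 1, 1, 4, 4, 9, 9, 9, 1, 4],
  ![4, 1, 0, 4, 1, 0, 0, 4, 9, 9, 4, 0, 4],
  ![16, 16, 9, 16, 1, 4, 16, 1, 4, 4, 4, 1, 0],
  ![4, 1, 1, 4, 1, 1, 0, 4, 4, 4, 9, 4, 16],
  ![4, 4, 9, 9, 1, 4, 4, 1, 4, 1, 9, 9, 9],
  ![4, 4, 4, 9, 1, 1, 4, 1, 9, 4, 4, 1, 1],
  ![4, 4, 1, 4, 1, 1, 4, 1, 4, 4, 1, 0, 0],
  ![4, 1, 0, 1, 1, 0, 0, 4, 1, 4, 1, 0, 1]]

/-- the inverse times 8 -/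
def d020N : Fin 13 → Fin 13 → ℤ :=
  ![![-8, 452, -119, 48, 3, 109, -151, -20, -186, -10, -66, 52, -104],
  ![2, 46, -11, 11, -6, 10, -3, 0, -33, 12, -16, -1, -11],
  ![82, 46, 9, 3, 0, 32, 25, 4, -53, 0, -36, -53, -59],
  ![14, -738, 193, -82, 0, -176, 237, 32, 314, 4, 116, -84, 170],
  ![132, 108, 6, 6, 2, 62, 18, 0, -94, -4, -60, -66, -102],
  ![-92, -540, 110, -56, 0, -160, 126, 20, 276, 0, 124, 4, 188],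
  ![-28, 208, -59, 20, 3, 45, -83, -12, -74, -6, -22, 44, -36],
  ![-78, -82, 1, -5, -2, -42, -7, 0, 63, 4, 40, 39, 69],
  ![-42, 426, -121, 49, 0, 92, -153, -20, -167, -4, -52, 69, -77],
  ![60, -396, 118, -46, 0, -80, 154, 20, 146, 4, 40, -78, 58],
  ![-36, 476, -130, 52, 0, 108, -166, -24, -192, 0, -68, 76, -96],
  ![-32, 208, -60, 24, 0, 44, -80, -12, -80, 0, -24, 44, -32],
  ![34, -214, 63, -24, 0, -44, 83, 12, 80, 0, 24, -46, 32]]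

/-- points -/
def c12S : Fin 13 → Fin 3 → ℤ :=
  ![![1, -1, 0],
  ![1, -1, -1],
  ![-1, 0, -1],
  ![0, -1, 1],
  ![0, 0, 0],
  ![0, -1, 0],
  ![1, -1, 1],
  ![-1, -1, -1],
  ![-1, 0, 0],
  ![1, 0, 1],
  ![0, 0, 1],
  ![1, 1, 1],
  ![0, 0, -1]]

/-- points -/
def c12T : Fin 13 → Fin 3 → ℤ :=
  ![![-1, 1, -1],
  ![-1, 1, 0],
  ![0, 1, -1],
  ![-1, 0, -1],
  ![0, 1, 0],
  ![0, 0, -1],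
  ![0, 0, 1],
  ![-1, 1, 1],
  ![0, 0, 0],
  ![-1, 0, 1],
  ![0, -1, 0],
  ![0, 1, 1],
  ![-1, 0, 0]]

/-- the matrix -/
def c12M : Fin 13 → Fin 13 → ℤ :=
  ![![-1, 0, 0, 0, 0, 1, 1, -1, 1, 0, 8, 0, 0],
  ![-4, -1, 0, 0, 0, 4, 0, 0, 1, 0, 2, 0, 0],
  ![8, 0, 1, 18, 0, 4, 0, 8, 1, 2, 4, 1, 2],
  ![0, 0, 0, 1, 0, 0, 4, 0, 1, 1, 8, 0, 1],
  ![1, 1, 1, 1, 1, 1, 1, 1, 1, 1, 1, 1, 1],
  ![0, 0, 0, 4, 0, 1, 1, 0, 1, 0, 8, 0, 1],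
  ![0, -1, 0, 0, 0, 0, 4, -4, 1, 0, 18, 0, 0],
  ![4, 1, 0, 32, 0, 4, 0, 16, 1, 8, 18, 0, 2],
  ![2, 2, 1, 2, 1, 1, 1, 2, 1, 2, 1, 1, 2],
  ![0, 0, 1, 0, 0, 0, 4, 0, 1, 0, 4, 1, 0],
  ![0, 1, 0, 0, 1, 0, 4, 4, 1, 4, 1, 4, 1],
  ![0, 1, 0, 0, 2, 0, 4, 4, 1, 0, 0, 8, 0],
  ![4, 1, 4, 4, 1, 4, 0, 0, 1, 0, 1, 0, 1]]

/-- the inverse times 64 -/
def c12N : Fin 13 → Fin 13 → ℤ :=
  ![![12, -3, 10, 0, 4, -20, 5, -3, 4, -2, -2, -1, -4],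
  ![-48, 48, 8, -128, -48, -80, 72, 8, 176, 120, -64, 0, -64],
  ![56, -51, -24, 96, -16, 80, -73, -1, -120, -80, 54, 3, 76],
  ![-48, 21, 4, -64, 8, -8, 35, 3, 48, 52, -18, -5, -28],
  ![-40, 12, -4, 32, 120, -56, 24, 8, -24, -28, -40, 12, -16],
  ![-20, 33, 10, -32, -28, -52, 33, 1, 68, 30, -26, 3, -20],
  ![-44, 27, 6, -32, -4, -44, 35, 3, 60, 50, -30, 1, -28],
  ![84, -41, -10, 128, -4, 20, -73, -1, -100, -94, 26, 13, 52],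
  ![32, -8, 16, -64, 96, 32, -8, -8, -32, 48, 16, -24, -32],
  ![-32, 15, 4, -64, 8, -8, 33, 1, 32, 36, 10, -15, -20],
  ![24, -12, -4, 32, -8, 8, -16, 0, -24, -28, 8, 4, 16],
  ![-8, -1, 0, -32, -32, 32, 5, -3, 8, 8, 18, 1, 4],
  ![32, -40, -16, 128, -32, 96, -72, -8, -96, -112, 48, 8, 64]]

theorem c22_inv : ∀ i j : Fin 13, ∑ m, c22N i m * c22M m j = if i = j then 64 else 0 := by decide +kernel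

theorem c22_eq : ∀ i j : Fin 13, c22M i j = (1 + c22S i 0 * c22T j 0 + c22S i 1 * c22T j 1) ^ 2 *
    (1 + c22S i 2 * c22T j 2 + (c22S i 0 * c22S i 2 - c22S i 1) * (c22T j 0 * c22T j 2 - c22T j 1)) ^ 2 := by
  decide +kernel

theorem c13_inv : ∀ i j : Fin 13, ∑ m, c13N i m * c13M m j = if i = j then 768 else 0 := by decide +kernel

theorem c13_eq : ∀ i j : Fin 13, c13M i j = (1 + c13S i 0 * c13T j 0 + c13S i 1 * c13T j 1) *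
    (1 + c13S i 2 * c13T j 2 + (c13S i 0 * c13S i 2 - c13S i 1) * (c13T j 0 * c13T j 2 - c13T j 1)) ^ 3 := by
  decide +kernel

theorem c12_inv : ∀ i j : Fin 13, ∑ m, c12N i m * c12M m j = if i = j then 64 else 0 := by decide +kernel

theorem c12_eq : ∀ i j : Fin 13, c12M i j = (1 + c12S i 0 * c12T j 0 + c12S i 1 * c12T j 1) *
    (1 + c12S i 2 * c12T j 2 + (c12S i 0 * c12S i 2 - c12S i 1) * (c12T j 0 * c12T j 2 - c12T j 1)) ^ 2 := by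
  decide +kernel

/-- the leading entry -/
def z1 (s t : Fin 5 → ℤ) : ℤ := 1 + s 0 * t 0 + s 1 * t 1 + s 2 * t 2

/-- the leading minor -/
def z2 (s t : Fin 5 → ℤ) : ℤ := z1 s t * (1 + s 3 * t 3 + s 4 * t 4) - (s 0 + s 1 * t 3 + s 2 * t 4) *
  (t 0 + s 3 * t 1 + s 4 * t 2)

/-- the last entry of the inverse -/
def z3 (s t : Fin 5 → ℤ) : ℤ := 1 + s 3 * t 3 + s 4 * t 4 + (s 0 * s 3 + s 1 * s 4 - s 2) * (t 0 * t 3 + t 1 * t 4 - t 2)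

theorem d110_inv : ∀ i j : Fin 13, ∑ m, d110N i m * d110M m j = if i = j then 1 else 0 := by decide +kernel

theorem d110_eq : ∀ i j : Fin 13, d110M i j = z1 (d110S i) (d110T j) * z2 (d110S i) (d110T j) := by
  decide +kernel

theorem d101_inv : ∀ i j : Fin 13, ∑ m, d101N i m * d101M m j = if i = j then 1 else 0 := by decide +kernel

theorem d101_eq : ∀ i j : Fin 13, d101M i j = z1 (d101S i) (d101T j) * z3 (d101S i) (d101T j) := by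
  decide +kernel

theorem d020_inv : ∀ i j : Fin 13, ∑ m, d020N i m * d020M m j = if i = j then 8 else 0 := by decide +kernel

theorem d020_eq : ∀ i j : Fin 13, d020M i j = z2 (d020S i) (d020T j) ^ 2 := by
  decide +kernel

end Cfsg.Agent.H887.DS
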