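import Cfsg.Agent.H887.DS.Lin

/-!
# Simple modules with the same matrix coefficient (helper887)

* `iso_of_coef` : two simple modules with a common nonzero matrix coefficient are isomorphic;
* `trace_eq_of_coef` : and have the same traces;
* `dual_of_coef` : `φ (ρ g⁻¹ v) = φ' (ρ g v')` implies `tr ρ(g⁻¹) = tr ρ(g)`.
-/

set_option autoImplicit false

namespace Cfsg.Agent.H887.DS

open Module

section

variable {G k V₁ V₂ : Type*} [Group G] [Field k] [AddCommGroup V₁] [Module k V₁] [AddCommGroup V₂] [Module k V₂]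
  {ρ₁ : G →* Module.End k V₁} {ρ₂ : G →* Module.End k V₂}
  (hirr₁ : ∀ L : Submodule k V₁, (∀ g, ∀ w ∈ L, ρ₁ g w ∈ L) → L = ⊥ ∨ L = ⊤)
  (hirr₂ : ∀ L : Submodule k V₂, (∀ g, ∀ w ∈ L, ρ₂ g w ∈ L) → L = ⊥ ∨ L = ⊤)
  {φ₁ : Module.Dual k V₁} {v₁ : V₁} {φ₂ : Module.Dual k V₂} {v₂ : V₂}
include hirr₁ hirr₂

/-- **Same coefficient, isomorphic.** -/
theorem iso_of_coef (hφ₁ : φ₁ ≠ 0) (hv₁ : v₁ ≠ 0) (hφ₂ : φ₂ ≠ 0) (hv₂ : v₂ ≠ 0)
    (h : ∀ g, φ₁ (ρ₁ g v₁) = φ₂ (ρ₂ g v₂)) : ∃ θ : V₁ ≃ₗ[k] V₂, ∀ g v, θ (ρ₁ g v) = ρ₂ g (θ v) := by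
  have i1 := Psi_injective hirr₁ hφ₁
  have i2 := Psi_injective hirr₂ hφ₂
  have hr : LinearMap.range (Psi ρ₁ φ₁) = LinearMap.range (Psi ρ₂ φ₂) := by
    rw [LinearMap.range_eq_map, LinearMap.range_eq_map, ← span_eq_top hirr₁ hv₁, ← span_eq_top hirr₂ hv₂,
      Submodule.map_span, Submodule.map_span, ← Set.range_comp, ← Set.range_comp]
    congr 2
    funext g
    funext x
    rw [Function.comp_apply, Function.comp_apply, Psi_apply, Psi_apply]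
    have h1 := h (x * g)
    rw [map_mul, map_mul] at h1
    exact h1
  let θ : V₁ ≃ₗ[k] V₂ := (LinearEquiv.ofInjective _ i1).trans
    ((LinearEquiv.ofEq _ _ hr).trans (LinearEquiv.ofInjective _ i2).symm)
  have hθ : ∀ v, Psi ρ₂ φ₂ (θ v) = Psi ρ₁ φ₁ v := by
    intro v
    have h1 := (LinearEquiv.ofInjective (Psi ρ₂ φ₂) i2).apply_symm_apply
      ((LinearEquiv.ofEq _ _ hr) ((LinearEquiv.ofInjective _ i1) v))
    have h2 := congrArg Subtype.val h1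
    exact h2
  refine ⟨θ, fun g v => ?_⟩
  apply i2
  rw [hθ]
  funext x
  have h1 := congrFun (hθ v) (x * g)
  rw [Psi_apply, Psi_apply, map_mul, map_mul] at h1
  exact h1.symm

theorem trace_eq_of_coef (hφ₁ : φ₁ ≠ 0) (hv₁ : v₁ ≠ 0) (hφ₂ : φ₂ ≠ 0) (hv₂ : v₂ ≠ 0)
    (h : ∀ g, φ₁ (ρ₁ g v₁) = φ₂ (ρ₂ g v₂)) (g : G) :
    LinearMap.trace k V₁ (ρ₁ g) = LinearMap.trace k V₂ (ρ₂ g) := by
  obtain ⟨θ, hθ⟩ := iso_of_coef hirr₁ hirr₂ hφ₁ hv₁ hφ₂ hv₂ h
  have h1 : ρ₂ g = θ.conj (ρ₁ g) := by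
    ext v
    rw [LinearEquiv.conj_apply_apply, hθ, θ.apply_symm_apply]
  rw [h1, LinearMap.trace_conj']

end

section dual

variable {G k V : Type*} [Group G] [Field k] [AddCommGroup V] [Module k V] [FiniteDimensional k V]
  {ρ : G →* Module.End k V} (hirr : ∀ L : Submodule k V, (∀ g, ∀ w ∈ L, ρ g w ∈ L) → L = ⊥ ∨ L = ⊤)
include hirr

omit [FiniteDimensional k V] hirr in
/-- the dual -/
def dl (ρ : G →* Module.End k V) : G →* Module.End k (Module.Dual k V) where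
  toFun g := (ρ g⁻¹).dualMap
  map_one' := by rw [inv_one, map_one]; rfl
  map_mul' g h := by rw [_root_.mul_inv_rev, map_mul]; rfl

omit [FiniteDimensional k V] hirr in
theorem dl_apply (ρ : G →* Module.End k V) (g : G) (ψ : Module.Dual k V) (x : V) : dl ρ g ψ x = ψ (ρ g⁻¹ x) := rfl

theorem dl_irr (L : Submodule k (Module.Dual k V)) (hL : ∀ g, ∀ w ∈ L, dl ρ g w ∈ L) : L = ⊥ ∨ L = ⊤ := by
  rcases hirr L.dualCoannihilator (fun g w hw => by
    rw [Submodule.mem_dualCoannihilator] at hw ⊢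
    intro ψ hψ
    have := hw _ (hL g⁻¹ ψ hψ)
    rwa [dl_apply, inv_inv] at this) with h | h
  · right
    rw [← Subspace.dualCoannihilator_dualAnnihilator_eq (W := L), h, Submodule.dualAnnihilator_bot]
  · left
    rw [← Subspace.dualCoannihilator_dualAnnihilator_eq (W := L), h, Submodule.dualAnnihilator_top]

theorem dual_of_coef {φ φ' : Module.Dual k V} {v v' : V} (hφ : φ ≠ 0) (hv : v ≠ 0) (hφ' : φ' ≠ 0) (hv' : v' ≠ 0)
    (h : ∀ g, φ (ρ g⁻¹ v) = φ' (ρ g v')) (g : G) :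
    LinearMap.trace k V (ρ g⁻¹) = LinearMap.trace k V (ρ g) := by
  have h1 := trace_eq_of_coef (dl_irr hirr) hirr (φ₁ := Module.Dual.eval k V v) (v₁ := φ) ?_ hφ hφ' hv' (fun g => h g) g
  · rw [← h1]
    exact (LinearMap.trace_transpose' (ρ g⁻¹)).symm
  · intro h0
    apply hv
    rw [← Module.forall_dual_apply_eq_zero_iff k v]
    intro ψ
    exact congrArg (fun f : Module.Dual k (Module.Dual k V) => f ψ) h0

end dual

end Cfsg.Agent.H887.DS
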