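import Mathlib

/-!
# Monomials as functions over a finite field (helper887)

* `mono_indep` : monomials with exponents `< |E|`, not constant, are linearly independent functions on the nonzero vectors;
* `pow_indep` : the one variable version, constants allowed.
-/

set_option autoImplicit false

namespace Cfsg.Agent.H887.DS

theorem mono_indep {E k : Type*} [Field E] [Finite E] [Field k] (ι : E →+* k) {M : Type*} [Fintype M] {m : ℕ}
    (e : M → Fin m → ℕ) (he : Function.Injective e) (hlt : ∀ α j, e α j < Nat.card E) (hpos : ∀ α, ∃ j, e α j ≠ 0)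
    (x : M → k) (h : ∀ y : Fin m → E, y ≠ 0 → ∑ α, x α * ∏ j, ι (y j) ^ e α j = 0) : x = 0 := by
  classical
  have := Fintype.ofFinite E
  set P : MvPolynomial (Fin m) k := ∑ α, MvPolynomial.monomial (Finsupp.equivFunOnFinite.symm (e α)) (x α) with hP
  have hcoef : ∀ α, P.coeff (Finsupp.equivFunOnFinite.symm (e α)) = x α := by
    intro α
    rw [hP, MvPolynomial.coeff_sum, Finset.sum_eq_single α]
    · rw [MvPolynomial.coeff_monomial, if_pos rfl]
    · intro β _ hβ
      rw [MvPolynomial.coeff_monomial, if_neg]
      intro h1
      exact hβ (he (Finsupp.equivFunOnFinite.symm.injective h1))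
    · intro h1; exact absurd (Finset.mem_univ _) h1
  have hP0 : P = 0 := by
    refine MvPolynomial.eq_zero_of_eval_zero_at_prod_finset P (fun _ => Finset.univ.map ⟨ι, ι.injective⟩) ?_ ?_
    · intro i
      rw [Finset.card_map, Finset.card_univ, ← Nat.card_eq_fintype_card, MvPolynomial.degreeOf_lt_iff Nat.card_pos]
      intro mm hmm
      by_contra hcon
      have h1 : P.coeff mm = 0 := by
        rw [hP, MvPolynomial.coeff_sum]
        refine Finset.sum_eq_zero fun α _ => ?_
        rw [MvPolynomial.coeff_monomial, if_neg]
        rintro rfl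
        exact hcon (hlt α i)
      exact (MvPolynomial.mem_support_iff.1 hmm) h1
    · intro y hy
      have h1 : ∀ i, ∃ z : E, ι z = y i := by
        intro i
        obtain ⟨z, -, hz⟩ := Finset.mem_map.1 (hy i)
        exact ⟨z, hz⟩
      choose z hz using h1
      have h2 : MvPolynomial.eval y P = ∑ α, x α * ∏ j, ι (z j) ^ e α j := by
        rw [hP, map_sum]
        refine Finset.sum_congr rfl fun α _ => ?_
        rw [MvPolynomial.eval_monomial, Finsupp.prod_fintype _ _ (fun i => pow_zero _)]
        congr 1
        refine Finset.prod_congr rfl fun j _ => ?_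
        rw [hz]; rfl
      rw [h2]
      by_cases hz0 : z = 0
      · refine Finset.sum_eq_zero fun α _ => ?_
        obtain ⟨j, hj⟩ := hpos α
        rw [Finset.prod_eq_zero (Finset.mem_univ j), mul_zero]
        rw [hz0, Pi.zero_apply, map_zero, zero_pow hj]
      · exact h z hz0
  funext α
  rw [← hcoef α, hP0]
  simp

theorem pow_indep {E k : Type*} [Field E] [Finite E] [Field k] (ι : E →+* k) {M : Type*} [Fintype M]
    (e : M → ℕ) (he : Function.Injective e) (hlt : ∀ α, e α < Nat.card E)
    (x : M → k) (h : ∀ y : E, ∑ α, x α * ι y ^ e α = 0) : x = 0 := by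
  classical
  have := Fintype.ofFinite E
  set P : Polynomial k := ∑ α, Polynomial.monomial (e α) (x α) with hP
  have hcoef : ∀ α, P.coeff (e α) = x α := by
    intro α
    rw [hP, Polynomial.finsetSum_coeff, Finset.sum_eq_single α]
    · rw [Polynomial.coeff_monomial, if_pos rfl]
    · intro β _ hβ
      rw [Polynomial.coeff_monomial, if_neg]
      intro h1
      exact hβ (he h1)
    · intro h1; exact absurd (Finset.mem_univ _) h1
  have hP0 : P = 0 := by
    refine Polynomial.eq_zero_of_natDegree_lt_card_of_eval_eq_zero P (f := ι) ι.injective ?_ ?_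
    · intro y
      rw [hP, Polynomial.eval_finsetSum, ← h y]
      exact Finset.sum_congr rfl fun α _ => by rw [Polynomial.eval_monomial]
    · rw [← Nat.card_eq_fintype_card]
      by_contra hcon
      push Not at hcon
      have h1 : P.coeff P.natDegree = 0 := by
        rw [hP, Polynomial.finsetSum_coeff]
        refine Finset.sum_eq_zero fun α _ => ?_
        rw [Polynomial.coeff_monomial, if_neg]
        intro h1
        rw [← hP] at h1
        have := hlt α
        omega
      have h2 : P = 0 := Polynomial.leadingCoeff_eq_zero.1 h1
      have h3 : P.natDegree = 0 := by rw [h2, Polynomial.natDegree_zero]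
      have h4 := Nat.card_pos (α := E)
      exact absurd (hcon.trans h3.le) (by omega)
  funext α
  rw [← hcoef α, hP0]
  simp

end Cfsg.Agent.H887.DS
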