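import Cfsg.Agent.H887.DS.Lin
import Cfsg.Agent.H887.DS.Mono

/-!
# Functions on the flags of `E³` (helper887)

* `exists_flag` : `x, z ≠ 0`, `x · z = 0`: there is `h ∈ SL₃(E)` with first row `x`, last column of `h⁻¹` equal to `z`;
* `flag_indep` : the `x_s ^ P z_t ^ Q`, `P ≠ Q` powers of `p`, are linearly independent functions on the flags;
* `flag_rel` : the relations between the `x_s ^ P (z_j z_k) ^ Q`, `p` odd.
-/

set_option autoImplicit false

namespace Cfsg.Agent.H887.DS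

open Matrix

section flags

variable {E : Type*} [Field E]

theorem exists_cross {x z : Fin 3 → E} (hx : x ≠ 0) (h : x 0 * z 0 + x 1 * z 1 + x 2 * z 2 = 0) :
    ∃ w : Fin 3 → E, x 1 * w 2 - x 2 * w 1 = z 0 ∧ x 2 * w 0 - x 0 * w 2 = z 1 ∧ x 0 * w 1 - x 1 * w 0 = z 2 := by
  by_cases h0 : x 0 = 0
  · by_cases h1 : x 1 = 0
    · have h2 : x 2 ≠ 0 := by
        intro h2
        apply hx
        funext i
        fin_cases i
        · exact h0
        · exact h1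
        · exact h2
      refine ⟨![z 1 / x 2, -(z 0 / x 2), 0], ?_, ?_, ?_⟩
      · simp [h1]; field_simp
      · simp [h0]; field_simp
      · simp only [h0, h1, zero_mul, zero_add] at h
        have := (mul_eq_zero.1 h).resolve_left h2
        simp [h0, h1, this]
    · refine ⟨![-(z 2 / x 1), 0, z 0 / x 1], ?_, ?_, ?_⟩
      · simp; field_simp
      · have e : x 2 * z 2 = - (x 1 * z 1) - x 0 * z 0 := by linear_combination h
        simp [h0]
        field_simp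
        linear_combination (-1 : E) * e + z 0 * h0
      · simp; field_simp
  · refine ⟨![0, z 2 / x 0, -(z 1 / x 0)], ?_, ?_, ?_⟩
    · simp
      field_simp
      linear_combination (-1 : E) * h
    · simp; field_simp
    · simp; field_simp

theorem exists_flag {x z : Fin 3 → E} (hx : x ≠ 0) (hz : z ≠ 0) (h : x 0 * z 0 + x 1 * z 1 + x 2 * z 2 = 0) :
    ∃ g : SpecialLinearGroup (Fin 3) E, (∀ j, g.1 0 j = x j) ∧ ∀ j, (g⁻¹).1 j 2 = z j := by
  obtain ⟨w, h0, h1, h2⟩ := exists_cross hx h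
  obtain ⟨r, hr⟩ : ∃ r : Fin 3 → E, r 0 * z 0 + r 1 * z 1 + r 2 * z 2 = 1 := by
    obtain ⟨j, hj⟩ := Function.ne_iff.1 hz
    rw [Pi.zero_apply] at hj
    fin_cases j
    · exact ⟨![(z 0)⁻¹, 0, 0], by
        have hj' : z 0 ≠ 0 := hj
        simp [hj']⟩
    · exact ⟨![0, (z 1)⁻¹, 0], by
        have hj' : z 1 ≠ 0 := hj
        simp [hj']⟩
    · exact ⟨![0, 0, (z 2)⁻¹], by
        have hj' : z 2 ≠ 0 := hj
        simp [hj']⟩
  have hdet : (!![x 0, x 1, x 2; w 0, w 1, w 2; r 0, r 1, r 2] : Matrix (Fin 3) (Fin 3) E).det = 1 := by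
    rw [Matrix.det_fin_three]
    simp
    linear_combination hr + r 0 * h0 + r 1 * h1 + r 2 * h2
  refine ⟨⟨_, hdet⟩, ?_, ?_⟩
  · intro j
    fin_cases j <;> rfl
  · intro j
    change (adjugate (!![x 0, x 1, x 2; w 0, w 1, w 2; r 0, r 1, r 2] : Matrix (Fin 3) (Fin 3) E)) j 2 = z j
    rw [Matrix.adjugate_fin_three]
    fin_cases j
    · simp; linear_combination h0
    · simp; linear_combination h1
    · simp; linear_combination h2

/-- the transposed version -/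
theorem exists_flag' {x z : Fin 3 → E} (hx : x ≠ 0) (hz : z ≠ 0) (h : x 0 * z 0 + x 1 * z 1 + x 2 * z 2 = 0) :
    ∃ g : SpecialLinearGroup (Fin 3) E, (∀ j, g.1 j 0 = x j) ∧ ∀ j, (g⁻¹).1 2 j = z j := by
  obtain ⟨g, h1, h2⟩ := exists_flag hx hz h
  refine ⟨g.transpose, fun j => h1 j, fun j => ?_⟩
  change (adjugate (g.1ᵀ)) 2 j = z j
  rw [← Matrix.adjugate_transpose, Matrix.transpose_apply]
  exact h2 j

end flags

section indep

variable {E k : Type*} [Field E] [Finite E] [Field k] (ι : E →+* k) {p : ℕ} [hp : Fact p.Prime] [CharP k p] {i j : ℕ}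

theorem exists_ne {P Q : ℕ} (h : P ≠ Q) (hP : P < Nat.card E) (hQ : Q < Nat.card E) :
    ∃ u : E, ι u ^ P ≠ ι u ^ Q := by
  by_contra hcon
  push Not at hcon
  have h1 := pow_indep ι (M := Fin 2) ![P, Q] (by
    intro a b hab
    fin_cases a <;> fin_cases b <;> simp_all) (by
    intro a
    fin_cases a <;> simpa) ![1, -1] (by
    intro y
    rw [Fin.sum_univ_two]
    simp [hcon y])
  have h2 := congrFun h1 0
  simp at h2

/-- **`P ≠ Q`** -/
theorem flag_indep (hij : p ^ i ≠ p ^ j) (hP : p ^ i < Nat.card E) (hQ : p ^ j < Nat.card E)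
    (c : Fin 3 × Fin 3 → k)
    (h : ∀ x z : Fin 3 → E, x ≠ 0 → z ≠ 0 → x 0 * z 0 + x 1 * z 1 + x 2 * z 2 = 0 →
      ∑ s, c s * (ι (x s.1) ^ p ^ i * ι (z s.2) ^ p ^ j) = 0) : c = 0 := by
  have hi0 : p ^ i ≠ 0 := (pow_pos hp.out.pos i).ne'
  have hj0 : p ^ j ≠ 0 := (pow_pos hp.out.pos j).ne'
  have hm1 : (-1 : k) ^ p ^ i = -1 := neg_one_pow_char_pow k p _
  have v0 : ∀ a b d : E, a ≠ 0 ∨ b ≠ 0 ∨ d ≠ 0 → (![a, b, d] : Fin 3 → E) ≠ 0 := by
    intro a b d h e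
    have e0 : a = 0 := congrFun e 0
    have e1 : b = 0 := congrFun e 1
    have e2 : d = 0 := congrFun e 2
    rcases h with h | h | h <;> contradiction
  simp only [Fintype.sum_prod_type, Fin.sum_univ_three] at h
  have H : ∀ a b d a' b' d' : E, (a ≠ 0 ∨ b ≠ 0 ∨ d ≠ 0) → (a' ≠ 0 ∨ b' ≠ 0 ∨ d' ≠ 0) → a * a' + b * b' + d * d' = 0 →
      c (0, 0) * (ι a ^ p ^ i * ι a' ^ p ^ j) + c (0, 1) * (ι a ^ p ^ i * ι b' ^ p ^ j) +
                  c (0, 2) * (ι a ^ p ^ i * ι d' ^ p ^ j) +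
                (c (1, 0) * (ι b ^ p ^ i * ι a' ^ p ^ j) + c (1, 1) * (ι b ^ p ^ i * ι b' ^ p ^ j) +
                  c (1, 2) * (ι b ^ p ^ i * ι d' ^ p ^ j)) +
              (c (2, 0) * (ι d ^ p ^ i * ι a' ^ p ^ j) + c (2, 1) * (ι d ^ p ^ i * ι b' ^ p ^ j) +
                c (2, 2) * (ι d ^ p ^ i * ι d' ^ p ^ j)) = 0 :=
    fun a b d a' b' d' h1 h2 h3 => h ![a, b, d] ![a', b', d'] (v0 _ _ _ h1) (v0 _ _ _ h2) h3
  have c01 := H 1 0 0 0 1 0 (by simp) (by simp) (by ring)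
  have c02 := H 1 0 0 0 0 1 (by simp) (by simp) (by ring)
  have c10 := H 0 1 0 1 0 0 (by simp) (by simp) (by ring)
  have c12 := H 0 1 0 0 0 1 (by simp) (by simp) (by ring)
  have c20 := H 0 0 1 1 0 0 (by simp) (by simp) (by ring)
  have c21 := H 0 0 1 0 1 0 (by simp) (by simp) (by ring)
  have d01 := H 1 (-1) 0 1 1 0 (by simp) (by simp) (by ring)
  have d12 := H 0 1 (-1) 0 1 1 (by simp) (by simp) (by ring)
  obtain ⟨u, hu⟩ := exists_ne ι hij hP hQ
  have du := H u (-1) 0 1 u 0 (by simp) (by simp) (by ring)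
  simp only [map_zero, map_one, map_neg, zero_pow hi0, zero_pow hj0, one_pow,
    hm1, mul_zero, zero_mul, mul_one, add_zero, zero_add] at c01 c02 c10 c12 c20 c21 d01 d12 du
  rw [c01, c10] at d01 du
  rw [c12, c21] at d12
  have e1 : c (0, 0) = c (1, 1) := by linear_combination d01
  have e2 : c (1, 1) = c (2, 2) := by linear_combination d12
  have e3 : c (0, 0) * (ι u ^ p ^ i - ι u ^ p ^ j) = 0 := by
    rw [← e1] at du
    linear_combination du
  have e4 : c (0, 0) = 0 := (mul_eq_zero.1 e3).resolve_right (sub_ne_zero.2 hu)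
  funext s
  rcases s with ⟨s, t⟩
  fin_cases s <;> fin_cases t <;> simp only [Pi.zero_apply] <;>
    first
    | exact e4
    | exact c01
    | exact c02
    | exact c10
    | exact c12
    | exact c20
    | exact c21
    | exact e1.symm.trans e4
    | exact e2.symm.trans (e1.symm.trans e4)

/-- the pairs -/
def tA : Fin 6 → Fin 3 := ![0, 1, 2, 0, 0, 1]

/-- the pairs -/
def tB : Fin 6 → Fin 3 := ![0, 1, 2, 1, 2, 2]

/-- **relations** -/
theorem flag_rel (hp2 : p ≠ 2) (c : Fin 3 × Fin 6 → k)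
    (h : ∀ x z : Fin 3 → E, x ≠ 0 → z ≠ 0 → x 0 * z 0 + x 1 * z 1 + x 2 * z 2 = 0 →
      ∑ s, c s * (ι (x s.1) ^ p ^ i * (ι (z (tA s.2)) * ι (z (tB s.2))) ^ p ^ j) = 0) :
    (∀ s, c s = ![![c (0, 0), 0, 0, c (1, 1), c (2, 2), 0], ![0, c (1, 1), 0, c (0, 0), 0, c (2, 2)],
      ![0, 0, c (2, 2), 0, c (0, 0), c (1, 1)]] s.1 s.2) ∧
      (p ^ i ≠ p ^ j → p ^ i < Nat.card E → p ^ j < Nat.card E → c = 0) := by
  have hi0 : p ^ i ≠ 0 := (pow_pos hp.out.pos i).ne'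
  have hj0 : p ^ j ≠ 0 := (pow_pos hp.out.pos j).ne'
  have hm1 : (-1 : k) ^ p ^ i = -1 := neg_one_pow_char_pow k p _
  have hm2 : (-1 : k) ^ p ^ j = -1 := neg_one_pow_char_pow k p _
  have h20 : (2 : k) ≠ 0 := by
    intro h0
    have h1 : ((2 : ℕ) : k) = 0 := by exact_mod_cast h0
    rw [CharP.cast_eq_zero_iff k p] at h1
    exact hp2 ((Nat.prime_dvd_prime_iff_eq hp.out Nat.prime_two).1 h1)
  have v0 : ∀ a b d : E, a ≠ 0 ∨ b ≠ 0 ∨ d ≠ 0 → (![a, b, d] : Fin 3 → E) ≠ 0 := by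
    intro a b d h e
    have e0 : a = 0 := congrFun e 0
    have e1 : b = 0 := congrFun e 1
    have e2 : d = 0 := congrFun e 2
    rcases h with h | h | h <;> contradiction
  have H : ∀ a b d a' b' d' : E, (a ≠ 0 ∨ b ≠ 0 ∨ d ≠ 0) → (a' ≠ 0 ∨ b' ≠ 0 ∨ d' ≠ 0) → a * a' + b * b' + d * d' = 0 →
      ι a ^ p ^ i * (c (0, 0) * (ι a' * ι a') ^ p ^ j + c (0, 1) * (ι b' * ι b') ^ p ^ j + c (0, 2) * (ι d' * ι d') ^ p ^ j +
        c (0, 3) * (ι a' * ι b') ^ p ^ j + c (0, 4) * (ι a' * ι d') ^ p ^ j + c (0, 5) * (ι b' * ι d') ^ p ^ j) +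
      ι b ^ p ^ i * (c (1, 0) * (ι a' * ι a') ^ p ^ j + c (1, 1) * (ι b' * ι b') ^ p ^ j + c (1, 2) * (ι d' * ι d') ^ p ^ j +
        c (1, 3) * (ι a' * ι b') ^ p ^ j + c (1, 4) * (ι a' * ι d') ^ p ^ j + c (1, 5) * (ι b' * ι d') ^ p ^ j) +
      ι d ^ p ^ i * (c (2, 0) * (ι a' * ι a') ^ p ^ j + c (2, 1) * (ι b' * ι b') ^ p ^ j + c (2, 2) * (ι d' * ι d') ^ p ^ j +
        c (2, 3) * (ι a' * ι b') ^ p ^ j + c (2, 4) * (ι a' * ι d') ^ p ^ j + c (2, 5) * (ι b' * ι d') ^ p ^ j) = 0 := by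
    intro a b d a' b' d' h1 h2 h3
    have h4 := h ![a, b, d] ![a', b', d'] (v0 _ _ _ h1) (v0 _ _ _ h2) h3
    rw [Fintype.sum_prod_type, Fin.sum_univ_three, Fin.sum_univ_six, Fin.sum_univ_six, Fin.sum_univ_six] at h4
    refine Eq.trans ?_ h4
    change _ = c (0, 0) * (ι a ^ p ^ i * (ι a' * ι a') ^ p ^ j) + c (0, 1) * (ι a ^ p ^ i * (ι b' * ι b') ^ p ^ j) +
      c (0, 2) * (ι a ^ p ^ i * (ι d' * ι d') ^ p ^ j) + c (0, 3) * (ι a ^ p ^ i * (ι a' * ι b') ^ p ^ j) +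
      c (0, 4) * (ι a ^ p ^ i * (ι a' * ι d') ^ p ^ j) + c (0, 5) * (ι a ^ p ^ i * (ι b' * ι d') ^ p ^ j) +
      (c (1, 0) * (ι b ^ p ^ i * (ι a' * ι a') ^ p ^ j) + c (1, 1) * (ι b ^ p ^ i * (ι b' * ι b') ^ p ^ j) +
      c (1, 2) * (ι b ^ p ^ i * (ι d' * ι d') ^ p ^ j) + c (1, 3) * (ι b ^ p ^ i * (ι a' * ι b') ^ p ^ j) +
      c (1, 4) * (ι b ^ p ^ i * (ι a' * ι d') ^ p ^ j) + c (1, 5) * (ι b ^ p ^ i * (ι b' * ι d') ^ p ^ j)) +
      (c (2, 0) * (ι d ^ p ^ i * (ι a' * ι a') ^ p ^ j) + c (2, 1) * (ι d ^ p ^ i * (ι b' * ι b') ^ p ^ j) +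
      c (2, 2) * (ι d ^ p ^ i * (ι d' * ι d') ^ p ^ j) + c (2, 3) * (ι d ^ p ^ i * (ι a' * ι b') ^ p ^ j) +
      c (2, 4) * (ι d ^ p ^ i * (ι a' * ι d') ^ p ^ j) + c (2, 5) * (ι d ^ p ^ i * (ι b' * ι d') ^ p ^ j))
    ring
  have c01 := H 1 0 0 0 1 0 (by simp) (by simp) (by ring)
  have c02 := H 1 0 0 0 0 1 (by simp) (by simp) (by ring)
  have c05 := H 1 0 0 0 1 1 (by simp) (by simp) (by ring)
  have c10 := H 0 1 0 1 0 0 (by simp) (by simp) (by ring)
  have c12 := H 0 1 0 0 0 1 (by simp) (by simp) (by ring)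
  have c14 := H 0 1 0 1 0 1 (by simp) (by simp) (by ring)
  have c20 := H 0 0 1 1 0 0 (by simp) (by simp) (by ring)
  have c21 := H 0 0 1 0 1 0 (by simp) (by simp) (by ring)
  have c23 := H 0 0 1 1 1 0 (by simp) (by simp) (by ring)
  have d01 : ∀ u : E, _ := fun u => H u (-1) 0 1 u 0 (by simp) (by simp) (by ring)
  have d02 : ∀ u : E, _ := fun u => H u 0 (-1) 1 0 u (by simp) (by simp) (by ring)
  have d12 : ∀ u : E, _ := fun u => H 0 u (-1) 0 1 u (by simp) (by simp) (by ring)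
  simp only [map_zero, map_one, map_neg, zero_pow hi0, zero_pow hj0, one_pow,
    hm1, mul_zero, zero_mul, mul_one, one_mul, add_zero, zero_add] at c01 c02 c05 c10 c12 c14 c20 c21 c23 d01 d02 d12
  rw [c01, c02, zero_add, zero_add] at c05
  rw [c10, c12, zero_add, zero_add] at c14
  rw [c20, c21, zero_add, zero_add] at c23
  have a1 := d01 1
  have a2 := d01 (-1)
  have b1 := d02 1
  have b2 := d02 (-1)
  have g1 := d12 1
  have g2 := d12 (-1)
  simp only [map_one, map_neg, one_pow, mul_one, hm1, hm2, neg_mul_neg, c01, c02, c10, c12, c20, c21, one_mul,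
    zero_add, add_zero] at a1 a2 b1 b2 g1 g2
  have e03 : c (0, 3) = c (1, 1) := by
    have : (2 : k) * (c (0, 3) - c (1, 1)) = 0 := by linear_combination a1 + a2
    exact sub_eq_zero.1 ((mul_eq_zero.1 this).resolve_left h20)
  have e13 : c (1, 3) = c (0, 0) := by
    have : (2 : k) * (c (0, 0) - c (1, 3)) = 0 := by linear_combination a1 - a2
    exact (sub_eq_zero.1 ((mul_eq_zero.1 this).resolve_left h20)).symm
  have e04 : c (0, 4) = c (2, 2) := by
    have : (2 : k) * (c (0, 4) - c (2, 2)) = 0 := by linear_combination b1 + b2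
    exact sub_eq_zero.1 ((mul_eq_zero.1 this).resolve_left h20)
  have e24 : c (2, 4) = c (0, 0) := by
    have : (2 : k) * (c (0, 0) - c (2, 4)) = 0 := by linear_combination b1 - b2
    exact (sub_eq_zero.1 ((mul_eq_zero.1 this).resolve_left h20)).symm
  have e15 : c (1, 5) = c (2, 2) := by
    have : (2 : k) * (c (1, 5) - c (2, 2)) = 0 := by linear_combination g1 + g2
    exact sub_eq_zero.1 ((mul_eq_zero.1 this).resolve_left h20)
  have e25 : c (2, 5) = c (1, 1) := by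
    have : (2 : k) * (c (1, 1) - c (2, 5)) = 0 := by linear_combination g1 - g2
    exact (sub_eq_zero.1 ((mul_eq_zero.1 this).resolve_left h20)).symm
  have hall : ∀ s, c s = ![![c (0, 0), 0, 0, c (1, 1), c (2, 2), 0], ![0, c (1, 1), 0, c (0, 0), 0, c (2, 2)],
      ![0, 0, c (2, 2), 0, c (0, 0), c (1, 1)]] s.1 s.2 := by
    rintro ⟨s, t⟩
    fin_cases s <;> fin_cases t <;>
      first
      | rfl
      | exact c01
      | exact c02
      | exact c05
      | exact c10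
      | exact c12
      | exact c14
      | exact c20
      | exact c21
      | exact c23
      | exact e03
      | exact e13
      | exact e04
      | exact e24
      | exact e15
      | exact e25
  refine ⟨hall, fun hij hP hQ => ?_⟩
  obtain ⟨u, hu⟩ := exists_ne ι hij hP hQ
  have hu0 : ι u ≠ 0 := by
    intro h0
    rw [h0, zero_pow hi0, zero_pow hj0] at hu
    exact hu rfl
  have a1 := d01 u
  have a2 := d01 (-u)
  have b1 := d02 u
  have b2 := d02 (-u)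
  have hn1 : (-ι u) ^ p ^ i = -(ι u ^ p ^ i) := by rw [neg_pow, hm1]; ring
  have hn2 : (-ι u) ^ p ^ j = -(ι u ^ p ^ j) := by rw [neg_pow, hm2]; ring
  simp only [map_neg, neg_mul_neg, mul_pow, hn1, hn2, e03, e13, e04, e24, c01, c02, c10, c20, zero_mul, zero_add,
    add_zero] at a1 a2 b1 b2
  have k1 : (ι u ^ p ^ i - ι u ^ p ^ j) * (c (0, 0) + c (1, 1) * ι u ^ p ^ j) = 0 := by linear_combination a1
  have k2 : (ι u ^ p ^ i - ι u ^ p ^ j) * (c (0, 0) - c (1, 1) * ι u ^ p ^ j) = 0 := by linear_combination -a2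
  have k3 : (ι u ^ p ^ i - ι u ^ p ^ j) * (c (0, 0) + c (2, 2) * ι u ^ p ^ j) = 0 := by linear_combination b1
  have k1' := (mul_eq_zero.1 k1).resolve_left (sub_ne_zero.2 hu)
  have k2' := (mul_eq_zero.1 k2).resolve_left (sub_ne_zero.2 hu)
  have k3' := (mul_eq_zero.1 k3).resolve_left (sub_ne_zero.2 hu)
  have l0 : c (0, 0) = 0 := by
    have : (2 : k) * c (0, 0) = 0 := by linear_combination k1' + k2'
    exact (mul_eq_zero.1 this).resolve_left h20
  rw [l0, zero_add] at k1' k3'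
  have l1 : c (1, 1) = 0 := (mul_eq_zero.1 k1').resolve_right (pow_ne_zero _ hu0)
  have l2 : c (2, 2) = 0 := (mul_eq_zero.1 k3').resolve_right (pow_ne_zero _ hu0)
  funext s
  rw [hall s, l0, l1, l2]
  rcases s with ⟨s, t⟩
  fin_cases s <;> fin_cases t <;> rfl

end indep

end Cfsg.Agent.H887.DS
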