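import Cfsg.Agent.H887.DS.Three

/-!
# Simple modules of `SL(4, E)`, `SL(5, E)` in their own characteristic, small dimension (helper887)

* `sl4` : `dim V < 12`: only one node outside `J`, `dim V = 4, 10` (an end) or `dim V = 6` (the middle);
* `sl5` : `dim V < 15`: only one node outside `J`, `dim V = 5` (an end) or `dim V = 10` (not an end).
-/

set_option autoImplicit false
set_option linter.unusedSectionVars false
set_option linter.style.haveILetI false

namespace Cfsg.Agent.H887.DS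

open Matrix CoxeterSystem Cfsg.Agent.ChevalleyStructure.CoxeterGeom Cfsg.Agent.Tits.Roots Cfsg.Agent.Tits.Core
  Cfsg.Agent.Tits.Exchange Cfsg.Agent.Nodes.Reps Cfsg.Agent.Nodes.BNOf Cfsg.Agent.Nodes.StabComb
  Cfsg.Agent.Nodes.Bruhat Cfsg.Agent.Nodes.OppDec Cfsg.Agent.Nodes.LeviDec Cfsg.Agent.KFacts.RgdOpp
  Cfsg.Agent.Omega.CR Cfsg.Agent.Omega.FOne.Lift.Sd Cfsg.Agent.Nodes.RootsA Cfsg.Agent.Nodes.RGDTypeA
open Cfsg.Agent.LieRecognition.BNCox (cA cA_apply)
open Cfsg.Agent.H905.Md Module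

/-- the numbers -/
theorem choose_cases {m r n : ℕ} (hr : 1 ≤ r) (h : n = (m + r - 1).choose r) :
    (m = 3 → n < 15 → (r = 1 ∧ n = 3) ∨ (r = 2 ∧ n = 6) ∨ (r = 3 ∧ n = 10)) ∧
    (m = 4 → n < 20 → (r = 1 ∧ n = 4) ∨ (r = 2 ∧ n = 10)) ∧ (m = 5 → n < 35 → (r = 1 ∧ n = 5) ∨ (r = 2 ∧ n = 15)) := by
  refine ⟨?_, ?_, ?_⟩
  · rintro rfl hn
    rw [show 3 + r - 1 = r + 2 by omega, Nat.choose_symm_add] at h
    have h1 : r < 4 := by
      by_contra hcon
      push Not at hcon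
      have : (4 + 2).choose 2 ≤ (r + 2).choose 2 := Nat.choose_le_choose 2 (by omega)
      have e : (4 + 2).choose 2 = 15 := rfl
      omega
    interval_cases r
    · exact Or.inl ⟨rfl, h⟩
    · exact Or.inr (Or.inl ⟨rfl, h⟩)
    · exact Or.inr (Or.inr ⟨rfl, h⟩)
  · rintro rfl hn
    rw [show 4 + r - 1 = r + 3 by omega, Nat.choose_symm_add] at h
    have h1 : r < 3 := by
      by_contra hcon
      push Not at hcon
      have : (3 + 3).choose 3 ≤ (r + 3).choose 3 := Nat.choose_le_choose 3 (by omega)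
      have e : (3 + 3).choose 3 = 20 := rfl
      omega
    interval_cases r
    · exact Or.inl ⟨rfl, h⟩
    · exact Or.inr ⟨rfl, h⟩
  · rintro rfl hn
    rw [show 5 + r - 1 = r + 4 by omega, Nat.choose_symm_add] at h
    have h1 : r < 3 := by
      by_contra hcon
      push Not at hcon
      have : (3 + 4).choose 4 ≤ (r + 4).choose 4 := Nat.choose_le_choose 4 (by omega)
      have e : (3 + 4).choose 4 = 35 := rfl
      omega
    interval_cases r
    · exact Or.inl ⟨rfl, h⟩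
    · exact Or.inr ⟨rfl, h⟩

section

variable {E : Type*} [Field E] [Finite E] {W : Type*} [Group W] [Finite W] {cs : CoxeterSystem (cA 3) W}
  {A : Fin 3 → Fin 3 → ℤ} {h : IsCartan (cA 3) A} (p : ℕ) [hp : Fact p.Prime] [hEp : CharP E p]
  {k V : Type*} [Field k] [IsAlgClosed k] [CharP k p] [AddCommGroup V] [Module k V] [FiniteDimensional k V] [Nontrivial V]
  {ρ : SpecialLinearGroup (Fin (3 + 1)) E →* Module.End k V}
  (hirr : ∀ L : Submodule k V, Ivt ρ (GG cs h (T (Fin (3 + 1)) E) (X E)) L → L = ⊥ ∨ L = ⊤)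
  (ι : E →+* k)
include hirr

include p in
/-- **The classification for `SL(4, E)`.** -/
theorem sl4 (h2 : 2 ≤ finrank k V) (hn : finrank k V < 12) :
    (finrank k V = 6 ∧ ∀ i : Fin 3, i ∉ Jx cs h (X E) ρ ↔ i = 1) ∨
    ∃ v ∈ D cs h (X E) ρ, v ≠ 0 ∧ ∃ φ : Module.Dual k V, φ ≠ 0 ∧ ∃ a b : ℕ, a < Nat.card E ∧ b < Nat.card E ∧
      (∀ g, φ (ρ g v) = xi ι a b g) ∧ ∃ i, (finrank k V = 4 ∧ (a = p ^ i ∧ b = 0 ∨ a = 0 ∧ b = p ^ i)) ∨
      (2 < p ∧ finrank k V = 10 ∧ (a = 2 * p ^ i ∧ b = 0 ∨ a = 0 ∧ b = 2 * p ^ i)) := by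
  have R := rgd cs h (F := E) (p := p)
  have hD := finrank_D R hirr slT_comm
  -- two nodes
  have two : ∀ i j : Fin 3, i.val < j.val → i ∉ Jx cs h (X E) ρ → j ∉ Jx cs h (X E) ρ → False := by
    intro i j hij hi hj
    have h1 := dim_ge_two R hirr hij hi hj
    rw [hD] at h1
    have h3 : 12 ≤ Fintype.card (Flg 3 i.val j.val) := by
      fin_cases i <;> fin_cases j <;> first
        | exact card_flg_3_01.ge
        | exact card_flg_3_02.ge
        | exact card_flg_3_12.ge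
        | exact absurd hij (by decide)
    omega
  have one : ∀ i j : Fin 3, i ∉ Jx cs h (X E) ρ → j ∉ Jx cs h (X E) ρ → j = i := by
    intro i j hi hj
    by_contra hne
    rcases lt_or_gt_of_ne (Fin.val_ne_of_ne hne) with h1 | h1
    · exact two _ _ h1 hj hi
    · exact two _ _ h1 hi hj
  obtain ⟨i, hi⟩ := exists_not_mem R hirr (by rw [hD]; omega)
  have c42 : Nat.choose (3 + 1) 2 = 6 := rfl
  by_cases h0 : i.val = 0
  · right
    obtain ⟨v, hv, hv0, φ, hφ0, a, ha, hf, hc⟩ := only_zero p hirr ι (by norm_num) (i₀ := i) h0 hi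
      (fun j hj => one i j hi hj) (by rw [c42]; omega)
    refine ⟨v, hv, hv0, φ, hφ0, a, 0, ha, Nat.card_pos, hf, ?_⟩
    rcases hc with ⟨r, e, hr, hrp, ha', hn'⟩ | ⟨e, e', -, -, hn'⟩
    · rcases (choose_cases hr hn').2.1 rfl (by omega) with ⟨rfl, h4⟩ | ⟨rfl, h4⟩
      · exact ⟨e, Or.inl ⟨h4, Or.inl ⟨by rw [ha', one_mul], rfl⟩⟩⟩
      · exact ⟨e, Or.inr ⟨hrp, h4, Or.inl ⟨ha', rfl⟩⟩⟩
    · omega
  · by_cases h0' : i.val + 1 = 3
    · right
      obtain ⟨v, hv, hv0, φ, hφ0, a, ha, hf, hc⟩ := only_last p hirr ι (by norm_num) (i₀ := i) h0' hi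
        (fun j hj => one i j hi hj) (by rw [c42]; omega)
      refine ⟨v, hv, hv0, φ, hφ0, 0, a, Nat.card_pos, ha, hf, ?_⟩
      rcases hc with ⟨r, e, hr, hrp, ha', hn'⟩ | ⟨e, e', -, -, hn'⟩
      · rcases (choose_cases hr hn').2.1 rfl (by omega) with ⟨rfl, h4⟩ | ⟨rfl, h4⟩
        · exact ⟨e, Or.inl ⟨h4, Or.inr ⟨rfl, by rw [ha', one_mul]⟩⟩⟩
        · exact ⟨e, Or.inr ⟨hrp, h4, Or.inr ⟨rfl, ha'⟩⟩⟩
      · omega
    · left
      have hi1 : i = 1 := Fin.ext (by
        have := i.2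
        change i.val = 1
        omega)
      subst hi1
      refine ⟨?_, fun j => ⟨fun hj => one _ _ hi hj, fun hj => hj ▸ hi⟩⟩
      have h1 := dim_ge_A R hirr hi
      have h3 := finrank_Io R hirr (1 : Fin 3)
      rw [hD] at h1 h3
      have c42' : Nat.choose (3 + 1) ((1 : Fin 3).val + 1) = 6 := rfl
      rw [c42', c42] at h1
      have h4 := dim_le_A R hirr hi (fun j hj => one _ _ hi hj) (by rw [hD]; omega)
      rw [hD, c42'] at h4
      omega

end

section

variable {E : Type*} [Field E] [Finite E] {W : Type*} [Group W] [Finite W] {cs : CoxeterSystem (cA 4) W}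
  {A : Fin 4 → Fin 4 → ℤ} {h : IsCartan (cA 4) A} (p : ℕ) [hp : Fact p.Prime] [hEp : CharP E p]
  {k V : Type*} [Field k] [IsAlgClosed k] [CharP k p] [AddCommGroup V] [Module k V] [FiniteDimensional k V] [Nontrivial V]
  {ρ : SpecialLinearGroup (Fin (4 + 1)) E →* Module.End k V}
  (hirr : ∀ L : Submodule k V, Ivt ρ (GG cs h (T (Fin (4 + 1)) E) (X E)) L → L = ⊥ ∨ L = ⊤)
include hirr

include p in
/-- **The classification for `SL(5, E)`.** -/
theorem sl5 (ι : E →+* k) (h2 : 2 ≤ finrank k V) (hn : finrank k V < 15) :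
    (finrank k V = 10 ∧ ∃ i₀ : Fin 4, (i₀ = 1 ∨ i₀ = 2) ∧ ∀ i : Fin 4, i ∉ Jx cs h (X E) ρ ↔ i = i₀) ∨
    finrank k V = 5 := by
  have R := rgd cs h (F := E) (p := p)
  have hD := finrank_D R hirr slT_comm
  -- two nodes
  have two : ∀ i j : Fin 4, i.val < j.val → i ∉ Jx cs h (X E) ρ → j ∉ Jx cs h (X E) ρ → False := by
    intro i j hij hi hj
    have h1 := dim_ge_two R hirr hij hi hj
    rw [hD] at h1
    have h3 : 20 ≤ Fintype.card (Flg 4 i.val j.val) := by
      have hi' := i.2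
      have hj' := j.2
      generalize i.val = a at *
      generalize j.val = b at *
      have hc : (a = 0 ∧ b = 1) ∨ (a = 0 ∧ b = 2) ∨ (a = 0 ∧ b = 3) ∨ (a = 1 ∧ b = 2) ∨ (a = 1 ∧ b = 3) ∨
          (a = 2 ∧ b = 3) := by omega
      rcases hc with ⟨rfl, rfl⟩ | ⟨rfl, rfl⟩ | ⟨rfl, rfl⟩ | ⟨rfl, rfl⟩ | ⟨rfl, rfl⟩ | ⟨rfl, rfl⟩
      · rw [card_flg_4_01]
      · rw [card_flg_4_02]; norm_num
      · rw [card_flg_4_03]
      · rw [card_flg_4_12]; norm_num
      · rw [card_flg_4_13]; norm_num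
      · rw [card_flg_4_23]
    omega
  have one : ∀ i j : Fin 4, i ∉ Jx cs h (X E) ρ → j ∉ Jx cs h (X E) ρ → j = i := by
    intro i j hi hj
    by_contra hne
    rcases lt_or_gt_of_ne (Fin.val_ne_of_ne hne) with h1 | h1
    · exact two _ _ h1 hj hi
    · exact two _ _ h1 hi hj
  obtain ⟨i, hi⟩ := exists_not_mem R hirr (by rw [hD]; omega)
  have c52 : Nat.choose (4 + 1) 2 = 10 := rfl
  by_cases h0 : i.val = 0
  · right
    obtain ⟨v, hv, hv0, φ, hφ0, a, ha, hf, hc⟩ := only_zero p hirr ι (by norm_num) (i₀ := i) h0 hi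
      (fun j hj => one i j hi hj) (by rw [c52]; omega)
    rcases hc with ⟨r, e, hr, hrp, ha', hn'⟩ | ⟨e, e', -, -, hn'⟩
    · rcases (choose_cases hr hn').2.2 rfl (by omega) with ⟨rfl, h4⟩ | ⟨rfl, h4⟩
      · exact h4
      · omega
    · omega
  · by_cases h0' : i.val + 1 = 4
    · right
      obtain ⟨v, hv, hv0, φ, hφ0, a, ha, hf, hc⟩ := only_last p hirr ι (by norm_num) (i₀ := i) h0' hi
        (fun j hj => one i j hi hj) (by rw [c52]; omega)
      rcases hc with ⟨r, e, hr, hrp, ha', hn'⟩ | ⟨e, e', -, -, hn'⟩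
      · rcases (choose_cases hr hn').2.2 rfl (by omega) with ⟨rfl, h4⟩ | ⟨rfl, h4⟩
        · exact h4
        · omega
      · omega
    · left
      have c53 : Nat.choose (4 + 1) (i.val + 1) = 10 := by
        have := i.2
        have h5 : i.val = 1 ∨ i.val = 2 := by omega
        rcases h5 with h5 | h5 <;> rw [h5] <;> rfl
      refine ⟨?_, i, ?_, fun j => ⟨fun hj => one _ _ hi hj, fun hj => hj ▸ hi⟩⟩
      · have h1 := dim_ge_A R hirr hi
        have h3 := finrank_Io R hirr i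
        rw [hD] at h1 h3
        rw [c53, c52] at h1
        have h4 := dim_le_A R hirr hi (fun j hj => one _ _ hi hj) (by rw [hD]; omega)
        rw [hD, c53] at h4
        omega
      · have := i.2
        have h5 : i.val = 1 ∨ i.val = 2 := by omega
        rcases h5 with h5 | h5
        · exact Or.inl (Fin.ext h5)
        · exact Or.inr (Fin.ext h5)

end

end Cfsg.Agent.H887.DS
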