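import Mathlib

/-!
# Dimension of a simple module by a matrix coefficient (helper887)

`ρ` simple, `φ (ρ (h * g) v) = ∑ α, c α * F α h * G α g`:

* `finrank_le` : `dim V ≤ |M|`;
* `le_finrank` : `|M| ≤ dim V + rF + rG` if the relations between the `F α` (between the `G α`) are determined by `rF` (`rG`)
  coordinates.
-/

set_option autoImplicit false

namespace Cfsg.Agent.H887.DS

open Module

section

variable {G k V : Type*} [Group G] [Field k] [AddCommGroup V] [Module k V]

/-- the matrix coefficients -/
def Psi (ρ : G →* Module.End k V) (φ : Module.Dual k V) : V →ₗ[k] (G → k) where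
  toFun w g := φ (ρ g w)
  map_add' w w' := by funext g; simp
  map_smul' c w := by funext g; simp

theorem Psi_apply (ρ : G →* Module.End k V) (φ : Module.Dual k V) (w : V) (g : G) : Psi ρ φ w g = φ (ρ g w) := rfl

variable {ρ : G →* Module.End k V} (hirr : ∀ L : Submodule k V, (∀ g, ∀ w ∈ L, ρ g w ∈ L) → L = ⊥ ∨ L = ⊤)
include hirr

theorem Psi_injective {φ : Module.Dual k V} (hφ : φ ≠ 0) : Function.Injective (Psi ρ φ) := by
  rw [← LinearMap.ker_eq_bot]
  refine (hirr _ ?_).resolve_right ?_
  · intro g w hw
    rw [LinearMap.mem_ker] at hw ⊢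
    funext h
    have h1 := congrFun hw (h * g)
    rw [Psi_apply, map_mul] at h1
    exact h1
  · intro h1
    apply hφ
    ext w
    have h2 : w ∈ LinearMap.ker (Psi ρ φ) := by rw [h1]; trivial
    have h3 := congrFun (LinearMap.mem_ker.1 h2) 1
    rw [Psi_apply, map_one] at h3
    exact h3

theorem span_eq_top {v : V} (hv : v ≠ 0) : Submodule.span k (Set.range fun g => ρ g v) = ⊤ := by
  refine (hirr _ ?_).resolve_left ?_
  · intro g w hw
    induction hw using Submodule.span_induction with
    | mem x hx =>
      obtain ⟨h, rfl⟩ := hx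
      refine Submodule.subset_span ⟨g * h, ?_⟩
      simp
    | zero => rw [map_zero]; exact zero_mem _
    | add x y _ _ hx hy => rw [map_add]; exact add_mem hx hy
    | smul a x _ hx => rw [map_smul]; exact Submodule.smul_mem _ _ hx
  · intro h1
    apply hv
    have h2 : v ∈ Submodule.span k (Set.range fun g => ρ g v) := Submodule.subset_span ⟨1, by simp⟩
    rw [h1] at h2
    simpa using h2

variable {M : Type*} [Fintype M] {c : M → k} {F Gf : M → G → k} {φ : Module.Dual k V} {v : V}

omit hirr in
/-- the linear combination of functions -/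
theorem range_Psi_eq (hspan : Submodule.span k (Set.range fun g => ρ g v) = ⊤)
    (hf : ∀ h g, φ (ρ (h * g) v) = ∑ α, c α * F α h * Gf α g) :
    LinearMap.range (Psi ρ φ) =
      (Submodule.span k (Set.range fun g => (fun α => c α * Gf α g : M → k))).map
        (Fintype.linearCombination k F) := by
  rw [LinearMap.range_eq_map, ← hspan, Submodule.map_span, Submodule.map_span, ← Set.range_comp, ← Set.range_comp]
  congr 2
  funext g
  funext h
  rw [Function.comp_apply, Function.comp_apply, Psi_apply, Fintype.linearCombination_apply]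
  have h1 := hf h g
  rw [map_mul] at h1
  refine h1.trans ?_
  rw [Finset.sum_apply]
  refine Finset.sum_congr rfl fun α _ => ?_
  rw [Pi.smul_apply, smul_eq_mul]
  ring

theorem finrank_eq (hφ : φ ≠ 0) (hv : v ≠ 0) (hf : ∀ h g, φ (ρ (h * g) v) = ∑ α, c α * F α h * Gf α g) :
    finrank k V = finrank k ((Submodule.span k (Set.range fun g => (fun α => c α * Gf α g : M → k))).map
        (Fintype.linearCombination k F)) := by
  rw [← range_Psi_eq (span_eq_top hirr hv) hf]
  exact (LinearMap.finrank_range_of_inj (Psi_injective hirr hφ)).symm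

/-- **the upper bound** -/
theorem finrank_le (hφ : φ ≠ 0) (hv : v ≠ 0) (hf : ∀ h g, φ (ρ (h * g) v) = ∑ α, c α * F α h * Gf α g) :
    finrank k V ≤ Fintype.card M := by
  rw [finrank_eq hirr hφ hv hf]
  refine (Submodule.finrank_map_le _ _).trans ?_
  refine (Submodule.finrank_le _).trans ?_
  rw [Module.finrank_fintype_fun_eq_card]

omit hirr in
theorem finrank_le_of_coord (S : Submodule k (M → k)) (r : Finset M)
    (h : ∀ x ∈ S, (∀ α ∈ r, x α = 0) → x = 0) : finrank k S ≤ r.card := by
  let f : S →ₗ[k] (r → k) := (LinearMap.funLeft k k (Subtype.val : r → M)).comp S.subtype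
  have hf : Function.Injective f := by
    rw [← LinearMap.ker_eq_bot, LinearMap.ker_eq_bot']
    intro x hx
    apply Subtype.ext
    refine h x.1 x.2 fun α hα => ?_
    exact congrFun hx ⟨α, hα⟩
  have h1 := LinearMap.finrank_le_finrank_of_injective hf
  rwa [Module.finrank_fintype_fun_eq_card, Fintype.card_coe] at h1

omit [Group G] hirr in
/-- row rank and column rank -/
theorem card_le_span [Finite G] (B : G → M → k) (r : Finset M)
    (h : ∀ x : M → k, (∀ g, ∑ α, x α * B g α = 0) → (∀ α ∈ r, x α = 0) → x = 0) :
    Fintype.card M ≤ finrank k (Submodule.span k (Set.range B)) + r.card := by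
  classical
  have := Fintype.ofFinite G
  have h1 : finrank k (Submodule.span k (Set.range B)) = (Matrix.of B).rank := (Matrix.rank_eq_finrank_span_row _).symm
  have h2 := (Matrix.mulVecLin (Matrix.of B)).finrank_range_add_finrank_ker
  rw [Module.finrank_fintype_fun_eq_card] at h2
  have h3 : finrank k (LinearMap.ker (Matrix.mulVecLin (Matrix.of B))) ≤ r.card := by
    refine finrank_le_of_coord _ r fun x hx => h x fun g => ?_
    have h4 := congrFun (LinearMap.mem_ker.1 hx) g
    rw [Matrix.mulVecLin_apply, Matrix.mulVec, dotProduct] at h4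
    refine (Finset.sum_congr rfl fun α _ => ?_).trans h4
    exact mul_comm _ _
  rw [h1, Matrix.rank]
  omega

omit [Group G] hirr in
/-- **the lower bound**, functionals and vectors -/
theorem card_le_finrank {S T : Type*} [Finite T] [FiniteDimensional k V] {F : M → S → k} {Gf : M → T → k}
    (w : T → V) (ψ : S → Module.Dual k V)
    (hf : ∀ s t, ψ s (w t) = ∑ α, c α * F α s * Gf α t) (hc : ∀ α, c α ≠ 0) (rF rG : Finset M)
    (hF : ∀ x : M → k, (∀ s, ∑ α, x α * F α s = 0) →
      (∀ u : M → k, (∀ t, ∑ α, u α * (c α * Gf α t) = 0) → ∑ α, u α * x α = 0) → (∀ α ∈ rF, x α = 0) → x = 0)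
    (hG : ∀ x : M → k, (∀ t, ∑ α, x α * Gf α t = 0) → (∀ α ∈ rG, x α = 0) → x = 0) :
    Fintype.card M ≤ finrank k V + rF.card + rG.card := by
  classical
  have h1 := card_le_span (fun t => (fun α => c α * Gf α t : M → k)) rG (fun x hx hr => by
    have h2 := hG (fun α => x α * c α) (fun t => by
      rw [← hx t]
      exact Finset.sum_congr rfl fun α _ => by ring) (fun α hα => by
        rw [hr α hα, zero_mul])
    funext α
    have h3 := congrFun h2 α
    exact (mul_eq_zero.1 h3).resolve_right (hc α))
  set Y := Submodule.span k (Set.range fun t => (fun α => c α * Gf α t : M → k)) with hY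
  let Ψ : V →ₗ[k] (S → k) := LinearMap.pi ψ
  have h2 : Y.map (Fintype.linearCombination k F) ≤ LinearMap.range Ψ := by
    rw [hY, Submodule.map_span, Submodule.span_le, ← Set.range_comp]
    rintro _ ⟨t, rfl⟩
    refine ⟨w t, ?_⟩
    funext s
    rw [LinearMap.pi_apply, hf s t, Function.comp_apply, Fintype.linearCombination_apply, Finset.sum_apply]
    refine Finset.sum_congr rfl fun α _ => ?_
    rw [Pi.smul_apply, smul_eq_mul]
    ring
  have h2' : finrank k (Y.map (Fintype.linearCombination k F)) ≤ finrank k V :=
    (Submodule.finrank_mono h2).trans (LinearMap.finrank_range_le Ψ)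
  have h3 := ((Fintype.linearCombination k F).domRestrict Y).finrank_range_add_finrank_ker
  have h4 : finrank k (LinearMap.ker ((Fintype.linearCombination k F).domRestrict Y)) ≤ rF.card := by
    have h5 : ∀ x : Y, x ∈ LinearMap.ker ((Fintype.linearCombination k F).domRestrict Y) →
        (∀ α ∈ rF, x.1 α = 0) → x = 0 := by
      intro x hx hr
      apply Subtype.ext
      refine hF x.1 ?_ ?_ hr
      · intro s
        have h6 := congrFun (LinearMap.mem_ker.1 hx) s
        rw [LinearMap.domRestrict_apply, Fintype.linearCombination_apply, Finset.sum_apply] at h6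
        rw [Pi.zero_apply] at h6
        rw [← h6]
        exact Finset.sum_congr rfl fun α _ => by rw [Pi.smul_apply, smul_eq_mul]
      · intro u hu
        have h7 : Y ≤ LinearMap.ker (Fintype.linearCombination k u : (M → k) →ₗ[k] k) := by
          rw [hY, Submodule.span_le]
          rintro _ ⟨t, rfl⟩
          rw [SetLike.mem_coe, LinearMap.mem_ker, Fintype.linearCombination_apply, ← hu t]
          exact Finset.sum_congr rfl fun α _ => by rw [smul_eq_mul, mul_comm]
        have h8 := LinearMap.mem_ker.1 (h7 x.2)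
        rw [Fintype.linearCombination_apply] at h8
        rw [← h8]
        exact Finset.sum_congr rfl fun α _ => by rw [smul_eq_mul, mul_comm]
    let f : LinearMap.ker ((Fintype.linearCombination k F).domRestrict Y) →ₗ[k] (rF → k) :=
      (LinearMap.funLeft k k (Subtype.val : rF → M)).comp (Y.subtype.comp (Submodule.subtype _))
    have hfi : Function.Injective f := by
      rw [injective_iff_map_eq_zero]
      intro x hx
      apply Subtype.ext
      exact h5 x.1 x.2 fun α hα => congrFun hx ⟨α, hα⟩
    have h1 := LinearMap.finrank_le_finrank_of_injective hfi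
    rwa [Module.finrank_fintype_fun_eq_card, Fintype.card_coe] at h1
  have h5 : LinearMap.range ((Fintype.linearCombination k F).domRestrict Y) = Y.map (Fintype.linearCombination k F) := by
    rw [LinearMap.range_domRestrict]
  rw [h5] at h3
  omega

omit hirr in
/-- **the lower bound** -/
theorem le_finrank [Finite G] [FiniteDimensional k V]
    (hf : ∀ h g, φ (ρ (h * g) v) = ∑ α, c α * F α h * Gf α g) (hc : ∀ α, c α ≠ 0) (rF rG : Finset M)
    (hF : ∀ x : M → k, (∀ h, ∑ α, x α * F α h = 0) →
      (∀ u : M → k, (∀ g, ∑ α, u α * (c α * Gf α g) = 0) → ∑ α, u α * x α = 0) → (∀ α ∈ rF, x α = 0) → x = 0)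
    (hG : ∀ x : M → k, (∀ g, ∑ α, x α * Gf α g = 0) → (∀ α ∈ rG, x α = 0) → x = 0) :
    Fintype.card M ≤ finrank k V + rF.card + rG.card :=
  card_le_finrank (fun g => ρ g v) (fun h => φ.comp (ρ h)) (fun h g => by
    rw [← hf, map_mul]; rfl) hc rF rG hF hG

/-- **the exact dimension** -/
theorem finrank_eq_card [Finite G] [FiniteDimensional k V] (hφ : φ ≠ 0) (hv : v ≠ 0)
    (hf : ∀ h g, φ (ρ (h * g) v) = ∑ α, c α * F α h * Gf α g) (hc : ∀ α, c α ≠ 0)
    (hF : ∀ x : M → k, (∀ h, ∑ α, x α * F α h = 0) → x = 0)
    (hG : ∀ x : M → k, (∀ g, ∑ α, x α * Gf α g = 0) → x = 0) : finrank k V = Fintype.card M := by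
  refine le_antisymm (finrank_le hirr hφ hv hf) ?_
  have h1 := le_finrank hf hc ∅ ∅ (fun x hx _ _ => hF x hx) (fun x hx _ => hG x hx)
  simpa using h1

end

end Cfsg.Agent.H887.DS
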