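import Mathlib

/-!
# Binomial coefficients prime to `p` (helper887)

`Dc p a` is the number of `m ≤ a` with `p ∤ C(a, m)`.

* `Dc_small` : `a ≥ 1`, `Dc p a ≤ 5` imply `a = r p ^ k` with `1 ≤ r < p`, `r + 1 ≤ Dc p a` or `a = p ^ i + p ^ j`, `i < j`,
  `4 ≤ Dc p a`.
-/

set_option autoImplicit false

namespace Cfsg.Agent.H887.DS

open Finset

/-- the `m ≤ a` with `p ∤ C(a, m)` -/
def Ds (p a : ℕ) : Finset ℕ := (range (a + 1)).filter fun m => ¬ p ∣ a.choose m

theorem mem_Ds {p a m : ℕ} : m ∈ Ds p a ↔ m ≤ a ∧ ¬ p ∣ a.choose m := by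
  rw [Ds, mem_filter, mem_range, Nat.lt_succ_iff]

theorem not_dvd_choose {p r j : ℕ} (hp : p.Prime) (hr : r < p) (hj : j ≤ r) : ¬ p ∣ r.choose j := by
  intro h
  have h1 : r.choose j ∣ r.factorial := by
    rw [← Nat.choose_mul_factorial_mul_factorial hj, mul_assoc]
    exact Dvd.intro _ rfl
  exact absurd ((hp.dvd_factorial).1 (h.trans h1)) (by omega)

theorem Ds_card_mul {p : ℕ} (hp : p.Prime) (a r : ℕ) (hr : r < p) :
    (r + 1) * (Ds p a).card ≤ (Ds p (p * a + r)).card := by
  have := Fact.mk hp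
  have h1 : ((range (r + 1)) ×ˢ (Ds p a)).card ≤ (Ds p (p * a + r)).card := by
    refine card_le_card_of_injOn (fun q => p * q.2 + q.1) ?_ ?_
    · rintro ⟨j, m⟩ hq
      rw [mem_coe, mem_product, mem_range, mem_Ds] at hq
      obtain ⟨hj, hm, hd⟩ := hq
      rw [mem_coe, mem_Ds]
      refine ⟨?_, ?_⟩
      · change p * m + j ≤ p * a + r
        have h2 : p * m ≤ p * a := Nat.mul_le_mul_left p hm
        have hj' : j < r + 1 := hj
        omega
      · change ¬ p ∣ (p * a + r).choose (p * m + j)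
        have hj' : j < r + 1 := hj
        have h2 := Choose.choose_modEq_choose_mod_mul_choose_div_nat (n := p * a + r) (k := p * m + j) (p := p)
        rw [Nat.mul_add_mod, Nat.mod_eq_of_lt hr, Nat.mul_add_mod, Nat.mod_eq_of_lt (by omega : j < p),
          Nat.mul_add_div hp.pos, Nat.mul_add_div hp.pos, Nat.div_eq_of_lt hr,
          Nat.div_eq_of_lt (by omega : j < p), add_zero, add_zero] at h2
        rw [h2.dvd_iff dvd_rfl, hp.dvd_mul]
        rintro (h3 | h3)
        · exact not_dvd_choose hp hr (by omega) h3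
        · exact hd h3
    · rintro ⟨j, m⟩ hq ⟨j', m'⟩ hq' he
      rw [mem_coe, mem_product, mem_range, mem_Ds] at hq hq'
      obtain ⟨hj, -⟩ := hq
      obtain ⟨hj', -⟩ := hq'
      simp only at hj hj' he
      have h3 : j = j' := by
        have h4 := congrArg (· % p) he
        simp only [Nat.mul_add_mod] at h4
        rwa [Nat.mod_eq_of_lt (by omega), Nat.mod_eq_of_lt (by omega)] at h4
      subst h3
      have h5 : p * m = p * m' := by omega
      rw [Nat.eq_of_mul_eq_mul_left hp.pos h5]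
  rwa [card_product, card_range] at h1

theorem two_le_Ds {p a : ℕ} (hp : p.Prime) (ha : 1 ≤ a) : 2 ≤ (Ds p a).card := by
  have h1 : ({0, a} : Finset ℕ) ⊆ Ds p a := by
    intro m hm
    rw [mem_insert, mem_singleton] at hm
    rcases hm with rfl | rfl
    · rw [mem_Ds, Nat.choose_zero_right]
      exact ⟨Nat.zero_le _, hp.one_lt.ne' ∘ Nat.dvd_one.1⟩
    · rw [mem_Ds, Nat.choose_self]
      exact ⟨le_rfl, hp.one_lt.ne' ∘ Nat.dvd_one.1⟩
  have h2 := card_le_card h1
  rwa [card_pair (by omega)] at h2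

theorem Ds_zero {p : ℕ} (hp : p.Prime) : (Ds p 0).card = 1 := by
  have : Ds p 0 = {0} := by
    ext m
    rw [mem_Ds, mem_singleton]
    constructor
    · rintro ⟨h, -⟩; omega
    · rintro rfl
      exact ⟨le_rfl, by rw [Nat.choose_self]; exact hp.one_lt.ne' ∘ Nat.dvd_one.1⟩
  rw [this, card_singleton]

theorem Ds_small {p : ℕ} (hp : p.Prime) : ∀ a : ℕ, 1 ≤ a → (Ds p a).card ≤ 5 →
    (∃ r k, 1 ≤ r ∧ r < p ∧ a = r * p ^ k ∧ r + 1 ≤ (Ds p a).card) ∨
      (∃ i j, i < j ∧ a = p ^ i + p ^ j ∧ 4 ≤ (Ds p a).card) := by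
  intro a
  induction a using Nat.strong_induction_on with
  | _ a ih =>
    intro ha h5
    have e : a = p * (a / p) + a % p := (Nat.div_add_mod a p).symm
    have hr : a % p < p := Nat.mod_lt _ hp.pos
    have h1 := Ds_card_mul hp (a / p) (a % p) hr
    rw [← e] at h1
    by_cases ha' : a / p = 0
    · left
      rw [ha', mul_zero, zero_add] at e
      rw [ha', Ds_zero hp, mul_one, ← e] at h1
      exact ⟨a, 0, ha, by omega, by rw [pow_zero, mul_one], h1⟩
    · have ha1 : 1 ≤ a / p := Nat.one_le_iff_ne_zero.2 ha'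
      have h2 := two_le_Ds hp ha1
      have hlt : a / p < a := Nat.div_lt_self (by omega) hp.one_lt
      by_cases h0 : a % p = 0
      · rw [h0, zero_add, one_mul] at h1
        rw [h0, add_zero] at e
        rcases ih _ hlt ha1 (h1.trans h5) with ⟨r, k, hr1, hr2, h3, h4⟩ | ⟨i, j, hij, h3, h4⟩
        · left
          refine ⟨r, k + 1, hr1, hr2, ?_, h4.trans h1⟩
          rw [e, h3, pow_succ]; ring
        · right
          refine ⟨i + 1, j + 1, by omega, ?_, h4.trans h1⟩
          rw [e, h3, pow_succ, pow_succ]; ring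
      · right
        have h6 : a % p = 1 ∧ (Ds p (a / p)).card = 2 := by
          have h7 : 1 ≤ a % p := Nat.one_le_iff_ne_zero.2 h0
          have h8 : (a % p + 1) * (Ds p (a / p)).card ≤ 5 := h1.trans h5
          have h9 : a % p + 1 ≤ 2 := by
            by_contra hcon
            have : 3 * 2 ≤ (a % p + 1) * (Ds p (a / p)).card := Nat.mul_le_mul (by omega) h2
            omega
          have h10 : a % p = 1 := by omega
          rw [h10] at h8
          exact ⟨h10, by omega⟩
        rcases ih _ hlt ha1 (by omega) with ⟨r, k, hr1, hr2, h3, h4⟩ | ⟨i, j, hij, h3, h4⟩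
        · have hr3 : r = 1 := by omega
          subst hr3
          refine ⟨0, k + 1, by omega, ?_, by rw [h6.1, h6.2] at h1; omega⟩
          rw [h6.1] at e
          rw [e, h3, pow_succ]; ring
        · omega

end Cfsg.Agent.H887.DS
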