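import Cfsg.Agent.H887.DS.Torus
import Cfsg.Agent.H887.DS.Lin
import Cfsg.Agent.H887.DS.Mono
import Cfsg.Agent.H887.DS.NT

/-!
# The dimension of the `SL₂`-modules of the end nodes (helper887)

* `Ds_le_Le_zero`, `Ds_le_Le_last` : `Dc p a ≤ dim Le {0}`, `Dc p b ≤ dim Le {l - 1}`.
-/

set_option autoImplicit false
set_option linter.unusedSectionVars false
set_option linter.style.haveILetI false

namespace Cfsg.Agent.H887.DS

open Matrix CoxeterSystem Cfsg.Agent.ChevalleyStructure.CoxeterGeom Cfsg.Agent.Tits.Roots Cfsg.Agent.Tits.Core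
  Cfsg.Agent.Tits.Exchange Cfsg.Agent.Nodes.Reps Cfsg.Agent.Nodes.BNOf Cfsg.Agent.Nodes.StabComb
  Cfsg.Agent.Nodes.Bruhat Cfsg.Agent.Nodes.OppDec Cfsg.Agent.Nodes.LeviDec Cfsg.Agent.KFacts.RgdOpp
  Cfsg.Agent.Omega.CR Cfsg.Agent.Omega.FOne.Lift.Sd Cfsg.Agent.Nodes.RootsA Cfsg.Agent.Nodes.RGDTypeA
open Cfsg.Agent.LieRecognition.BNCox (cA cA_apply)
open Cfsg.Agent.TitsThree.KSideA (tv tv_of_ne tv_add tv_zero tv_neg tv_comm tv_commute)
open Cfsg.Agent.H905.Md Module

theorem Ds_le {E k V : Type*} [Field E] [Finite E] [Field k] (ι : E →+* k) (p : ℕ) [Fact p.Prime] [CharP k p]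
    [AddCommGroup V] [Module k V] [FiniteDimensional k V] (L : Submodule k V) (w : E → V) (hw : ∀ t, w t ∈ L)
    (ψ : E → Module.Dual k V) {a : ℕ} (ha : a < Nat.card E)
    (h : ∀ s t, ψ s (w t) = (1 + ι s * ι t) ^ a) : (Ds p a).card ≤ finrank k L := by
  classical
  have h1 := card_le_finrank (M := Ds p a) (c := fun m => (a.choose m.1 : k)) (F := fun m s => ι s ^ m.1)
    (Gf := fun m t => ι t ^ m.1) (fun t => (⟨w t, hw t⟩ : L)) (fun s => (ψ s).comp L.subtype) ?_ ?_ ∅ ∅ ?_ ?_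
  · simpa using h1
  · intro s t
    change ψ s (w t) = _
    rw [h, add_comm, add_pow, Finset.sum_coe_sort (Ds p a) (fun m => (a.choose m : k) * ι s ^ m * ι t ^ m), Ds,
      Finset.sum_filter]
    refine Finset.sum_congr rfl fun m _ => ?_
    rw [one_pow, mul_one, mul_pow]
    split_ifs with h2
    · rw [(CharP.cast_eq_zero_iff k p _).2 h2, mul_zero]
    · ring
  · intro m
    rw [Ne, CharP.cast_eq_zero_iff k p]
    exact (mem_Ds.1 m.2).2
  · intro x hx _ _
    refine pow_indep ι (fun m : Ds p a => m.1) Subtype.val_injective (fun m => ?_) x hx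
    have := (mem_Ds.1 m.2).1
    omega
  · intro x hx _
    refine pow_indep ι (fun m : Ds p a => m.1) Subtype.val_injective (fun m => ?_) x hx
    have := (mem_Ds.1 m.2).1
    omega

section

variable {E : Type*} [Field E] [Finite E] {l : ℕ} {W : Type*} [Group W] [Finite W] {cs : CoxeterSystem (cA l) W}
  {A : Fin l → Fin l → ℤ} {h : IsCartan (cA l) A}

variable {k V : Type*} [Field k] [AddCommGroup V] [Module k V] [FiniteDimensional k V]
  {ρ : SpecialLinearGroup (Fin (l + 1)) E →* Module.End k V}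

theorem low_mem_Le {i : Fin l} {v : V} (hv : v ∈ D cs h (X E) ρ) (t : E) :
    ρ (tv i.succ i.castSucc t) v ∈ Le cs h (T (Fin (l + 1)) E) (X E) ρ {i} := by
  have hX : X E (-sr i) ≤ LJ cs h (T (Fin (l + 1)) E) (X E) {i} := X_le_LJ (RootsJ.neg (sr_mem_Roots i))
  have h1 : tv i.succ i.castSucc t ∈ LJ cs h (T (Fin (l + 1)) E) (X E) {i} := hX (by
    rw [X_neg_sr]; exact tv_mem_XX _ _ _)
  exact Ivt_Sp _ _ _ h1 v (le_Sp ρ hv)

theorem tv_same {a b : Fin (l + 1)} (hab : a ≠ b) (t : E) : (tv a b t).1 a b = t := by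
  rw [tv_val hab, Matrix.add_apply, Matrix.one_apply_ne hab, Matrix.single_apply_same, zero_add]

theorem tv_diag {a b : Fin (l + 1)} (hab : a ≠ b) (t : E) (i : Fin (l + 1)) : (tv a b t).1 i i = 1 := by
  rw [tv_val hab, Matrix.add_apply, Matrix.one_apply_eq, Matrix.single_apply_of_ne, add_zero]
  rintro ⟨rfl, h⟩
  exact hab h.symm

variable (ι : E →+* k) {a b : ℕ} (hl : 2 ≤ l) (p : ℕ) [Fact p.Prime] [CharP k p] {v : V}
  (hv : v ∈ D cs h (X E) ρ) {φ : Module.Dual k V} (hm : ∀ g, φ (ρ g v) = xi ι a b g)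
include hl hv hm

theorem Ds_le_Le_zero (ha : a < Nat.card E) {i : Fin l} (hi : i.val = 0) :
    (Ds p a).card ≤ finrank k (Le cs h (T (Fin (l + 1)) E) (X E) ρ {i}) := by
  have hne : i.castSucc ≠ i.succ := (Fin.castSucc_lt_succ).ne
  have e1 : (0 : Fin (l + 1)) = i.castSucc := Fin.ext hi.symm
  have e2 : Fin.last l ≠ i.castSucc := fun e => by
    have := congrArg Fin.val e
    simp at this
    omega
  have e3 : Fin.last l ≠ i.succ := fun e => by
    have := congrArg Fin.val e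
    simp at this
    omega
  refine Ds_le ι p _ (fun t => ρ (tv i.succ i.castSucc t) v) (fun t => low_mem_Le hv t)
    (fun s => φ.comp (ρ (tv i.castSucc i.succ s))) ha ?_
  intro s t
  change φ (ρ (tv i.castSucc i.succ s) (ρ (tv i.succ i.castSucc t) v)) = _
  rw [← rho_mul, hm]
  unfold xi
  have h1 : (tv i.castSucc i.succ s * tv i.succ i.castSucc t : SpecialLinearGroup (Fin (l + 1)) E).1 0 0 = 1 + s * t := by
    rw [mul_tv_apply hne.symm, if_pos e1, tv_diag hne, e1, tv_same hne]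
  have h2 : ((tv i.castSucc i.succ s * tv i.succ i.castSucc t : SpecialLinearGroup (Fin (l + 1)) E)⁻¹).1
      (Fin.last l) (Fin.last l) = 1 := by
    rw [_root_.mul_inv_rev, ← tv_neg, ← tv_neg, mul_tv_apply hne, if_neg e3, tv_diag hne.symm, add_zero]
  rw [h1, h2, map_one, one_pow, mul_one, map_add, map_one, map_mul]

theorem Ds_le_Le_last (hb : b < Nat.card E) {i : Fin l} (hi : i.val + 1 = l) :
    (Ds p b).card ≤ finrank k (Le cs h (T (Fin (l + 1)) E) (X E) ρ {i}) := by
  have hne : i.castSucc ≠ i.succ := (Fin.castSucc_lt_succ).ne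
  have e1 : Fin.last l = i.succ := Fin.ext (by simp; omega)
  have e2 : (0 : Fin (l + 1)) ≠ i.castSucc := fun e => by
    have := congrArg Fin.val e
    simp at this
    omega
  refine Ds_le ι p _ (fun t => ρ (tv i.succ i.castSucc t) v) (fun t => low_mem_Le hv t)
    (fun s => φ.comp (ρ (tv i.castSucc i.succ s))) hb ?_
  intro s t
  change φ (ρ (tv i.castSucc i.succ s) (ρ (tv i.succ i.castSucc t) v)) = _
  rw [← rho_mul, hm]
  unfold xi
  have h1 : (tv i.castSucc i.succ s * tv i.succ i.castSucc t : SpecialLinearGroup (Fin (l + 1)) E).1 0 0 = 1 := by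
    rw [mul_tv_apply hne.symm, if_neg e2, tv_diag hne, add_zero]
  have h2 : ((tv i.castSucc i.succ s * tv i.succ i.castSucc t : SpecialLinearGroup (Fin (l + 1)) E)⁻¹).1
      (Fin.last l) (Fin.last l) = 1 + s * t := by
    rw [_root_.mul_inv_rev, ← tv_neg, ← tv_neg, mul_tv_apply hne, if_pos e1, tv_diag hne.symm, e1, tv_same hne.symm]
    ring
  rw [h1, h2, map_one, one_pow, one_mul, map_add, map_one, map_mul]

end

end Cfsg.Agent.H887.DS
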