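import Cfsg.Agent.H905.MdI

/-!
# The master formula for `SL(l + 1, E)` in its own characteristic, end nodes (helper887)

`ρ` simple over a field `k` of characteristic `p = char E`, `v ∈ V^U`, `φ ∈ (V*)^(U⁻)`, `φ v = 1`, every node outside `J` is an
end node. Then `φ (g v) = ι (g 0 0) ^ a * ι (g⁻¹ l l) ^ b` for all `g` (`master`).

* `xi ι a b g = ι (g 0 0) ^ a * ι (g⁻¹ l l) ^ b`.
-/

set_option autoImplicit false
set_option linter.unusedSectionVars false
set_option linter.style.haveILetI false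

namespace Cfsg.Agent.H887.DS

open Matrix CoxeterSystem Cfsg.Agent.ChevalleyStructure.CoxeterGeom Cfsg.Agent.Tits.Roots Cfsg.Agent.Tits.Core
  Cfsg.Agent.Tits.Exchange Cfsg.Agent.Nodes.Reps Cfsg.Agent.Nodes.BNOf Cfsg.Agent.Nodes.StabComb
  Cfsg.Agent.Nodes.Bruhat Cfsg.Agent.Nodes.OppDec Cfsg.Agent.Nodes.LeviDec Cfsg.Agent.KFacts.RgdOpp
  Cfsg.Agent.Omega.CR Cfsg.Agent.Omega.FOne.Lift.Sd Cfsg.Agent.Nodes.RootsA Cfsg.Agent.Nodes.RGDTypeA
open Cfsg.Agent.LieRecognition.BNCox (cA cA_apply)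
open Cfsg.Agent.TitsThree.KSideA (tv tv_of_ne tv_add tv_zero tv_neg tv_comm tv_commute)
open Cfsg.Agent.H905.Md

section mat

variable {E : Type*} [Field E] {ι : Type*} [Fintype ι] [DecidableEq ι]

theorem mul_tv_apply {a b : ι} (hab : a ≠ b) (t : E) (g : SpecialLinearGroup ι E) (i j : ι) :
    (g * tv a b t).1 i j = g.1 i j + if j = b then g.1 i a * t else 0 := by
  change (g.1 * (tv a b t).1) i j = _
  rw [tv_val hab, Matrix.mul_add, Matrix.mul_one, Matrix.add_apply]
  congr 1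
  split_ifs with h
  · subst h; rw [Matrix.mul_single_apply_same]
  · exact Matrix.mul_single_apply_of_ne _ _ _ _ _ (Ne.symm (Ne.symm h)) _

theorem tv_mul_apply {a b : ι} (hab : a ≠ b) (t : E) (g : SpecialLinearGroup ι E) (i j : ι) :
    (tv a b t * g).1 i j = g.1 i j + if i = a then t * g.1 b j else 0 := by
  change ((tv a b t).1 * g.1) i j = _
  rw [tv_val hab, Matrix.add_mul, Matrix.one_mul, Matrix.add_apply]
  congr 1
  split_ifs with h
  · subst h; rw [Matrix.single_mul_apply_same]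
  · exact Matrix.single_mul_apply_of_ne _ _ _ _ _ h _

end mat

section xi

variable {E k : Type*} [Field E] [Field k] {l : ℕ} (ι : E →+* k) (a b : ℕ)

/-- the function -/
def xi (g : SpecialLinearGroup (Fin (l + 1)) E) : k :=
  ι (g.1 0 0) ^ a * ι ((g⁻¹).1 (Fin.last l) (Fin.last l)) ^ b

variable {ι a b}

theorem xi_mul_tv {c d : Fin (l + 1)} (hcd : c < d) (t : E) (g : SpecialLinearGroup (Fin (l + 1)) E) :
    xi ι a b (g * tv c d t) = xi ι a b g := by
  unfold xi
  have h1 : (g * tv c d t).1 0 0 = g.1 0 0 := by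
    rw [mul_tv_apply hcd.ne, if_neg, add_zero]
    rintro rfl
    exact absurd hcd (Fin.not_lt_zero _)
  have h2 : ((g * tv c d t)⁻¹).1 (Fin.last l) (Fin.last l) = (g⁻¹).1 (Fin.last l) (Fin.last l) := by
    rw [_root_.mul_inv_rev, ← tv_neg, tv_mul_apply hcd.ne, if_neg, add_zero]
    rintro rfl
    exact absurd hcd (Fin.le_last d).not_gt
  rw [h1, h2]

theorem xi_tv_mul {c d : Fin (l + 1)} (hcd : d < c) (t : E) (g : SpecialLinearGroup (Fin (l + 1)) E) :
    xi ι a b (tv c d t * g) = xi ι a b g := by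
  unfold xi
  have h1 : (tv c d t * g).1 0 0 = g.1 0 0 := by
    rw [tv_mul_apply hcd.ne', if_neg, add_zero]
    rintro rfl
    exact absurd hcd (Fin.not_lt_zero _)
  have h2 : ((tv c d t * g)⁻¹).1 (Fin.last l) (Fin.last l) = (g⁻¹).1 (Fin.last l) (Fin.last l) := by
    rw [_root_.mul_inv_rev, ← tv_neg, mul_tv_apply hcd.ne', if_neg, add_zero]
    rintro rfl
    exact absurd hcd (Fin.le_last c).not_gt
  rw [h1, h2]

variable {W : Type*} [Group W] {cs : CoxeterSystem (cA l) W} {A : Fin l → Fin l → ℤ} {h : IsCartan (cA l) A}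

/-- the right stabiliser of a function -/
def rSt {G k : Type*} [Group G] (f : G → k) : Subgroup G where
  carrier := {u | ∀ g, f (g * u) = f g}
  mul_mem' := fun {x y} hx hy g => by rw [← mul_assoc, hy, hx]
  one_mem' := fun g => by rw [mul_one]
  inv_mem' := fun {x} hx g => by
    have := hx (g * x⁻¹)
    rwa [inv_mul_cancel_right, eq_comm] at this

/-- the left stabiliser of a function -/
def lSt {G k : Type*} [Group G] (f : G → k) : Subgroup G where
  carrier := {u | ∀ g, f (u * g) = f g}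
  mul_mem' := fun {x y} hx hy g => by rw [mul_assoc, hx, hy]
  one_mem' := fun g => by rw [one_mul]
  inv_mem' := fun {x} hx g => by
    have := hx (x⁻¹ * g)
    rwa [mul_inv_cancel_left, eq_comm] at this

theorem xi_mul_U {u : SpecialLinearGroup (Fin (l + 1)) E} (hu : u ∈ RGD.Sup (X E) (RGD.Pos cs h))
    (g : SpecialLinearGroup (Fin (l + 1)) E) : xi ι a b (g * u) = xi ι a b g := by
  have h1 : RGD.Sup (X E) (RGD.Pos cs h) ≤ rSt (xi ι a b) := by
    refine RGD.Sup_le fun z hz => ?_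
    intro x hx g
    obtain ⟨c, d, hcd, rfl⟩ := exists_of_isRoot cs h hz.1
    rw [X_rtA hcd] at hx
    obtain ⟨t, rfl⟩ := hx
    exact xi_mul_tv (lt_of_le_of_ne (rtA_nonneg_iff.1 hz.2) hcd) t g
  exact h1 hu g

theorem xi_UN_mul {u : SpecialLinearGroup (Fin (l + 1)) E} (hu : u ∈ UN cs h (X E))
    (g : SpecialLinearGroup (Fin (l + 1)) E) : xi ι a b (u * g) = xi ι a b g := by
  have h1 : UN cs h (X E) ≤ lSt (xi ι a b) := by
    refine RGD.Sup_le fun z hz => ?_
    intro x hx g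
    obtain ⟨c, d, hcd, rfl⟩ := exists_of_isRoot cs h hz.1
    rw [X_rtA hcd] at hx
    obtain ⟨t, rfl⟩ := hx
    have h1 : 0 ≤ rtA d c := by rw [← rtA_neg]; exact neg_nonneg.2 hz.2
    exact xi_tv_mul (lt_of_le_of_ne (rtA_nonneg_iff.1 h1) hcd.symm) t g
  exact h1 hu g

/-- multiplication by `n_i`, `i` not acting on the ends used -/
theorem xi_ns_mul {i : Fin l} (ha : i.val = 0 → a = 0) (hb : i.val + 1 = l → b = 0)
    (g : SpecialLinearGroup (Fin (l + 1)) E) : xi ι a b (ns l E i * g) = xi ι a b g := by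
  have hne : i.castSucc ≠ i.succ := (Fin.castSucc_lt_succ).ne
  unfold xi
  have h1 : ι ((ns l E i * g).1 0 0) ^ a = ι (g.1 0 0) ^ a := by
    by_cases hi : i.val = 0
    · rw [ha hi, pow_zero, pow_zero]
    · have e1 : (0 : Fin (l + 1)) ≠ i.castSucc := fun e => hi (by have := congrArg Fin.val e; simpa using this.symm)
      have e2 : (0 : Fin (l + 1)) ≠ i.succ := (Fin.succ_ne_zero i).symm
      congr 2
      unfold ns Nodes.RGDTypeA.nn
      rw [mul_assoc, mul_assoc, tv_mul_apply hne, if_neg e1, add_zero, tv_mul_apply hne.symm, if_neg e2, add_zero,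
        tv_mul_apply hne, if_neg e1, add_zero]
  have h2 : ι (((ns l E i * g)⁻¹).1 (Fin.last l) (Fin.last l)) ^ b = ι ((g⁻¹).1 (Fin.last l) (Fin.last l)) ^ b := by
    by_cases hi : i.val + 1 = l
    · rw [hb hi, pow_zero, pow_zero]
    · have e1 : Fin.last l ≠ i.castSucc := fun e => by
        have := congrArg Fin.val e
        simp at this
        have := i.2
        omega
      have e2 : Fin.last l ≠ i.succ := fun e => hi (by have := congrArg Fin.val e; simpa using this.symm)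
      congr 2
      unfold ns Nodes.RGDTypeA.nn
      rw [_root_.mul_inv_rev, _root_.mul_inv_rev, _root_.mul_inv_rev, ← tv_neg, ← tv_neg, ← mul_assoc, ← mul_assoc, mul_tv_apply hne,
        if_neg e2, add_zero, mul_tv_apply hne.symm, if_neg e1, add_zero, mul_tv_apply hne, if_neg e2, add_zero]
  rw [h1, h2]

end xi

section rep

variable {E : Type*} [Field E] [Finite E] {l : ℕ} {W : Type*} [Group W] [Finite W] {cs : CoxeterSystem (cA l) W}
  {A : Fin l → Fin l → ℤ} {h : IsCartan (cA l) A} {p : ℕ} [Fact p.Prime] [CharP E p]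

/-- representatives are monomial -/
theorem exists_mono {w : W} {g : SpecialLinearGroup (Fin (l + 1)) E}
    (hg : Rp cs (rgd cs h (F := E) (p := p)).nsys w g) : ∃ σ, IsPm cs h w σ ∧ Mono σ g := by
  obtain ⟨ω, rfl⟩ := cs.wordProd_surjective w
  induction ω generalizing g with
  | nil =>
    rw [wordProd_nil] at hg ⊢
    exact ⟨1, IsPm.one, mem_T.1 hg.mem_of_one⟩
  | cons i ω ih =>
    rw [wordProd_cons] at hg ⊢
    have h1 := (rp_simple cs (rgd cs h (F := E) (p := p)).nsys i).inv.mul hg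
    rw [inv_mul_cancel_left] at h1
    obtain ⟨σ, h2, h3⟩ := ih h1
    refine ⟨_, (IsPm.simple i).mul h2, ?_⟩
    have h4 := (mono_ns (F := E) i).mul h3
    rwa [mul_inv_cancel_left] at h4

/-- `W_J` by the permutations -/
theorem mem_WJ_of_perm' {w : W} {σ : Equiv.Perm (Fin (l + 1))} (hw : IsPm cs h w σ) {J : Set (Fin l)}
    (hσ : ∀ i : Fin l, i ∉ J → ∀ c, (σ c).val ≤ i.val ↔ c.val ≤ i.val) : w ∈ WJ cs J := by
  rw [mem_WJ_iff (h := h)]
  intro x i hi
  have h1 : (LinearMap.proj i : (Fin l → ℤ) →ₗ[ℤ] ℤ).comp (rep cs h w) = LinearMap.proj i := by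
    refine LinearMap.pi_ext' fun j => LinearMap.ext_ring ?_
    change rep cs h w (Pi.single j 1) i = (Pi.single j (1 : ℤ) : Fin l → ℤ) i
    have h2 : (Pi.single j (1 : ℤ) : Fin l → ℤ) = rtA j.castSucc j.succ := (rtA_sr j).symm
    rw [h2, hw, rtA_coord, rtA_coord]
    simp only [hσ i hi]
  exact congrArg (fun f : (Fin l → ℤ) →ₗ[ℤ] ℤ => f x) h1

variable {k V : Type*} [Field k] [CharP k p] [AddCommGroup V] [Module k V] [FiniteDimensional k V] [Nontrivial V]
  {ρ : SpecialLinearGroup (Fin (l + 1)) E →* Module.End k V}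
  (hirr : ∀ L : Submodule k V, Ivt ρ (GG cs h (T (Fin (l + 1)) E) (X E)) L → L = ⊥ ∨ L = ⊤)

omit [Fact p.Prime] [CharP E p] [CharP k p] [FiniteDimensional k V] [Nontrivial V] in
theorem rho_ns {i : Fin l} (hi : i ∈ Jx cs h (X E) ρ) {v : V} (hv : v ∈ D cs h (X E) ρ) : ρ (ns l E i) v = v := by
  have hne : i.castSucc ≠ i.succ := (Fin.castSucc_lt_succ).ne
  have h1 : ∀ t : E, ρ (tv i.castSucc i.succ t) v = v := by
    intro t
    have h0 : sr i ∈ RGD.Pos cs h := by
      refine ⟨isRoot_sr cs h i, ?_⟩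
      rw [← rtA_sr, rtA_nonneg_iff]; exact (Fin.castSucc_lt_succ).le
    have h1 : X E (sr i) ≤ RGD.Sup (X E) (RGD.Pos cs h) := RGD.le_Sup h0
    refine hv _ (h1 ?_)
    rw [X_sr]; exact tv_mem_XX _ _ _
  have h2 : ∀ t : E, ρ (tv i.succ i.castSucc t) v = v := by
    intro t
    refine hi _ ?_ v hv
    rw [X_neg_sr]; exact tv_mem_XX _ _ _
  unfold ns Nodes.RGDTypeA.nn
  rw [rho_mul, rho_mul, h1, h2, h1]

variable {ι : E →+* k} {a b : ℕ}

/-- the action of the representatives of `W_J` on `V^U` -/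
theorem rho_rp {v : V} (hv : v ∈ D cs h (X E) ρ)
    (hχ : ∀ t ∈ T (Fin (l + 1)) E, ρ t v = xi ι a b t • v)
    (ha : ∀ i : Fin l, i.val = 0 → i ∈ Jx cs h (X E) ρ → a = 0)
    (hb : ∀ i : Fin l, i.val + 1 = l → i ∈ Jx cs h (X E) ρ → b = 0) {w : W}
    (hw : w ∈ WJ cs (Jx cs h (X E) ρ)) {g : SpecialLinearGroup (Fin (l + 1)) E}
    (hg : Rp cs (rgd cs h (F := E) (p := p)).nsys w g) : ρ g v = xi ι a b g • v := by
  obtain ⟨ω, hω, rfl⟩ := exists_word_of_mem_WJ cs hw
  clear hw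
  induction ω generalizing g with
  | nil =>
    rw [wordProd_nil] at hg
    exact hχ g hg.mem_of_one
  | cons i ω ih =>
    rw [wordProd_cons] at hg
    have hi : i ∈ Jx cs h (X E) ρ := hω i List.mem_cons_self
    have h1 := (rp_simple cs (rgd cs h (F := E) (p := p)).nsys i).inv.mul hg
    rw [inv_mul_cancel_left] at h1
    have h2 := ih (fun j hj => hω j (List.mem_cons_of_mem _ hj)) h1
    have e : g = ns l E i * ((ns l E i)⁻¹ * g) := by rw [mul_inv_cancel_left]
    rw [e, rho_mul, h2, map_smul, rho_ns hi hv, xi_ns_mul (fun h0 => ha i h0 hi) (fun h0 => hb i h0 hi)]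

/-- the value at representatives of elements outside `W_J` -/
theorem xi_rp_eq_zero (hJ : ∀ i : Fin l, i ∉ Jx cs h (X E) ρ → i.val = 0 ∨ i.val + 1 = l)
    (ha : ∀ i : Fin l, i.val = 0 → i ∉ Jx cs h (X E) ρ → a ≠ 0)
    (hb : ∀ i : Fin l, i.val + 1 = l → i ∉ Jx cs h (X E) ρ → b ≠ 0) {w : W}
    (hw : w ∉ WJ cs (Jx cs h (X E) ρ)) {g : SpecialLinearGroup (Fin (l + 1)) E}
    (hg : Rp cs (rgd cs h (F := E) (p := p)).nsys w g) : xi ι a b g = 0 := by
  obtain ⟨σ, hσ, hm⟩ := exists_mono (h := h) (p := p) hg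
  by_contra hne
  apply hw
  unfold xi at hne
  have h1 := left_ne_zero_of_mul hne
  have h2 := right_ne_zero_of_mul hne
  refine mem_WJ_of_perm' (h := h) hσ fun i hi c => ?_
  rcases hJ i hi with h0 | h0
  · have h3 : g.1 0 0 ≠ 0 := by
      intro e
      rw [e, map_zero] at h1
      exact h1 (zero_pow (ha i h0 hi))
    have h4 : (0 : Fin (l + 1)) = σ 0 := hm _ _ h3
    rw [h0, Nat.le_zero, Nat.le_zero]
    constructor
    · intro h5
      have h6 : σ c = σ 0 := by rw [← h4]; exact Fin.ext h5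
      rw [σ.injective h6]; rfl
    · intro h5
      have h6 : c = 0 := Fin.ext h5
      rw [h6, ← h4]; rfl
  · have h3 : (g⁻¹).1 (Fin.last l) (Fin.last l) ≠ 0 := by
      intro e
      rw [e, map_zero] at h2
      exact h2 (zero_pow (hb i h0 hi))
    have h4 : Fin.last l = σ⁻¹ (Fin.last l) := hm.inv _ _ h3
    have h5 : σ (Fin.last l) = Fin.last l := by
      conv_lhs => rw [h4]
      exact σ.apply_symm_apply _
    have h6 : ∀ c : Fin (l + 1), c.val ≤ i.val ↔ c ≠ Fin.last l := by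
      intro c
      constructor
      · rintro h7 rfl
        rw [Fin.val_last] at h7
        omega
      · intro h7
        have h8 := Fin.val_ne_of_ne h7
        rw [Fin.val_last] at h8
        have := c.2
        omega
    rw [h6, h6]
    constructor
    · rintro h7 rfl
      exact h7 h5
    · intro h7 h8
      exact h7 (σ.injective (h8.trans h5.symm))

theorem xi_T_mul {t : SpecialLinearGroup (Fin (l + 1)) E} (ht : t ∈ T (Fin (l + 1)) E)
    (g : SpecialLinearGroup (Fin (l + 1)) E) : xi ι a b (t * g) = xi ι a b t * xi ι a b g := by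
  have h1 : (t * g).1 0 0 = t.1 0 0 * g.1 0 0 := by
    change (t.1 * g.1) 0 0 = _
    rw [slT_diag ht, Matrix.diagonal_mul, Matrix.diagonal_apply_eq]
  have h2 : ((t * g)⁻¹).1 (Fin.last l) (Fin.last l) =
      (t⁻¹).1 (Fin.last l) (Fin.last l) * (g⁻¹).1 (Fin.last l) (Fin.last l) := by
    rw [_root_.mul_inv_rev]
    change ((g⁻¹).1 * (t⁻¹).1) _ _ = _
    rw [slT_diag (inv_mem ht), Matrix.mul_diagonal, Matrix.diagonal_apply_eq, mul_comm]
  unfold xi
  rw [h1, h2, map_mul, map_mul, mul_pow, mul_pow]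
  ring

theorem xi_mul_T {t : SpecialLinearGroup (Fin (l + 1)) E} (ht : t ∈ T (Fin (l + 1)) E)
    (g : SpecialLinearGroup (Fin (l + 1)) E) : xi ι a b (g * t) = xi ι a b g * xi ι a b t := by
  have h1 : (g * t).1 0 0 = g.1 0 0 * t.1 0 0 := by
    change (g.1 * t.1) 0 0 = _
    rw [slT_diag ht, Matrix.mul_diagonal, Matrix.diagonal_apply_eq]
  have h2 : ((g * t)⁻¹).1 (Fin.last l) (Fin.last l) =
      (g⁻¹).1 (Fin.last l) (Fin.last l) * (t⁻¹).1 (Fin.last l) (Fin.last l) := by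
    rw [_root_.mul_inv_rev]
    change ((t⁻¹).1 * (g⁻¹).1) _ _ = _
    rw [slT_diag (inv_mem ht), Matrix.diagonal_mul, Matrix.diagonal_apply_eq, mul_comm]
  unfold xi
  rw [h1, h2, map_mul, map_mul, mul_pow, mul_pow]
  ring

theorem xi_one : xi ι a b (1 : SpecialLinearGroup (Fin (l + 1)) E) = 1 := by
  unfold xi
  rw [inv_one]
  change ι ((1 : Matrix (Fin (l + 1)) (Fin (l + 1)) E) 0 0) ^ a *
    ι ((1 : Matrix (Fin (l + 1)) (Fin (l + 1)) E) (Fin.last l) (Fin.last l)) ^ b = 1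
  rw [Matrix.one_apply_eq, Matrix.one_apply_eq, map_one, one_pow, one_pow, one_mul]

theorem xi_T_ne_zero {t : SpecialLinearGroup (Fin (l + 1)) E} (ht : t ∈ T (Fin (l + 1)) E) : xi ι a b t ≠ 0 := by
  intro h0
  have h1 := xi_T_mul (ι := ι) (a := a) (b := b) ht t⁻¹
  rw [mul_inv_cancel, xi_one, h0, zero_mul] at h1
  exact one_ne_zero h1

include hirr

/-- **The master formula.** -/
theorem master (p : ℕ) [Fact p.Prime] [CharP E p] [CharP k p] [IsAlgClosed k] {v : V} (hv : v ∈ D cs h (X E) ρ) (hχ : ∀ t ∈ T (Fin (l + 1)) E, ρ t v = xi ι a b t • v)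
    (hJ : ∀ i : Fin l, i ∉ Jx cs h (X E) ρ → i.val = 0 ∨ i.val + 1 = l)
    (ha : ∀ i : Fin l, i.val = 0 → (i ∈ Jx cs h (X E) ρ ↔ a = 0))
    (hb : ∀ i : Fin l, i.val + 1 = l → (i ∈ Jx cs h (X E) ρ ↔ b = 0))
    {φ : Module.Dual k V} (hφ : φ ∈ fx (dualRep ρ) (UN cs h (X E))) (h1 : φ v = 1)
    (g : SpecialLinearGroup (Fin (l + 1)) E) : φ (ρ g v) = xi ι a b g := by
  have R := rgd cs h (F := E) (p := p)
  -- the torus on `φ`
  have hφT : ∀ t ∈ T (Fin (l + 1)) E, ∀ x, φ (ρ t x) = xi ι a b t * φ x := by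
    intro t ht
    have e1 : Module.finrank k (D cs h (fun x => X E (-x)) (dualRep ρ)) = 1 :=
      finrank_D (opp R) (hirr_opp R hirr) slT_comm
    have e2 : φ ∈ D cs h (fun x => X E (-x)) (dualRep ρ) := by rw [D_opp]; exact hφ
    have e3 : dualRep ρ t⁻¹ φ ∈ D cs h (fun x => X E (-x)) (dualRep ρ) := by
      haveI : Nontrivial (Module.Dual k V) := inferInstance
      exact D_ivt (opp R) (hirr_opp R hirr) t⁻¹ (inv_mem ht) φ e2
    have hφ0 : φ ≠ 0 := by rintro rfl; exact one_ne_zero h1.symm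
    obtain ⟨c, hc⟩ := (finrank_eq_one_iff_of_nonzero' (⟨φ, e2⟩ : D cs h (fun x => X E (-x)) (dualRep ρ))
      (by intro e; exact hφ0 (congrArg Subtype.val e))).1 e1 ⟨_, e3⟩
    have hc' : c • φ = dualRep ρ t⁻¹ φ := congrArg Subtype.val hc
    have h2 : c = xi ι a b t := by
      have h3 := congrArg (fun ψ : Module.Dual k V => ψ v) hc'
      simp only [LinearMap.smul_apply, h1, smul_eq_mul, mul_one] at h3
      rw [dualRep_apply, inv_inv, hχ t ht, map_smul, h1, smul_eq_mul, mul_one] at h3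
      exact h3
    intro x
    have h3 := congrArg (fun ψ : Module.Dual k V => ψ x) hc'
    simp only [LinearMap.smul_apply, smul_eq_mul] at h3
    rw [dualRep_apply, inv_inv, h2] at h3
    exact h3.symm
  -- the monomial elements
  have hmono : ∀ w n, Rp cs R.nsys w n → φ (ρ n v) = xi ι a b n := by
    intro w n hn
    by_cases hw : w ∈ WJ cs (Jx cs h (X E) ρ)
    · rw [rho_rp hv hχ (fun i h0 hi => (ha i h0).1 hi) (fun i h0 hi => (hb i h0).1 hi) hw hn, map_smul, h1,
        smul_eq_mul, mul_one]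
    · rw [xi_rp_eq_zero hJ (fun i h0 hi he => hi ((ha i h0).2 he)) (fun i h0 hi he => hi ((hb i h0).2 he)) hw hn]
      by_contra hne
      exact hw (mem_WJ_of_pair R hirr hφ hn hv hne)
  -- stabilisers
  have hL : BN cs h (T (Fin (l + 1)) E) (X E) ≤ lSt (fun g => (φ (ρ g v) = xi ι a b g : Prop)) := by
    refine sup_le ?_ ?_
    · intro t ht g
      apply propext
      change φ (ρ (t * g) v) = xi ι a b (t * g) ↔ φ (ρ g v) = xi ι a b g
      rw [rho_mul, hφT t ht, xi_T_mul ht]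
      exact mul_right_inj' (xi_T_ne_zero ht)
    · intro u hu g
      apply propext
      change φ (ρ (u * g) v) = xi ι a b (u * g) ↔ φ (ρ g v) = xi ι a b g
      rw [rho_mul, dual_fx_pair R hφ hu, xi_UN_mul hu]
  have hR : RGD.B cs h (T (Fin (l + 1)) E) (X E) ≤ rSt (fun g => (φ (ρ g v) = xi ι a b g : Prop)) := by
    refine sup_le ?_ ?_
    · intro t ht g
      apply propext
      change φ (ρ (g * t) v) = xi ι a b (g * t) ↔ φ (ρ g v) = xi ι a b g
      rw [rho_mul, hχ t ht, map_smul, map_smul, smul_eq_mul, mul_comm, xi_mul_T ht]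
      exact mul_left_inj' (xi_T_ne_zero ht)
    · intro u hu g
      apply propext
      change φ (ρ (g * u) v) = xi ι a b (g * u) ↔ φ (ρ g v) = xi ι a b g
      rw [rho_mul, hv u hu, xi_mul_U hu]
  obtain ⟨k0, hk0⟩ := exists_rp cs R.nsys (w0 cs)
  have hg : k0 * g ∈ GG cs h (T (Fin (l + 1)) E) (X E) := by
    rw [gg_eq_top (G1_eq_top cs h)]; trivial
  obtain ⟨w, b₁, hb₁, n, hn, b₂, hb₂, e⟩ := (mem_GG R).1 hg
  have h2 : k0⁻¹ * b₁ * k0 ∈ BN cs h (T (Fin (l + 1)) E) (X E) := by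
    rw [← cj_BN R hk0, mem_cj] at hb₁
    exact hb₁
  have h3 : g = (k0⁻¹ * b₁ * k0) * (k0⁻¹ * n * b₂) := by
    rw [← mul_right_inj k0, e]
    group
  have h4 := hmono _ _ (hk0.inv.mul hn)
  have h5 : (φ (ρ (k0⁻¹ * n * b₂) v) = xi ι a b (k0⁻¹ * n * b₂)) :=
    (iff_of_eq (hR hb₂ (k0⁻¹ * n))).2 h4
  rw [h3]
  exact (iff_of_eq (hL h2 _)).2 h5

end rep

end Cfsg.Agent.H887.DS
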