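import Cfsg.Agent.H887.DS.Uniq

/-!
# The master formula with 2×2 minors (helper887)

* `mn x y g` : the minor `g x x * g y y - g x y * g y x`;
* `xf ι a b c d g = ι(g 0 0)^a ι(mn 0 1 g)^b ι(mn (l-1) l g⁻¹)^c ι(g⁻¹ l l)^d`, `o` the index `1`, `z` the index `l - 1`;
* `master_gen` : the master formula for an abstract function;
* `exists_coef4` : the matrix coefficient if the nodes outside `J` are among `0, 1, l - 2, l - 1`, `l ≥ 3`.
-/

set_option autoImplicit false
set_option linter.unusedSectionVars false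
set_option linter.style.haveILetI false

namespace Cfsg.Agent.H887.DS

open Matrix CoxeterSystem Cfsg.Agent.ChevalleyStructure.CoxeterGeom Cfsg.Agent.Tits.Roots Cfsg.Agent.Tits.Core
  Cfsg.Agent.Tits.Exchange Cfsg.Agent.Nodes.Reps Cfsg.Agent.Nodes.BNOf Cfsg.Agent.Nodes.StabComb
  Cfsg.Agent.Nodes.Bruhat Cfsg.Agent.Nodes.OppDec Cfsg.Agent.Nodes.LeviDec Cfsg.Agent.KFacts.RgdOpp
  Cfsg.Agent.Omega.CR Cfsg.Agent.Omega.FOne.Lift.Sd Cfsg.Agent.Nodes.RootsA Cfsg.Agent.Nodes.RGDTypeA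
open Cfsg.Agent.LieRecognition.BNCox (cA cA_apply)
open Cfsg.Agent.TitsThree.KSideA (tv tv_of_ne tv_add tv_zero tv_neg tv_comm tv_commute)
open Cfsg.Agent.H905.Md Module

section gen

variable {E : Type*} [Field E] [Finite E] {l : ℕ} {W : Type*} [Group W] [Finite W] {cs : CoxeterSystem (cA l) W}
  {A : Fin l → Fin l → ℤ} {h : IsCartan (cA l) A} (p : ℕ) [hp : Fact p.Prime] [hEp : CharP E p]
  {k V : Type*} [Field k] [IsAlgClosed k] [CharP k p] [AddCommGroup V] [Module k V] [FiniteDimensional k V] [Nontrivial V]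
  {ρ : SpecialLinearGroup (Fin (l + 1)) E →* Module.End k V}
  (hirr : ∀ L : Submodule k V, Ivt ρ (GG cs h (T (Fin (l + 1)) E) (X E)) L → L = ⊥ ∨ L = ⊤)
include hirr

include p in
/-- **The master formula.** -/
theorem master_gen {Ξ : SpecialLinearGroup (Fin (l + 1)) E → k} (hΞ : Ξ 1 = 1)
    (hU : ∀ c d : Fin (l + 1), c < d → ∀ t g, Ξ (g * tv c d t) = Ξ g)
    (hN : ∀ c d : Fin (l + 1), d < c → ∀ t g, Ξ (tv c d t * g) = Ξ g)
    (hTl : ∀ t ∈ T (Fin (l + 1)) E, ∀ g, Ξ (t * g) = Ξ t * Ξ g)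
    (hTr : ∀ t ∈ T (Fin (l + 1)) E, ∀ g, Ξ (g * t) = Ξ g * Ξ t)
    (hns : ∀ i ∈ Jx cs h (X E) ρ, ∀ g, Ξ (ns l E i * g) = Ξ g)
    (hz : ∀ (g : SpecialLinearGroup (Fin (l + 1)) E) (σ : Equiv.Perm (Fin (l + 1))), Mono σ g → Ξ g ≠ 0 →
      ∀ i ∉ Jx cs h (X E) ρ, ∀ c, (σ c).val ≤ i.val ↔ c.val ≤ i.val)
    {v : V} (hv : v ∈ D cs h (X E) ρ) (hχ : ∀ t ∈ T (Fin (l + 1)) E, ρ t v = Ξ t • v)
    {φ : Module.Dual k V} (hφ : φ ∈ fx (dualRep ρ) (UN cs h (X E))) (h1 : φ v = 1)
    (g : SpecialLinearGroup (Fin (l + 1)) E) : φ (ρ g v) = Ξ g := by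
  have R := rgd cs h (F := E) (p := p)
  have hT0 : ∀ t ∈ T (Fin (l + 1)) E, Ξ t ≠ 0 := by
    intro t ht h0
    have h2 := hTl t ht t⁻¹
    rw [mul_inv_cancel, hΞ, h0, zero_mul] at h2
    exact one_ne_zero h2
  -- the torus on `φ`
  have hφT : ∀ t ∈ T (Fin (l + 1)) E, ∀ x, φ (ρ t x) = Ξ t * φ x := by
    intro t ht
    have e1 : Module.finrank k (D cs h (fun x => X E (-x)) (dualRep ρ)) = 1 :=
      finrank_D (opp R) (H905.Md.hirr_opp R hirr) slT_comm
    have e2 : φ ∈ D cs h (fun x => X E (-x)) (dualRep ρ) := by rw [D_opp]; exact hφ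
    have e3 : dualRep ρ t⁻¹ φ ∈ D cs h (fun x => X E (-x)) (dualRep ρ) := by
      haveI : Nontrivial (Module.Dual k V) := inferInstance
      exact D_ivt (opp R) (H905.Md.hirr_opp R hirr) t⁻¹ (inv_mem ht) φ e2
    have hφ0 : φ ≠ 0 := by rintro rfl; exact one_ne_zero h1.symm
    obtain ⟨c, hc⟩ := (finrank_eq_one_iff_of_nonzero' (⟨φ, e2⟩ : D cs h (fun x => X E (-x)) (dualRep ρ))
      (by intro e; exact hφ0 (congrArg Subtype.val e))).1 e1 ⟨_, e3⟩
    have hc' : c • φ = dualRep ρ t⁻¹ φ := congrArg Subtype.val hc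
    have h2 : c = Ξ t := by
      have h3 := congrArg (fun ψ : Module.Dual k V => ψ v) hc'
      simp only [LinearMap.smul_apply, h1, smul_eq_mul, mul_one] at h3
      rw [dualRep_apply, inv_inv, hχ t ht, map_smul, h1, smul_eq_mul, mul_one] at h3
      exact h3
    intro x
    have h3 := congrArg (fun ψ : Module.Dual k V => ψ x) hc'
    simp only [LinearMap.smul_apply, smul_eq_mul] at h3
    rw [dualRep_apply, inv_inv, h2] at h3
    exact h3.symm
  -- representatives of `W_J`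
  have hWJ : ∀ w ∈ WJ cs (Jx cs h (X E) ρ), ∀ g, Rp cs R.nsys w g → ρ g v = Ξ g • v := by
    intro w hw g hg
    obtain ⟨ω, hω, rfl⟩ := exists_word_of_mem_WJ cs hw
    clear hw
    induction ω generalizing g with
    | nil =>
      rw [wordProd_nil] at hg
      exact hχ g hg.mem_of_one
    | cons i ω ih =>
      rw [wordProd_cons] at hg
      have hi : i ∈ Jx cs h (X E) ρ := hω i List.mem_cons_self
      have h1 := (rp_simple cs R.nsys i).inv.mul hg
      rw [inv_mul_cancel_left] at h1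
      have h2 := ih _ (fun j hj => hω j (List.mem_cons_of_mem _ hj)) h1
      have e : g = ns l E i * ((ns l E i)⁻¹ * g) := by rw [mul_inv_cancel_left]
      rw [e, rho_mul, h2, map_smul, rho_ns hi hv, hns i hi]
  -- the monomial elements
  have hmono : ∀ w n, Rp cs R.nsys w n → φ (ρ n v) = Ξ n := by
    intro w n hn
    by_cases hw : w ∈ WJ cs (Jx cs h (X E) ρ)
    · rw [hWJ w hw n hn, map_smul, h1, smul_eq_mul, mul_one]
    · have h2 : Ξ n = 0 := by
        by_contra hne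
        obtain ⟨σ, hσ, hm⟩ := exists_mono (h := h) (p := p) hn
        exact hw (mem_WJ_of_perm' (h := h) hσ fun i hi c => hz n σ hm hne i hi c)
      rw [h2]
      by_contra hne
      exact hw (mem_WJ_of_pair R hirr hφ hn hv hne)
  -- unipotent elements
  have hUU : ∀ u ∈ RGD.Sup (X E) (RGD.Pos cs h), ∀ g, Ξ (g * u) = Ξ g := by
    have h2 : RGD.Sup (X E) (RGD.Pos cs h) ≤ rSt Ξ := by
      refine RGD.Sup_le fun z hz => ?_
      intro x hx g
      obtain ⟨c, d, hcd, rfl⟩ := exists_of_isRoot cs h hz.1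
      rw [X_rtA hcd] at hx
      obtain ⟨t, rfl⟩ := hx
      exact hU _ _ (lt_of_le_of_ne (rtA_nonneg_iff.1 hz.2) hcd) t g
    exact fun u hu g => h2 hu g
  have hNN : ∀ u ∈ UN cs h (X E), ∀ g, Ξ (u * g) = Ξ g := by
    have h2 : UN cs h (X E) ≤ lSt Ξ := by
      refine RGD.Sup_le fun z hz => ?_
      intro x hx g
      obtain ⟨c, d, hcd, rfl⟩ := exists_of_isRoot cs h hz.1
      rw [X_rtA hcd] at hx
      obtain ⟨t, rfl⟩ := hx
      have h1 : 0 ≤ rtA d c := by rw [← rtA_neg]; exact neg_nonneg.2 hz.2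
      exact hN _ _ (lt_of_le_of_ne (rtA_nonneg_iff.1 h1) hcd.symm) t g
    exact fun u hu g => h2 hu g
  -- stabilisers
  have hL : BN cs h (T (Fin (l + 1)) E) (X E) ≤ lSt (fun g => (φ (ρ g v) = Ξ g : Prop)) := by
    refine sup_le ?_ ?_
    · intro t ht g
      apply propext
      change φ (ρ (t * g) v) = Ξ (t * g) ↔ φ (ρ g v) = Ξ g
      rw [rho_mul, hφT t ht, hTl t ht]
      exact mul_right_inj' (hT0 t ht)
    · intro u hu g
      apply propext
      change φ (ρ (u * g) v) = Ξ (u * g) ↔ φ (ρ g v) = Ξ g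
      rw [rho_mul, dual_fx_pair R hφ hu, hNN u hu]
  have hR : RGD.B cs h (T (Fin (l + 1)) E) (X E) ≤ rSt (fun g => (φ (ρ g v) = Ξ g : Prop)) := by
    refine sup_le ?_ ?_
    · intro t ht g
      apply propext
      change φ (ρ (g * t) v) = Ξ (g * t) ↔ φ (ρ g v) = Ξ g
      rw [rho_mul, hχ t ht, map_smul, map_smul, smul_eq_mul, mul_comm, hTr t ht]
      exact mul_left_inj' (hT0 t ht)
    · intro u hu g
      apply propext
      change φ (ρ (g * u) v) = Ξ (g * u) ↔ φ (ρ g v) = Ξ g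
      rw [rho_mul, hv u hu, hUU u hu]
  obtain ⟨k0, hk0⟩ := exists_rp cs R.nsys (w0 cs)
  have hg : k0 * g ∈ GG cs h (T (Fin (l + 1)) E) (X E) := by
    rw [gg_eq_top (G1_eq_top cs h)]; trivial
  obtain ⟨w, b₁, hb₁, n, hn, b₂, hb₂, e⟩ := (mem_GG R).1 hg
  have h2 : k0⁻¹ * b₁ * k0 ∈ BN cs h (T (Fin (l + 1)) E) (X E) := by
    rw [← cj_BN R hk0, mem_cj] at hb₁
    exact hb₁
  have h3 : g = (k0⁻¹ * b₁ * k0) * (k0⁻¹ * n * b₂) := by
    rw [← mul_right_inj k0, e]
    group
  have h4 := hmono _ _ (hk0.inv.mul hn)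
  have h5 : (φ (ρ (k0⁻¹ * n * b₂) v) = Ξ (k0⁻¹ * n * b₂)) :=
    (iff_of_eq (hR hb₂ (k0⁻¹ * n))).2 h4
  rw [h3]
  exact (iff_of_eq (hL h2 _)).2 h5

end gen

section minor

variable {E k : Type*} [Field E] [Field k] {l : ℕ}

/-- the minor of the rows and columns `x`, `y` -/
def mn (x y : Fin (l + 1)) (g : SpecialLinearGroup (Fin (l + 1)) E) : E := g.1 x x * g.1 y y - g.1 x y * g.1 y x

theorem mn_mul_tv {x y c d : Fin (l + 1)} (hcd : c ≠ d)
    (h : (d ≠ x ∧ d ≠ y) ∨ (d = x ∧ c = y) ∨ (d = y ∧ c = x)) (t : E) (g : SpecialLinearGroup (Fin (l + 1)) E) :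
    mn x y (g * tv c d t) = mn x y g := by
  unfold mn
  simp only [mul_tv_apply hcd]
  rcases h with ⟨h1, h2⟩ | ⟨rfl, rfl⟩ | ⟨rfl, rfl⟩
  · rw [if_neg h1.symm, if_neg h2.symm, if_neg h2.symm, if_neg h1.symm]
    ring
  · rw [if_pos rfl, if_neg hcd, if_neg hcd, if_pos rfl]
    ring
  · rw [if_pos rfl, if_neg hcd, if_neg hcd, if_pos rfl]
    ring

theorem mn_tv_mul {x y c d : Fin (l + 1)} (hcd : c ≠ d)
    (h : (c ≠ x ∧ c ≠ y) ∨ (c = x ∧ d = y) ∨ (c = y ∧ d = x)) (t : E) (g : SpecialLinearGroup (Fin (l + 1)) E) :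
    mn x y (tv c d t * g) = mn x y g := by
  unfold mn
  simp only [tv_mul_apply hcd]
  rcases h with ⟨h1, h2⟩ | ⟨rfl, rfl⟩ | ⟨rfl, rfl⟩
  · rw [if_neg h1.symm, if_neg h2.symm, if_neg h1.symm, if_neg h2.symm]
    ring
  · simp only [if_true, if_neg hcd.symm]
    ring
  · simp only [if_true, if_neg hcd.symm]
    ring

theorem mn_one {x y : Fin (l + 1)} (hxy : x ≠ y) : mn x y (1 : SpecialLinearGroup (Fin (l + 1)) E) = 1 := by
  unfold mn
  change (1 : Matrix (Fin (l + 1)) (Fin (l + 1)) E) x x * (1 : Matrix (Fin (l + 1)) (Fin (l + 1)) E) y y -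
    (1 : Matrix (Fin (l + 1)) (Fin (l + 1)) E) x y * (1 : Matrix (Fin (l + 1)) (Fin (l + 1)) E) y x = 1
  rw [Matrix.one_apply_eq, Matrix.one_apply_eq, Matrix.one_apply_ne hxy, zero_mul, mul_one, sub_zero]

theorem mn_T_mul [Finite E] {x y : Fin (l + 1)} (hxy : x ≠ y) {t : SpecialLinearGroup (Fin (l + 1)) E}
    (ht : t ∈ T (Fin (l + 1)) E) (g : SpecialLinearGroup (Fin (l + 1)) E) : mn x y (t * g) = mn x y t * mn x y g := by
  have h1 : ∀ i j, (t * g).1 i j = t.1 i i * g.1 i j := by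
    intro i j
    change (t.1 * g.1) i j = _
    rw [slT_diag ht, Matrix.diagonal_mul, Matrix.diagonal_apply_eq]
  have h2 : t.1 x y = 0 := by rw [slT_diag ht, Matrix.diagonal_apply_ne _ hxy]
  unfold mn
  rw [h1, h1, h1, h1, h2]
  ring

theorem mn_mul_T [Finite E] {x y : Fin (l + 1)} (hxy : x ≠ y) {t : SpecialLinearGroup (Fin (l + 1)) E}
    (ht : t ∈ T (Fin (l + 1)) E) (g : SpecialLinearGroup (Fin (l + 1)) E) : mn x y (g * t) = mn x y g * mn x y t := by
  have h1 : ∀ i j, (g * t).1 i j = g.1 i j * t.1 j j := by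
    intro i j
    change (g.1 * t.1) i j = _
    rw [slT_diag ht, Matrix.mul_diagonal, Matrix.diagonal_apply_eq]
  have h2 : t.1 x y = 0 := by rw [slT_diag ht, Matrix.diagonal_apply_ne _ hxy]
  unfold mn
  rw [h1, h1, h1, h1, h2]
  ring

variable (ι : E →+* k) (o z : Fin (l + 1)) (a b c d : ℕ)

/-- the function -/
def xf (g : SpecialLinearGroup (Fin (l + 1)) E) : k :=
  xi ι a d g * (ι (mn 0 o g) ^ b * ι (mn z (Fin.last l) g⁻¹) ^ c)

variable {ι o z a b c d} (hl : 3 ≤ l) (ho : o.val = 1) (hz : z.val + 1 = l)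
include hl ho hz

theorem o_ne : (0 : Fin (l + 1)) ≠ o := fun e => by
  have := congrArg Fin.val e
  rw [ho] at this
  exact absurd this (by simp)

theorem z_ne : z ≠ Fin.last l := fun e => by
  have := congrArg Fin.val e
  rw [Fin.val_last] at this
  omega

theorem xf_one [Finite E] : xf ι o z a b c d (1 : SpecialLinearGroup (Fin (l + 1)) E) = 1 := by
  unfold xf
  rw [xi_one, inv_one, mn_one (o_ne hl ho hz), mn_one (z_ne hl ho hz), map_one, one_pow, one_pow, one_mul, one_mul]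

theorem xf_mul_tv {x y : Fin (l + 1)} (hxy : x < y) (t : E) (g : SpecialLinearGroup (Fin (l + 1)) E) :
    xf ι o z a b c d (g * tv x y t) = xf ι o z a b c d g := by
  have hxy' : x.val < y.val := hxy
  have hy := y.2
  unfold xf
  rw [xi_mul_tv hxy, mn_mul_tv hxy.ne ?_, _root_.mul_inv_rev, ← tv_neg, mn_tv_mul hxy.ne ?_]
  · by_cases h1 : x = z
    · exact Or.inr (Or.inl ⟨h1, Fin.ext (by rw [Fin.val_last]; have := congrArg Fin.val h1; omega)⟩)
    · exact Or.inl ⟨h1, fun e => by have := congrArg Fin.val e; rw [Fin.val_last] at this; omega⟩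
  · by_cases h1 : y = o
    · exact Or.inr (Or.inr ⟨h1, Fin.ext (by rw [Fin.val_zero]; have := congrArg Fin.val h1; omega)⟩)
    · exact Or.inl ⟨fun e => by have := congrArg Fin.val e; rw [Fin.val_zero] at this; omega, h1⟩

theorem xf_tv_mul {x y : Fin (l + 1)} (hxy : y < x) (t : E) (g : SpecialLinearGroup (Fin (l + 1)) E) :
    xf ι o z a b c d (tv x y t * g) = xf ι o z a b c d g := by
  have hxy' : y.val < x.val := hxy
  have hx := x.2
  unfold xf
  rw [xi_tv_mul hxy, mn_tv_mul hxy.ne' ?_, _root_.mul_inv_rev, ← tv_neg, mn_mul_tv hxy.ne' ?_]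
  · by_cases h1 : y = z
    · exact Or.inr (Or.inl ⟨h1, Fin.ext (by rw [Fin.val_last]; have := congrArg Fin.val h1; omega)⟩)
    · exact Or.inl ⟨h1, fun e => by have := congrArg Fin.val e; rw [Fin.val_last] at this; omega⟩
  · by_cases h1 : x = o
    · exact Or.inr (Or.inr ⟨h1, Fin.ext (by rw [Fin.val_zero]; have := congrArg Fin.val h1; omega)⟩)
    · exact Or.inl ⟨fun e => by have := congrArg Fin.val e; rw [Fin.val_zero] at this; omega, h1⟩

theorem xf_T_mul [Finite E] {t : SpecialLinearGroup (Fin (l + 1)) E} (ht : t ∈ T (Fin (l + 1)) E)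
    (g : SpecialLinearGroup (Fin (l + 1)) E) :
    xf ι o z a b c d (t * g) = xf ι o z a b c d t * xf ι o z a b c d g := by
  unfold xf
  rw [xi_T_mul ht, mn_T_mul (o_ne hl ho hz) ht, _root_.mul_inv_rev, mn_mul_T (z_ne hl ho hz) (inv_mem ht), map_mul,
    map_mul, mul_pow, mul_pow]
  ring

theorem xf_mul_T [Finite E] {t : SpecialLinearGroup (Fin (l + 1)) E} (ht : t ∈ T (Fin (l + 1)) E)
    (g : SpecialLinearGroup (Fin (l + 1)) E) :
    xf ι o z a b c d (g * t) = xf ι o z a b c d g * xf ι o z a b c d t := by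
  unfold xf
  rw [xi_mul_T ht, mn_mul_T (o_ne hl ho hz) ht, _root_.mul_inv_rev, mn_T_mul (z_ne hl ho hz) (inv_mem ht), map_mul,
    map_mul, mul_pow, mul_pow]
  ring

theorem xf_ns_mul {i : Fin l} (ha : i.val = 0 → a = 0) (hb : i.val = 1 → b = 0) (hc : i.val + 2 = l → c = 0)
    (hd : i.val + 1 = l → d = 0) (g : SpecialLinearGroup (Fin (l + 1)) E) :
    xf ι o z a b c d (ns l E i * g) = xf ι o z a b c d g := by
  have hne : i.castSucc ≠ i.succ := (Fin.castSucc_lt_succ).ne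
  have hi := i.2
  have v1 : i.castSucc.val = i.val := rfl
  have v2 : i.succ.val = i.val + 1 := rfl
  have v3 : (0 : Fin (l + 1)).val = 0 := rfl
  have v4 : (Fin.last l).val = l := rfl
  unfold xf
  rw [xi_ns_mul ha hd]
  congr 1
  congr 1
  · by_cases h1 : i.val = 1
    · rw [hb h1, pow_zero, pow_zero]
    · congr 2
      have c1 : (i.castSucc ≠ 0 ∧ i.castSucc ≠ o) ∨ (i.castSucc = 0 ∧ i.succ = o) ∨ (i.castSucc = o ∧ i.succ = 0) := by
        simp only [ne_eq, Fin.ext_iff, v1, v2, v3, ho]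
        omega
      have c2 : (i.succ ≠ 0 ∧ i.succ ≠ o) ∨ (i.succ = 0 ∧ i.castSucc = o) ∨ (i.succ = o ∧ i.castSucc = 0) := by
        simp only [ne_eq, Fin.ext_iff, v1, v2, v3, ho]
        omega
      unfold ns Nodes.RGDTypeA.nn
      rw [mul_assoc, mul_assoc, mn_tv_mul hne c1, mn_tv_mul hne.symm c2, mn_tv_mul hne c1]
  · by_cases h1 : i.val + 2 = l
    · rw [hc h1, pow_zero, pow_zero]
    · congr 2
      have c1 : (i.succ ≠ z ∧ i.succ ≠ Fin.last l) ∨ (i.succ = z ∧ i.castSucc = Fin.last l) ∨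
          (i.succ = Fin.last l ∧ i.castSucc = z) := by
        simp only [ne_eq, Fin.ext_iff, v1, v2, v4]
        omega
      have c2 : (i.castSucc ≠ z ∧ i.castSucc ≠ Fin.last l) ∨ (i.castSucc = z ∧ i.succ = Fin.last l) ∨
          (i.castSucc = Fin.last l ∧ i.succ = z) := by
        simp only [ne_eq, Fin.ext_iff, v1, v2, v4]
        omega
      unfold ns Nodes.RGDTypeA.nn
      rw [_root_.mul_inv_rev, _root_.mul_inv_rev, _root_.mul_inv_rev, ← tv_neg, ← tv_neg, ← mul_assoc, ← mul_assoc,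
        mn_mul_tv hne c1, mn_mul_tv hne.symm c2, mn_mul_tv hne c1]

omit hl ho hz in
/-- a monomial matrix with a non-zero minor -/
theorem mono_mn {σ : Equiv.Perm (Fin (l + 1))} {g : SpecialLinearGroup (Fin (l + 1)) E} (hm : Mono σ g)
    {x y : Fin (l + 1)} (h : mn x y g ≠ 0) (e : Fin (l + 1)) : (σ e = x ∨ σ e = y) ↔ (e = x ∨ e = y) := by
  have h1 : (σ x = x ∧ σ y = y) ∨ (σ y = x ∧ σ x = y) := by
    unfold mn at h
    by_cases h1 : g.1 x x * g.1 y y = 0
    · rw [h1, zero_sub, neg_ne_zero] at h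
      exact Or.inr ⟨(hm _ _ (left_ne_zero_of_mul h)).symm, (hm _ _ (right_ne_zero_of_mul h)).symm⟩
    · exact Or.inl ⟨(hm _ _ (left_ne_zero_of_mul h1)).symm, (hm _ _ (right_ne_zero_of_mul h1)).symm⟩
  rcases h1 with ⟨h1, h2⟩ | ⟨h1, h2⟩
  · constructor
    · rintro (h3 | h3)
      · exact Or.inl (σ.injective (h3.trans h1.symm))
      · exact Or.inr (σ.injective (h3.trans h2.symm))
    · rintro (rfl | rfl)
      · exact Or.inl h1
      · exact Or.inr h2
  · constructor
    · rintro (h3 | h3)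
      · exact Or.inr (σ.injective (h3.trans h1.symm))
      · exact Or.inl (σ.injective (h3.trans h2.symm))
    · rintro (rfl | rfl)
      · exact Or.inr h2
      · exact Or.inl h1

theorem xf_mono {σ : Equiv.Perm (Fin (l + 1))} {g : SpecialLinearGroup (Fin (l + 1)) E} (hm : Mono σ g)
    (h : xf ι o z a b c d g ≠ 0) {i : Fin l} (hi : (i.val = 0 ∧ a ≠ 0) ∨ (i.val = 1 ∧ b ≠ 0) ∨ (i.val + 2 = l ∧ c ≠ 0) ∨
      (i.val + 1 = l ∧ d ≠ 0)) (e : Fin (l + 1)) : (σ e).val ≤ i.val ↔ e.val ≤ i.val := by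
  have v3 : (0 : Fin (l + 1)).val = 0 := rfl
  have v4 : (Fin.last l).val = l := rfl
  have e1 := e.2
  have e2 := (σ e).2
  unfold xf xi at h
  have h1 := left_ne_zero_of_mul (left_ne_zero_of_mul h)
  have h2 := right_ne_zero_of_mul (left_ne_zero_of_mul h)
  have h3 := left_ne_zero_of_mul (right_ne_zero_of_mul h)
  have h4 := right_ne_zero_of_mul (right_ne_zero_of_mul h)
  rcases hi with ⟨hi, h0⟩ | ⟨hi, h0⟩ | ⟨hi, h0⟩ | ⟨hi, h0⟩
  · have h5 : g.1 0 0 ≠ 0 := by
      intro e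
      rw [e, map_zero] at h1
      exact h1 (zero_pow h0)
    have h6 : (0 : Fin (l + 1)) = σ 0 := hm _ _ h5
    have h7 : σ e = 0 ↔ e = 0 := by
      constructor
      · intro h7; exact σ.injective (h7.trans h6)
      · rintro rfl; exact h6.symm
    simp only [Fin.ext_iff, v3] at h7
    omega
  · have h5 : mn 0 o g ≠ 0 := by
      intro e
      rw [e, map_zero] at h3
      exact h3 (zero_pow h0)
    have h6 := mono_mn hm h5 e
    simp only [Fin.ext_iff, v3, ho] at h6
    omega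
  · have h5 : mn z (Fin.last l) g⁻¹ ≠ 0 := by
      intro e
      rw [e, map_zero] at h4
      exact h4 (zero_pow h0)
    have h6 := mono_mn hm.inv h5 (σ e)
    rw [show σ⁻¹ (σ e) = e from σ.symm_apply_apply e] at h6
    simp only [Fin.ext_iff, v4] at h6
    omega
  · have h5 : (g⁻¹).1 (Fin.last l) (Fin.last l) ≠ 0 := by
      intro e
      rw [e, map_zero] at h2
      exact h2 (zero_pow h0)
    have h6 : Fin.last l = σ⁻¹ (Fin.last l) := hm.inv _ _ h5
    have h6' : σ (Fin.last l) = Fin.last l := by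
      conv_lhs => rw [h6]
      exact σ.apply_symm_apply _
    have h7 : σ e = Fin.last l ↔ e = Fin.last l := by
      constructor
      · intro h7; exact σ.injective (h7.trans h6'.symm)
      · rintro rfl; exact h6'
    simp only [Fin.ext_iff, v4] at h7
    omega

omit hl ho hz in
theorem hs_inv (i : Fin l) (s : Eˣ) : (hs i s)⁻¹ = hs i s⁻¹ := by
  have h2 := hs_mul i (1 : Eˣ) 1
  rw [mul_one] at h2
  have h3 : hs i (1 : Eˣ) = 1 := (mul_eq_left (a := hs i (1 : Eˣ))).1 h2.symm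
  rw [inv_eq_iff_mul_eq_one, ← hs_mul, mul_inv_cancel, h3]

omit hl ho hz in
theorem hs_ne (i : Fin l) (s : Eˣ) {x y : Fin (l + 1)} (hxy : x ≠ y) : (hs i s).1 x y = 0 := by
  unfold hs
  rw [SpecialLinearGroup.diag2n_coe, Matrix.diagonal_apply_ne _ hxy]

/-- the values on the torus -/
theorem xf_hs (i : Fin l) (s : Eˣ) : xf ι o z a b c d (hs i s) = ι s ^ ((if i.val = 0 then a else 0) +
    (if i.val = 1 then b else 0) + (if i.val + 2 = l then c else 0) + (if i.val + 1 = l then d else 0)) := by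
  have hi := i.2
  have v1 : i.castSucc.val = i.val := rfl
  have v2 : i.succ.val = i.val + 1 := rfl
  have v3 : (0 : Fin (l + 1)).val = 0 := rfl
  have v4 : (Fin.last l).val = l := rfl
  have k1 : ι ((hs i s).1 0 0) ^ a = ι s ^ (if i.val = 0 then a else 0) := by
    rw [hs_apply]
    by_cases h : i.val = 0
    · rw [if_pos (Fin.ext h.symm), if_pos h]
    · rw [if_neg (fun e => h (by have := congrArg Fin.val e; omega)), if_neg (Fin.succ_ne_zero i).symm, if_neg h,
        map_one, one_pow, pow_zero]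
  have k4 : ι (((hs i s)⁻¹).1 (Fin.last l) (Fin.last l)) ^ d = ι s ^ (if i.val + 1 = l then d else 0) := by
    rw [hs_inv, hs_apply, if_neg (fun e => by have := congrArg Fin.val e; omega)]
    by_cases h : i.val + 1 = l
    · rw [if_pos (Fin.ext (by omega)), if_pos h, Units.val_inv_eq_inv_val, inv_inv]
    · rw [if_neg (fun e => h (by have := congrArg Fin.val e; omega)), if_neg h, map_one, one_pow, pow_zero]
  have k2 : ι (mn 0 o (hs i s)) ^ b = ι s ^ (if i.val = 1 then b else 0) := by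
    unfold mn
    rw [hs_ne i s (o_ne hl ho hz), zero_mul, sub_zero, hs_apply, hs_apply]
    by_cases h : i.val = 0
    · rw [if_pos (Fin.ext h.symm), if_neg (fun e => by have := congrArg Fin.val e; omega), if_pos (Fin.ext (by omega)),
        mul_inv_cancel₀ s.ne_zero, if_neg (by omega), map_one, one_pow, pow_zero]
    · rw [if_neg (fun e => h (by have := congrArg Fin.val e; omega)), if_neg (Fin.succ_ne_zero i).symm, one_mul]
      by_cases h' : i.val = 1
      · rw [if_pos (Fin.ext (by omega)), if_pos h']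
      · rw [if_neg (fun e => h' (by have := congrArg Fin.val e; omega)),
          if_neg (fun e => by have := congrArg Fin.val e; omega), if_neg h', map_one, one_pow, pow_zero]
  have k3 : ι (mn z (Fin.last l) (hs i s)⁻¹) ^ c = ι s ^ (if i.val + 2 = l then c else 0) := by
    unfold mn
    rw [hs_inv, hs_ne i s⁻¹ (z_ne hl ho hz), zero_mul, sub_zero, hs_apply, hs_apply]
    by_cases h : i.val + 1 = l
    · rw [if_pos (Fin.ext (by omega)), if_neg (fun e => by have := congrArg Fin.val e; omega),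
        if_pos (Fin.ext (by omega)), mul_inv_cancel₀ (Units.ne_zero _), if_neg (by omega), map_one, one_pow, pow_zero]
    · rw [if_neg (fun e => h (by have := congrArg Fin.val e; omega)),
        if_neg (fun e => by have := congrArg Fin.val e; omega : ¬ Fin.last l = i.castSucc),
        if_neg (fun e => h (by have := congrArg Fin.val e; omega) : ¬ Fin.last l = i.succ), mul_one]
      by_cases h' : i.val + 2 = l
      · rw [if_pos (Fin.ext (by omega)), if_pos h', Units.val_inv_eq_inv_val, inv_inv]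
      · rw [if_neg (fun e => h' (by have := congrArg Fin.val e; omega)), if_neg h', map_one, one_pow, pow_zero]
  unfold xf xi
  rw [k1, k2, k3, k4, pow_add, pow_add, pow_add]
  ring

end minor

end Cfsg.Agent.H887.DS
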