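import Cfsg.Agent.H887.DS.Cert

/-!
# `SL(3, E)`, exponents `p ^ i` and `p ^ j + p ^ l` (helper887)

* `le_mono` : the dimension is at least 13.
-/

set_option autoImplicit false
set_option linter.unusedSectionVars false

namespace Cfsg.Agent.H887.DS

open Matrix Module

section pow

variable {E k : Type*} [Field E] [Finite E] [Field k] (ι : E →+* k)

theorem pow2 {P : ℕ} (hP0 : P ≠ 0) (hP : P < Nat.card E) {c0 c1 : k} (h : ∀ y : E, c0 + c1 * ι y ^ P = 0) :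
    c0 = 0 ∧ c1 = 0 := by
  have h1 := pow_indep ι (M := Fin 2) ![0, P] (by
    intro a b hab
    fin_cases a <;> fin_cases b <;> simp_all) (by
    intro a
    fin_cases a
    · exact Nat.card_pos
    · exact hP) ![c0, c1] (by
    intro y
    rw [Fin.sum_univ_two]
    simpa using h y)
  exact ⟨congrFun h1 0, congrFun h1 1⟩

theorem pow3 {P Q : ℕ} (hP0 : P ≠ 0) (hP : P < Nat.card E) (hQ0 : Q ≠ 0) (hQ : Q < Nat.card E) (hPQ : P ≠ Q)
    {c0 c1 c2 : k} (h : ∀ y : E, c0 + c1 * ι y ^ P + c2 * ι y ^ Q = 0) : c0 = 0 ∧ c1 = 0 ∧ c2 = 0 := by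
  have h1 := pow_indep ι (M := Fin 3) ![0, P, Q] (by
    intro a b hab
    fin_cases a <;> fin_cases b <;> simp_all) (by
    intro a
    fin_cases a
    · exact Nat.card_pos
    · exact hP
    · exact hQ) ![c0, c1, c2] (by
    intro y
    rw [Fin.sum_univ_three]
    simpa using h y)
  exact ⟨congrFun h1 0, congrFun h1 1, congrFun h1 2⟩

theorem pow4 {P Q : ℕ} (hP0 : P ≠ 0) (hQ0 : Q ≠ 0) (hPQ : P ≠ Q) (hlt : P + Q < Nat.card E)
    {c0 c1 c2 c3 : k} (h : ∀ y : E, c0 + c1 * ι y ^ P + c2 * ι y ^ Q + c3 * ι y ^ (P + Q) = 0) :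
    c0 = 0 ∧ c1 = 0 ∧ c2 = 0 ∧ c3 = 0 := by
  have h1 := pow_indep ι (M := Fin 4) ![0, P, Q, P + Q] (by
    intro a b hab
    have e0 : (![0, P, Q, P + Q] : Fin 4 → ℕ) 0 = 0 := rfl
    have e1 : (![0, P, Q, P + Q] : Fin 4 → ℕ) 1 = P := rfl
    have e2 : (![0, P, Q, P + Q] : Fin 4 → ℕ) 2 = Q := rfl
    have e3 : (![0, P, Q, P + Q] : Fin 4 → ℕ) 3 = P + Q := rfl
    generalize (![0, P, Q, P + Q] : Fin 4 → ℕ) = F at *
    fin_cases a <;> fin_cases b <;> first | rfl | (exfalso; simp only [Fin.zero_eta, Fin.mk_one, Fin.reduceFinMk, e0, e1, e2, e3] at hab; omega)) (by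
    intro a
    fin_cases a
    · exact Nat.card_pos
    · exact (by omega : P < Nat.card E)
    · exact (by omega : Q < Nat.card E)
    · exact hlt) ![c0, c1, c2, c3] (by
    intro y
    rw [Fin.sum_univ_four]
    simpa using h y)
  exact ⟨congrFun h1 0, congrFun h1 1, congrFun h1 2, congrFun h1 3⟩

end pow

section num

variable {E k : Type*} [Field E] [Finite E] [Field k] (ι : E →+* k) (p : ℕ) [hp : Fact p.Prime] [CharP E p]
include p hp

omit [Field k] in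
theorem mul_le_of_lt {i : ℕ} (h : p ^ i < Nat.card E) : p ^ i * p ≤ Nat.card E := by
  have := Fintype.ofFinite E
  obtain ⟨n, -, hn⟩ := FiniteField.card E p
  rw [Nat.card_eq_fintype_card, hn] at h ⊢
  rw [← pow_succ]
  exact Nat.pow_le_pow_right hp.out.pos ((Nat.pow_lt_pow_iff_right hp.out.one_lt).1 h)

omit [Field k] in
theorem add_lt_of_ne {i j : ℕ} (hij : p ^ i ≠ p ^ j) (hi : p ^ i < Nat.card E) (hj : p ^ j < Nat.card E) :
    p ^ i + p ^ j < Nat.card E := by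
  have h1 := mul_le_of_lt p hi
  have h2 := mul_le_of_lt p hj
  have h3 := hp.out.two_le
  have h4 : p ^ i * 2 ≤ p ^ i * p := Nat.mul_le_mul_left _ h3
  have h5 : p ^ j * 2 ≤ p ^ j * p := Nat.mul_le_mul_left _ h3
  omega

/-- the third exponent -/
theorem exists_third {i j : ℕ} (hi : p ^ i < Nat.card E) (hj : p ^ j < Nat.card E) (h4 : 2 < Nat.card E) :
    ∃ R, R ≠ 0 ∧ R < Nat.card E ∧ p ^ i ≠ R ∧ ∀ y : E, ι y ^ (p ^ i + p ^ j) = ι y ^ R := by
  have h1 := mul_le_of_lt p hi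
  have h2 := mul_le_of_lt p hj
  have h3 := hp.out.two_le
  have h5 : p ^ i * 2 ≤ p ^ i * p := Nat.mul_le_mul_left _ h3
  have h6 : p ^ j * 2 ≤ p ^ j * p := Nat.mul_le_mul_left _ h3
  have h7 : 0 < p ^ i := pow_pos hp.out.pos i
  have h8 : 0 < p ^ j := pow_pos hp.out.pos j
  by_cases h : p ^ i + p ^ j < Nat.card E
  · exact ⟨p ^ i + p ^ j, by omega, h, by omega, fun _ => rfl⟩
  · refine ⟨1, one_ne_zero, by omega, by omega, fun y => ?_⟩
    have e : p ^ i + p ^ j = Nat.card E := by omega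
    have := Fintype.ofFinite E
    rw [e, ← map_pow, Nat.card_eq_fintype_card, FiniteField.pow_card, pow_one]

end num

section main

variable {E k : Type*} [Field E] [Finite E] [Field k] (ι : E →+* k) (p : ℕ) [hp : Fact p.Prime] [CharP E p] [CharP k p]
  {d : ℕ}
include p hp

theorem le_mono_aux {i j l : ℕ} (hil : p ^ i ≠ p ^ l) (hjl : p ^ j ≠ p ^ l) (hi : p ^ i < Nat.card E)
    (hj : p ^ j < Nat.card E) (hl : p ^ l < Nat.card E)
    (h : Rk (xi ι (p ^ i) (p ^ j + p ^ l) : SpecialLinearGroup (Fin (2 + 1)) E → k) d) : 13 ≤ d := by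
  have hjl' := add_lt_of_ne (E := E) p hjl hj hl
  have hil' := add_lt_of_ne (E := E) p hil hi hl
  have pi0 : p ^ i ≠ 0 := (pow_pos hp.out.pos i).ne'
  have pj0 : p ^ j ≠ 0 := (pow_pos hp.out.pos j).ne'
  have pl0 : p ^ l ≠ 0 := (pow_pos hp.out.pos l).ne'
  obtain ⟨R, hR0, hR, hPR, hyR⟩ := exists_third ι p hi hj (by omega)
  have hh := h.mono (S := E × E) (T := E × E × E) (M := Fin 2 × Fin 3 × Fin 3) (fun s => up ![s.1, 0, s.2])
    (fun t => lo ![t.1, t.1 * t.2.1 - t.2.2, t.2.1]) (c := fun _ => 1)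
    (F := fun α s => ![1, ι s.1 ^ p ^ i] α.1 * ![1, ι s.2 ^ p ^ j, ι s.1 ^ p ^ j * ι s.2 ^ p ^ j] α.2.1 *
      ![1, ι s.2 ^ p ^ l, ι s.1 ^ p ^ l * ι s.2 ^ p ^ l] α.2.2)
    (Gf := fun α t => ![1, ι t.1 ^ p ^ i] α.1 * ![1, ι t.2.1 ^ p ^ j, ι t.2.2 ^ p ^ j] α.2.1 *
      ![1, ι t.2.1 ^ p ^ l, ι t.2.2 ^ p ^ l] α.2.2) ?_ (fun _ => one_ne_zero)
    {(0, 2, 0), (0, 2, 1), (1, 2, 1), (0, 2, 2), (1, 2, 2)} ∅ ?_ ?_
  · rw [Fintype.card_prod, Fintype.card_prod, Fintype.card_fin, Fintype.card_fin, Finset.card_empty] at hh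
    have h2 : ({(0, 2, 0), (0, 2, 1), (1, 2, 1), (0, 2, 2), (1, 2, 2)} : Finset (Fin 2 × Fin 3 × Fin 3)).card = 5 := by
      decide
    omega
  · rintro ⟨s0, s2⟩ ⟨t0, t2, u⟩
    rw [xi_up_lo, pow_add]
    simp only [Fintype.sum_prod_type, Fin.sum_univ_two, Fin.sum_univ_three]
    simp only [Matrix.cons_val_zero, Matrix.cons_val_one, Matrix.cons_val]
    have e1 : (1 : E) + s0 * t0 + 0 * (t0 * t2 - u) = 1 + s0 * t0 := by ring
    have e2 : (1 : E) + s2 * t2 + (s0 * s2 - 0) * (t0 * t2 - (t0 * t2 - u)) = 1 + s2 * t2 + s0 * s2 * u := by ring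
    rw [e1, e2]
    simp only [map_add, map_mul, map_one, add_pow_char_pow, mul_pow, one_pow]
    ring
  · intro x hx hr
    have r1 : x (0, 2, 0) = 0 := hr _ (by decide)
    have r2 : x (0, 2, 1) = 0 := hr _ (by decide)
    have r3 : x (1, 2, 1) = 0 := hr _ (by decide)
    have r4 : x (0, 2, 2) = 0 := hr _ (by decide)
    have r5 : x (1, 2, 2) = 0 := hr _ (by decide)
    have key : ∀ s0 : E, (x (0, 0, 0) + x (1, 0, 0) * ι s0 ^ p ^ i = 0) ∧
        (x (0, 1, 0) + x (1, 1, 0) * ι s0 ^ p ^ i + x (1, 2, 0) * ι s0 ^ R = 0) ∧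
        (x (0, 0, 1) + x (1, 0, 1) * ι s0 ^ p ^ i + x (0, 0, 2) * ι s0 ^ p ^ l +
          x (1, 0, 2) * ι s0 ^ (p ^ i + p ^ l) = 0) ∧
        (x (0, 1, 1) + x (1, 1, 1) * ι s0 ^ p ^ i + x (0, 1, 2) * ι s0 ^ p ^ l +
          x (1, 1, 2) * ι s0 ^ (p ^ i + p ^ l) = 0) := by
      intro s0
      refine pow4 ι pj0 pl0 hjl hjl' fun s2 => ?_
      have h1 := hx (s0, s2)
      simp only [Fintype.sum_prod_type, Fin.sum_univ_two, Fin.sum_univ_three] at h1
      simp only [Matrix.cons_val_zero, Matrix.cons_val_one, Matrix.cons_val, r1, r2, r3, r4, r5] at h1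
      rw [← hyR, ← h1, pow_add (ι s0), pow_add (ι s0), pow_add (ι s2)]
      ring
    obtain ⟨a1, a2⟩ := pow2 ι pi0 hi fun y => (key y).1
    obtain ⟨b1, b2, b3⟩ := pow3 ι pi0 hi hR0 hR hPR fun y => (key y).2.1
    obtain ⟨c1, c2, c3, c4⟩ := pow4 ι pi0 pl0 hil hil' fun y => (key y).2.2.1
    obtain ⟨d1, d2, d3, d4⟩ := pow4 ι pi0 pl0 hil hil' fun y => (key y).2.2.2
    funext α
    obtain ⟨a, b, c⟩ := α
    fin_cases a <;> fin_cases b <;> fin_cases c <;> assumption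
  · intro x hx _
    have key : ∀ (t2 u : E), (∑ b : Fin 3, ∑ c : Fin 3, x (0, b, c) * (![1, ι t2 ^ p ^ j, ι u ^ p ^ j] b *
        ![1, ι t2 ^ p ^ l, ι u ^ p ^ l] c) = 0) ∧ (∑ b : Fin 3, ∑ c : Fin 3, x (1, b, c) *
        (![1, ι t2 ^ p ^ j, ι u ^ p ^ j] b * ![1, ι t2 ^ p ^ l, ι u ^ p ^ l] c) = 0) := by
      intro t2 u
      refine pow2 ι pi0 hi fun t0 => ?_
      have h1 := hx (t0, t2, u)
      simp only [Fintype.sum_prod_type, Fin.sum_univ_two] at h1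
      rw [← h1, Finset.sum_mul, ← Finset.sum_add_distrib, ← Finset.sum_add_distrib]
      refine Finset.sum_congr rfl fun b _ => ?_
      rw [Finset.sum_mul, ← Finset.sum_add_distrib, ← Finset.sum_add_distrib]
      refine Finset.sum_congr rfl fun c _ => ?_
      simp only [Matrix.cons_val_zero, Matrix.cons_val_one]
      ring
    have fin : ∀ z : Fin 3 → Fin 3 → k, (∀ t2 u : E, ∑ b : Fin 3, ∑ c : Fin 3, z b c * (![1, ι t2 ^ p ^ j, ι u ^ p ^ j] b *
        ![1, ι t2 ^ p ^ l, ι u ^ p ^ l] c) = 0) → ∀ b c, z b c = 0 := by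
      intro z hz
      have k1 : ∀ t2 : E, (z 0 0 + z 1 0 * ι t2 ^ p ^ j + z 0 1 * ι t2 ^ p ^ l + z 1 1 * ι t2 ^ (p ^ j + p ^ l) = 0) ∧
          (z 2 0 + z 2 1 * ι t2 ^ p ^ l = 0) ∧ (z 0 2 + z 1 2 * ι t2 ^ p ^ j = 0) ∧ z 2 2 = 0 := by
        intro t2
        refine pow4 ι pj0 pl0 hjl hjl' fun u => ?_
        have h1 := hz t2 u
        simp only [Fin.sum_univ_three] at h1
        simp only [Matrix.cons_val_zero, Matrix.cons_val_one, Matrix.cons_val] at h1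
        rw [← h1, pow_add (ι t2), pow_add (ι u)]
        ring
      obtain ⟨a1, a2, a3, a4⟩ := pow4 ι pj0 pl0 hjl hjl' fun y => (k1 y).1
      obtain ⟨b1, b2⟩ := pow2 ι pl0 hl fun y => (k1 y).2.1
      obtain ⟨c1, c2⟩ := pow2 ι pj0 hj fun y => (k1 y).2.2.1
      have d1 := (k1 0).2.2.2
      intro b c
      fin_cases b <;> fin_cases c <;> assumption
    have f0 := fin (fun b c => x (0, b, c)) fun t2 u => (key t2 u).1
    have f1 := fin (fun b c => x (1, b, c)) fun t2 u => (key t2 u).2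
    funext α
    obtain ⟨a, b, c⟩ := α
    fin_cases a
    · exact f0 b c
    · exact f1 b c

/-- **`p ^ i`, `p ^ j + p ^ l`.** -/
theorem le_mono {i j l : ℕ} (hjl : p ^ j ≠ p ^ l) (hi : p ^ i < Nat.card E)
    (hj : p ^ j < Nat.card E) (hl : p ^ l < Nat.card E)
    (h : Rk (xi ι (p ^ i) (p ^ j + p ^ l) : SpecialLinearGroup (Fin (2 + 1)) E → k) d) : 13 ≤ d := by
  by_cases hil : p ^ i = p ^ l
  · refine le_mono_aux ι p (i := i) (j := l) (l := j) (fun e => hjl (e.symm.trans hil)) hjl.symm hi hl hj ?_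
    rwa [add_comm (p ^ l)]
  · exact le_mono_aux ι p hil hjl hi hj hl h

end main

end Cfsg.Agent.H887.DS
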