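import Cfsg.Agent.H887.DS.Lin
import Cfsg.Agent.H887.DS.Mono

/-!
# Modules with the kernel `(∑ x_j y_j) ^ c` (helper887)

* `one_mul_pow` : `c = r p ^ k < q`, `r < p`: `dim V = C(m + r - 1, r)`;
* `one_add_pow` : `c = p ^ i + p ^ j < q`, `i < j`: `dim V = m ^ 2`.
-/

set_option autoImplicit false

namespace Cfsg.Agent.H887.DS

open Module Finset

theorem card_piAntidiag_univ (m r : ℕ) : (piAntidiag (univ : Finset (Fin m)) r).card = (m + r - 1).choose r := by
  rw [← map_sym_eq_piAntidiag, card_map, sym_univ, card_univ, Sym.card_sym_eq_choose, Fintype.card_fin]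

section

variable {G k V : Type*} [Group G] [Finite G] [Field k] [AddCommGroup V] [Module k V] [FiniteDimensional k V]
  {ρ : G →* Module.End k V} (hirr : ∀ L : Submodule k V, (∀ g, ∀ w ∈ L, ρ g w ∈ L) → L = ⊥ ∨ L = ⊤)
  {φ : Module.Dual k V} {v : V} {E : Type*} [Field E] [Finite E] (ι : E →+* k) {p : ℕ} [hp : Fact p.Prime] [CharP k p]
  {m : ℕ} {X Y : G → Fin m → E} (hX : ∀ x, x ≠ 0 → ∃ g, X g = x) (hY : ∀ x, x ≠ 0 → ∃ g, Y g = x)
include hirr hX hY

theorem one_mul_pow (hφ : φ ≠ 0) (hv : v ≠ 0) {c r i : ℕ} (hc : c = r * p ^ i) (hr : 1 ≤ r) (hrp : r < p)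
    (hcq : c < Nat.card E) (hf : ∀ h g, φ (ρ (h * g) v) = ι (∑ j, X h j * Y g j) ^ c) :
    finrank k V = (m + r - 1).choose r := by
  classical
  have hp0 : 0 < p ^ i := pow_pos hp.out.pos i
  have hlt : ∀ (κ : piAntidiag (univ : Finset (Fin m)) r) j, p ^ i * κ.1 j < Nat.card E := by
    intro κ j
    have h1 := (mem_piAntidiag.1 κ.2).1
    have h2 : κ.1 j ≤ ∑ j, κ.1 j := single_le_sum (f := κ.1) (fun _ _ => Nat.zero_le _) (mem_univ j)
    calc p ^ i * κ.1 j ≤ p ^ i * r := Nat.mul_le_mul_left _ (h2.trans h1.le)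
      _ = c := by rw [hc, mul_comm]
      _ < _ := hcq
  have hpos : ∀ κ : piAntidiag (univ : Finset (Fin m)) r, ∃ j, p ^ i * κ.1 j ≠ 0 := by
    intro κ
    by_contra hcon
    push Not at hcon
    have h1 := (mem_piAntidiag.1 κ.2).1
    rw [sum_eq_zero fun j _ => (Nat.mul_eq_zero.1 (hcon j)).resolve_left hp0.ne'] at h1
    omega
  have hinj : Function.Injective fun (κ : piAntidiag (univ : Finset (Fin m)) r) j => p ^ i * κ.1 j := by
    intro κ κ' h1
    apply Subtype.ext
    funext j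
    exact Nat.eq_of_mul_eq_mul_left hp0 (congrFun h1 j)
  have h1 := finrank_eq_card hirr (M := piAntidiag (univ : Finset (Fin m)) r)
    (c := fun κ => (Nat.multinomial univ κ.1 : k)) (F := fun κ h => ∏ j, ι (X h j) ^ (p ^ i * κ.1 j))
    (Gf := fun κ g => ∏ j, ι (Y g j) ^ (p ^ i * κ.1 j)) hφ hv ?_ ?_ ?_ ?_
  · rw [h1, Fintype.card_coe, card_piAntidiag_univ]
  · intro h g
    rw [hf, hc, mul_comm r, pow_mul, map_sum, sum_pow_char_pow, sum_pow_eq_sum_piAntidiag,
      ← sum_coe_sort (piAntidiag (univ : Finset (Fin m)) r)]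
    refine sum_congr rfl fun κ _ => ?_
    rw [mul_assoc, ← prod_mul_distrib]
    congr 1
    refine prod_congr rfl fun j _ => ?_
    rw [map_mul, mul_pow, mul_pow, ← pow_mul, ← pow_mul]
  · intro κ
    rw [Ne, CharP.cast_eq_zero_iff k p]
    intro h2
    have h3 := Nat.multinomial_spec (univ : Finset (Fin m)) κ.1
    rw [(mem_piAntidiag.1 κ.2).1] at h3
    have h4 : p ∣ r.factorial := by
      rw [← h3]
      exact h2.mul_left _
    exact absurd ((hp.out.dvd_factorial).1 h4) (by omega)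
  · intro x hx
    refine mono_indep ι _ hinj hlt hpos x ?_
    intro y hy
    obtain ⟨g, rfl⟩ := hX y hy
    exact hx g
  · intro x hx
    refine mono_indep ι _ hinj hlt hpos x ?_
    intro y hy
    obtain ⟨g, rfl⟩ := hY y hy
    exact hx g

theorem one_add_pow (hφ : φ ≠ 0) (hv : v ≠ 0) {c i i' : ℕ} (hc : c = p ^ i + p ^ i') (hii : p ^ i ≠ p ^ i')
    (hcq : c < Nat.card E) (hf : ∀ h g, φ (ρ (h * g) v) = ι (∑ j, X h j * Y g j) ^ c) :
    finrank k V = m * m := by
  classical
  have hp0 : 0 < p ^ i := pow_pos hp.out.pos i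
  have hp1 : 0 < p ^ i' := pow_pos hp.out.pos i'
  set e : Fin m × Fin m → Fin m → ℕ := fun s j => (if j = s.1 then p ^ i else 0) + (if j = s.2 then p ^ i' else 0)
    with he
  have hlt : ∀ κ j, e κ j < Nat.card E := by
    intro κ j
    rw [he]
    simp only
    split_ifs <;> omega
  have hpos : ∀ κ, ∃ j, e κ j ≠ 0 := by
    intro κ
    refine ⟨κ.1, ?_⟩
    rw [he]
    simp only [if_true]
    omega
  have hinj : Function.Injective e := by
    rintro ⟨s, t⟩ ⟨s', t'⟩ h1
    have h2 := congrFun h1 s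
    have h3 := congrFun h1 t
    simp only [he, if_true] at h2 h3
    have h4 : s = s' := by
      by_contra hne
      rw [if_neg hne] at h2
      split_ifs at h2 <;> omega
    have h5 : t = t' := by
      by_contra hne
      rw [if_neg (c := t = t') hne] at h3
      split_ifs at h3 <;> omega
    rw [h4, h5]
  have hprod : ∀ (x : Fin m → E) (s : Fin m × Fin m), ∏ j, ι (x j) ^ e s j = ι (x s.1) ^ p ^ i * ι (x s.2) ^ p ^ i' := by
    intro x s
    have h1 : ∀ j, ι (x j) ^ e s j = (if j = s.1 then ι (x j) ^ p ^ i else 1) * (if j = s.2 then ι (x j) ^ p ^ i' else 1) := by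
      intro j
      rw [he]
      simp only
      rw [pow_add, pow_ite, pow_ite, pow_zero]
    simp only [h1]
    rw [prod_mul_distrib, prod_ite_eq' univ s.1 (fun j => ι (x j) ^ p ^ i), prod_ite_eq' univ s.2 (fun j => ι (x j) ^ p ^ i'),
      if_pos (mem_univ _), if_pos (mem_univ _)]
  have h1 := finrank_eq_card hirr (M := Fin m × Fin m)
    (c := fun _ => (1 : k)) (F := fun κ h => ∏ j, ι (X h j) ^ e κ j)
    (Gf := fun κ g => ∏ j, ι (Y g j) ^ e κ j) hφ hv ?_ ?_ ?_ ?_
  · rw [h1, Fintype.card_prod, Fintype.card_fin]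
  · intro h g
    rw [hf, hc, pow_add, map_sum, sum_pow_char_pow, sum_pow_char_pow, sum_mul_sum, ← univ_product_univ, sum_product]
    refine sum_congr rfl fun s _ => sum_congr rfl fun t _ => ?_
    rw [hprod, hprod, map_mul, map_mul, mul_pow, mul_pow]
    ring
  · intro κ; exact one_ne_zero
  · intro x hx
    refine mono_indep ι _ hinj hlt hpos x ?_
    intro y hy
    obtain ⟨g, rfl⟩ := hX y hy
    exact hx g
  · intro x hx
    refine mono_indep ι _ hinj hlt hpos x ?_
    intro y hy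
    obtain ⟨g, rfl⟩ := hY y hy
    exact hx g

end

end Cfsg.Agent.H887.DS
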