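import Cfsg.Agent.H905.MdF

/-!
# Lower bounds, two nodes outside `J` (helper887)

* `dim_ge_two` : `i < j` outside `J`: number of flags `S ⊂ S'`, `|S| = i + 1`, `|S'| = j + 1`, plus
  `C(l + 1, 2) (dim Io i + dim Io j)`.
-/

set_option autoImplicit false
set_option linter.unusedSectionVars false
set_option linter.style.haveILetI false

namespace Cfsg.Agent.H887.DS

open CoxeterSystem Cfsg.Agent.ChevalleyStructure.CoxeterGeom Cfsg.Agent.Tits.Roots Cfsg.Agent.Tits.Core
  Cfsg.Agent.Tits.Exchange Cfsg.Agent.Nodes.Reps Cfsg.Agent.Nodes.BNOf Cfsg.Agent.Nodes.StabComb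
  Cfsg.Agent.Nodes.Bruhat Cfsg.Agent.Nodes.OppDec Cfsg.Agent.Nodes.LeviDec Cfsg.Agent.KFacts.RgdOpp
  Cfsg.Agent.Omega.CR Cfsg.Agent.Omega.FOne.Lift.Sd Cfsg.Agent.Nodes.RootsA
open Cfsg.Agent.LieRecognition.BNCox (cA cA_apply)
open Cfsg.Agent.H905.Md

/-- the flags -/
abbrev Flg (l i j : ℕ) : Type :=
  {q : Finset (Fin (l + 1)) × Finset (Fin (l + 1)) // q.1 ⊆ q.2 ∧ q.1.card = i + 1 ∧ q.2.card = j + 1}

theorem exists_perm_flag {l i j : ℕ} (hij : i < j) (hj : j < l) (S S' : Finset (Fin (l + 1))) (hS : S ⊆ S')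
    (h1 : S.card = i + 1) (h2 : S'.card = j + 1) :
    ∃ σ : Equiv.Perm (Fin (l + 1)), (∀ a, (σ⁻¹ a).val ≤ i ↔ a ∈ S) ∧ ∀ a, (σ⁻¹ a).val ≤ j ↔ a ∈ S' := by
  classical
  let f : Fin (l + 1) → Fin 3 := fun a => if a.val ≤ i then 0 else if a.val ≤ j then 1 else 2
  let g : Fin (l + 1) → Fin 3 := fun a => if a ∈ S then 0 else if a ∈ S' then 1 else 2
  have f0 : ∀ a, f a = 0 ↔ a.val ≤ i := by
    intro a
    simp only [f]
    split_ifs <;> simp_all
  have f1 : ∀ a, f a = 1 ↔ (¬ a.val ≤ i) ∧ a.val ≤ j := by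
    intro a
    simp only [f]
    split_ifs <;> simp_all
  have f2 : ∀ a, f a = 2 ↔ ¬ a.val ≤ j := by
    intro a
    simp only [f]
    split_ifs <;> simp_all
    omega
  have g0 : ∀ a, g a = 0 ↔ a ∈ S := by
    intro a
    simp only [g]
    split_ifs <;> simp_all
  have g1 : ∀ a, g a = 1 ↔ a ∉ S ∧ a ∈ S' := by
    intro a
    simp only [g]
    split_ifs <;> simp_all
  have g2 : ∀ a, g a = 2 ↔ a ∉ S' := by
    intro a
    simp only [g]
    split_ifs with h1 h2 <;> simp_all
    exact hS h1
  have cIic : ∀ m, m < l + 1 → (Finset.univ.filter fun a : Fin (l + 1) => a.val ≤ m).card = m + 1 := by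
    intro m hm
    have h3 : (Finset.univ.filter fun a : Fin (l + 1) => a.val ≤ m) = Finset.Iic ⟨m, hm⟩ := by
      ext x; simp [Fin.le_def]
    rw [h3, Fin.card_Iic]
  have e : ∀ c, Nonempty ({a // f a = c} ≃ {a // g a = c}) := by
    intro c
    rw [← Fintype.card_eq, Fintype.card_subtype, Fintype.card_subtype]
    fin_cases c
    · have e1 : (Finset.univ.filter fun a => g a = 0) = S := by ext a; simp [g0]
      have e2 : (Finset.univ.filter fun a => f a = 0) = Finset.univ.filter fun a : Fin (l + 1) => a.val ≤ i := by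
        ext a; simp [f0]
      change (Finset.univ.filter fun a => f a = 0).card = (Finset.univ.filter fun a => g a = 0).card
      rw [e1, e2, h1, cIic i (by omega)]
    · have e1 : (Finset.univ.filter fun a => g a = 1) = S' \ S := by ext a; simp [g1, and_comm]
      have e2 : (Finset.univ.filter fun a => f a = 1) = (Finset.univ.filter fun a : Fin (l + 1) => a.val ≤ j) \
          (Finset.univ.filter fun a : Fin (l + 1) => a.val ≤ i) := by
        ext a; simp [f1, and_comm]
      change (Finset.univ.filter fun a => f a = 1).card = (Finset.univ.filter fun a => g a = 1).card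
      rw [e1, e2, Finset.card_sdiff_of_subset hS, Finset.card_sdiff_of_subset, h1, h2, cIic i (by omega), cIic j (by omega)]
      intro a ha
      simp only [Finset.mem_filter, Finset.mem_univ, true_and] at ha ⊢
      omega
    · have e1 : (Finset.univ.filter fun a => g a = 2) = Finset.univ \ S' := by ext a; simp [g2]
      have e2 : (Finset.univ.filter fun a => f a = 2) = Finset.univ \ (Finset.univ.filter fun a : Fin (l + 1) => a.val ≤ j) := by
        ext a; simp [f2]
      change (Finset.univ.filter fun a => f a = 2).card = (Finset.univ.filter fun a => g a = 2).card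
      rw [e1, e2, Finset.card_sdiff_of_subset (Finset.subset_univ _), Finset.card_sdiff_of_subset (Finset.subset_univ _),
        h2, cIic j (by omega)]
  let σ : Fin (l + 1) ≃ Fin (l + 1) := Equiv.ofFiberEquiv fun c => (e c).some
  have hσ : ∀ a, g (σ a) = f a := fun a => Equiv.ofFiberEquiv_map _ a
  have hσ' : ∀ a, g a = f (σ⁻¹ a) := by
    intro a
    rw [← hσ]
    exact congrArg g (σ.apply_symm_apply a).symm
  refine ⟨σ, fun a => ?_, fun a => ?_⟩
  · rw [← f0, ← hσ', g0]
  · have h3 := f2 (σ⁻¹ a)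
    rw [← hσ', g2] at h3
    exact (not_iff_not.1 h3).symm

section

variable {l : ℕ} {W Y : Type*} [Group W] [Group Y] {cs : CoxeterSystem (cA l) W} {A : Fin l → Fin l → ℤ}
  {h : IsCartan (cA l) A} {p : ℕ} {T : Subgroup Y} {n : Fin l → Y} {X : (Fin l → ℤ) → Subgroup Y}
  {k V : Type*} [Field k] [AddCommGroup V] [Module k V]
  (R : RGD cs h p T n X) [Finite Y] [Finite W] [Fact p.Prime] [CharP k p]
  {ρ : Y →* Module.End k V} [FiniteDimensional k V]
  (hirr : ∀ L : Submodule k V, Ivt ρ (GG cs h T X) L → L = ⊥ ∨ L = ⊤)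
include R hirr

theorem dim_ge_two [Nontrivial V] {i j : Fin l} (hij : i.val < j.val)
    (hi : i ∉ Jx cs h X ρ) (hj : j ∉ Jx cs h X ρ) :
    Fintype.card (Flg l i.val j.val) * Module.finrank k (D cs h X ρ) +
      (l + 1).choose 2 * (Module.finrank k (Io cs h T X ρ i) + Module.finrank k (Io cs h T X ρ j)) ≤
      Module.finrank k V := by
  classical
  choose σ hσ1 hσ2 using fun q : Flg l i.val j.val => exists_perm_flag hij j.2 q.1.1 q.1.2 q.2.1 q.2.2.1 q.2.2.2
  have h1 := dim_ge_perm R hirr (α := Flg l i.val j.val) (β := {q : Fin (l + 1) × Fin (l + 1) // q.1 < q.2} × Bool) σ (by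
      intro q q' hqq
      by_cases hS : q.1.1 = q'.1.1
      · have hS' : q.1.2 ≠ q'.1.2 := fun hS' => hqq (Subtype.ext (Prod.ext hS hS'))
        refine ⟨j, hj, ?_⟩
        by_contra hcon
        push Not at hcon
        apply hS'
        refine Finset.eq_of_subset_of_card_le ?_ (by rw [q.2.2.2, q'.2.2.2])
        intro c hc
        exact (hσ2 q' c).1 (hcon c ((hσ2 q c).2 hc))
      · refine ⟨i, hi, ?_⟩
        by_contra hcon
        push Not at hcon
        apply hS
        refine Finset.eq_of_subset_of_card_le ?_ (by rw [q.2.2.1, q'.2.2.1])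
        intro c hc
        exact (hσ1 q' c).1 (hcon c ((hσ1 q c).2 hc)))
    (fun q => q.1.1) (fun q => q.1.2) (fun q => cond q.2 i j)
    (fun q => by
      rcases q with ⟨q, b⟩
      cases b
      · exact hj
      · exact hi) (by
      rintro ⟨q, b⟩ ⟨q', b'⟩ he he'
      have h3 : q = q' := Subtype.ext he'
      subst h3
      have hne : i ≠ j := fun e => by rw [e] at hij; exact lt_irrefl _ hij
      cases b <;> cases b'
      · rfl
      · exact absurd he.symm hne
      · exact absurd he hne
      · rfl)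
  rw [Fintype.sum_prod_type] at h1
  have h2 : ∑ x : {q : Fin (l + 1) × Fin (l + 1) // q.1 < q.2}, ∑ y : Bool,
      Module.finrank k (Io cs h T X ρ (cond (x, y).2 i j)) = (l + 1).choose 2 *
      (Module.finrank k (Io cs h T X ρ i) + Module.finrank k (Io cs h T X ρ j)) := by
    have h3 : ∀ x : {q : Fin (l + 1) × Fin (l + 1) // q.1 < q.2}, ∑ y : Bool,
        Module.finrank k (Io cs h T X ρ (cond (x, y).2 i j)) =
        Module.finrank k (Io cs h T X ρ i) + Module.finrank k (Io cs h T X ρ j) := fun x => Fintype.sum_bool _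
    rw [Finset.sum_congr rfl fun x _ => h3 x, Finset.sum_const, Finset.card_univ, smul_eq_mul, card_pairs]
  rw [h2] at h1
  exact h1

end

theorem card_flg_2_01 : Fintype.card (Flg 2 0 1) = 6 := by decide +kernel
theorem card_flg_3_01 : Fintype.card (Flg 3 0 1) = 12 := by decide +kernel
theorem card_flg_3_02 : Fintype.card (Flg 3 0 2) = 12 := by decide +kernel
theorem card_flg_3_12 : Fintype.card (Flg 3 1 2) = 12 := by decide +kernel
theorem card_flg_4_01 : Fintype.card (Flg 4 0 1) = 20 := by decide +kernel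
theorem card_flg_4_02 : Fintype.card (Flg 4 0 2) = 30 := by decide +kernel
theorem card_flg_4_03 : Fintype.card (Flg 4 0 3) = 20 := by decide +kernel
theorem card_flg_4_12 : Fintype.card (Flg 4 1 2) = 30 := by decide +kernel
theorem card_flg_4_13 : Fintype.card (Flg 4 1 3) = 30 := by decide +kernel
theorem card_flg_4_23 : Fintype.card (Flg 4 2 3) = 20 := by decide +kernel

end Cfsg.Agent.H887.DS
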