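import Cfsg.Agent.H887.DS.Flag

/-!
# Modules with the kernel `(x · y) ^ a (z · w) ^ b` on flags (helper887)

* `two_PQ` : `a = p ^ i ≠ b = p ^ j`: `dim V = 9`;
* `two_P2Q` : `a = p ^ i`, `b = 2 p ^ j`, `p` odd: `15 ≤ dim V`.
-/

set_option autoImplicit false

namespace Cfsg.Agent.H887.DS

open Module Finset

section

variable {G k V : Type*} [Group G] [Finite G] [Field k] [AddCommGroup V] [Module k V] [FiniteDimensional k V]
  {ρ : G →* Module.End k V} (hirr : ∀ L : Submodule k V, (∀ g, ∀ w ∈ L, ρ g w ∈ L) → L = ⊥ ∨ L = ⊤)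
  {φ : Module.Dual k V} {v : V} {E : Type*} [Field E] [Finite E] (ι : E →+* k) {p : ℕ} [hp : Fact p.Prime] [CharP k p]
  {X Z Y W : G → Fin 3 → E}
  (hXZ : ∀ x z : Fin 3 → E, x ≠ 0 → z ≠ 0 → x 0 * z 0 + x 1 * z 1 + x 2 * z 2 = 0 → ∃ g, X g = x ∧ Z g = z)
  (hYW : ∀ x z : Fin 3 → E, x ≠ 0 → z ≠ 0 → x 0 * z 0 + x 1 * z 1 + x 2 * z 2 = 0 → ∃ g, Y g = x ∧ W g = z)
include hXZ hYW

include hirr in
theorem two_PQ (hφ : φ ≠ 0) (hv : v ≠ 0) {a b i j : ℕ} (ha : a = p ^ i) (hb : b = p ^ j) (hij : a ≠ b)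
    (haq : a < Nat.card E) (hbq : b < Nat.card E)
    (hf : ∀ h g, φ (ρ (h * g) v) = ι (∑ j, X h j * Y g j) ^ a * ι (∑ j, Z h j * W g j) ^ b) :
    finrank k V = 9 := by
  subst ha hb
  have h1 := finrank_eq_card hirr (M := Fin 3 × Fin 3)
    (c := fun _ => (1 : k)) (F := fun κ h => ι (X h κ.1) ^ p ^ i * ι (Z h κ.2) ^ p ^ j)
    (Gf := fun κ g => ι (Y g κ.1) ^ p ^ i * ι (W g κ.2) ^ p ^ j) hφ hv ?_ ?_ ?_ ?_
  · rw [h1, Fintype.card_prod, Fintype.card_fin]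
  · intro h g
    rw [hf, map_sum, map_sum, sum_pow_char_pow, sum_pow_char_pow, sum_mul_sum, ← univ_product_univ, sum_product]
    refine sum_congr rfl fun s _ => sum_congr rfl fun t _ => ?_
    rw [map_mul, map_mul, mul_pow, mul_pow]
    ring
  · intro κ; exact one_ne_zero
  · intro x hx
    refine flag_indep ι hij haq hbq x ?_
    intro y z h1 h2 h3
    obtain ⟨g, rfl, rfl⟩ := hXZ y z h1 h2 h3
    exact hx g
  · intro x hx
    refine flag_indep ι hij haq hbq x ?_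
    intro y z h1 h2 h3
    obtain ⟨g, rfl, rfl⟩ := hYW y z h1 h2 h3
    exact hx g

omit [Finite G] [FiniteDimensional k V] [Finite E] hXZ hYW in
/-- the upper bound -/
theorem two_PQ_le (hirr : ∀ L : Submodule k V, (∀ g, ∀ w ∈ L, ρ g w ∈ L) → L = ⊥ ∨ L = ⊤)
    (hφ : φ ≠ 0) (hv : v ≠ 0) {a b i j : ℕ} (ha : a = p ^ i) (hb : b = p ^ j)
    (hf : ∀ h g, φ (ρ (h * g) v) = ι (∑ j, X h j * Y g j) ^ a * ι (∑ j, Z h j * W g j) ^ b) :
    finrank k V ≤ 9 := by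
  subst ha hb
  have h1 := finrank_le hirr (M := Fin 3 × Fin 3)
    (c := fun _ => (1 : k)) (F := fun κ h => ι (X h κ.1) ^ p ^ i * ι (Z h κ.2) ^ p ^ j)
    (Gf := fun κ g => ι (Y g κ.1) ^ p ^ i * ι (W g κ.2) ^ p ^ j) hφ hv ?_
  · rwa [Fintype.card_prod, Fintype.card_fin] at h1
  · intro h g
    rw [hf, map_sum, map_sum, sum_pow_char_pow, sum_pow_char_pow, sum_mul_sum, ← univ_product_univ, sum_product]
    refine sum_congr rfl fun s _ => sum_congr rfl fun t _ => ?_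
    rw [map_mul, map_mul, mul_pow, mul_pow]
    ring

/-- the coefficients -/
def tc (k : Type*) [Field k] : Fin 6 → k := ![1, 1, 1, 2, 2, 2]

theorem two_P2Q (hYW0 : ∀ g, Y g 0 * W g 0 + Y g 1 * W g 1 + Y g 2 * W g 2 = 0) (hp2 : p ≠ 2) {a b i j : ℕ} (ha : a = p ^ i) (hb : b = 2 * p ^ j)
    (haq : a < Nat.card E) (hbq : b < Nat.card E)
    (hf : ∀ h g, φ (ρ (h * g) v) = ι (∑ j, X h j * Y g j) ^ a * ι (∑ j, Z h j * W g j) ^ b) :
    15 ≤ finrank k V := by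
  subst ha hb
  have h20 : (2 : k) ≠ 0 := by
    intro h0
    have h1 : ((2 : ℕ) : k) = 0 := by exact_mod_cast h0
    rw [CharP.cast_eq_zero_iff k p] at h1
    exact hp2 ((Nat.prime_dvd_prime_iff_eq hp.out Nat.prime_two).1 h1)
  have hjq : p ^ j < Nat.card E := by omega
  have hG : ∀ c : Fin 3 × Fin 6 → k,
      (∀ g, ∑ s, c s * (ι (Y g s.1) ^ p ^ i * (ι (W g (tA s.2)) * ι (W g (tB s.2))) ^ p ^ j) = 0) →
      (∀ s, c s = ![![c (0, 0), 0, 0, c (1, 1), c (2, 2), 0], ![0, c (1, 1), 0, c (0, 0), 0, c (2, 2)],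
      ![0, 0, c (2, 2), 0, c (0, 0), c (1, 1)]] s.1 s.2) ∧
      (p ^ i ≠ p ^ j → p ^ i < Nat.card E → p ^ j < Nat.card E → c = 0) := by
    intro c hc
    refine flag_rel ι hp2 c ?_
    intro y z h1 h2 h3
    obtain ⟨g, rfl, rfl⟩ := hYW y z h1 h2 h3
    exact hc g
  have hF : ∀ c : Fin 3 × Fin 6 → k,
      (∀ g, ∑ s, c s * (ι (X g s.1) ^ p ^ i * (ι (Z g (tA s.2)) * ι (Z g (tB s.2))) ^ p ^ j) = 0) →
      (∀ s, c s = ![![c (0, 0), 0, 0, c (1, 1), c (2, 2), 0], ![0, c (1, 1), 0, c (0, 0), 0, c (2, 2)],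
      ![0, 0, c (2, 2), 0, c (0, 0), c (1, 1)]] s.1 s.2) ∧
      (p ^ i ≠ p ^ j → p ^ i < Nat.card E → p ^ j < Nat.card E → c = 0) := by
    intro c hc
    refine flag_rel ι hp2 c ?_
    intro y z h1 h2 h3
    obtain ⟨g, rfl, rfl⟩ := hXZ y z h1 h2 h3
    exact hc g
  have h1 := le_finrank (ρ := ρ) (φ := φ) (v := v) (M := Fin 3 × Fin 6)
    (c := fun s => tc k s.2) (F := fun κ h => ι (X h κ.1) ^ p ^ i * (ι (Z h (tA κ.2)) * ι (Z h (tB κ.2))) ^ p ^ j)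
    (Gf := fun κ g => ι (Y g κ.1) ^ p ^ i * (ι (W g (tA κ.2)) * ι (W g (tB κ.2))) ^ p ^ j) ?_ ?_ ∅
    {(0, 0), (1, 1), (2, 2)} ?_ ?_
  · rw [Fintype.card_prod, Fintype.card_fin, Fintype.card_fin, card_empty, add_zero] at h1
    have h2 : ({(0, 0), (1, 1), (2, 2)} : Finset (Fin 3 × Fin 6)).card = 3 := by decide
    omega
  · intro h g
    rw [hf, map_sum, map_sum, sum_pow_char_pow, pow_mul', sum_pow_char_pow, Fintype.sum_prod_type, sum_mul]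
    refine sum_congr rfl fun s _ => ?_
    rw [Fin.sum_univ_six, Fin.sum_univ_three]
    change _ = (1 : k) * (ι (X h s) ^ p ^ i * (ι (Z h 0) * ι (Z h 0)) ^ p ^ j) * (ι (Y g s) ^ p ^ i * (ι (W g 0) * ι (W g 0)) ^ p ^ j) +
      (1 : k) * (ι (X h s) ^ p ^ i * (ι (Z h 1) * ι (Z h 1)) ^ p ^ j) * (ι (Y g s) ^ p ^ i * (ι (W g 1) * ι (W g 1)) ^ p ^ j) +
      (1 : k) * (ι (X h s) ^ p ^ i * (ι (Z h 2) * ι (Z h 2)) ^ p ^ j) * (ι (Y g s) ^ p ^ i * (ι (W g 2) * ι (W g 2)) ^ p ^ j) +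
      (2 : k) * (ι (X h s) ^ p ^ i * (ι (Z h 0) * ι (Z h 1)) ^ p ^ j) * (ι (Y g s) ^ p ^ i * (ι (W g 0) * ι (W g 1)) ^ p ^ j) +
      (2 : k) * (ι (X h s) ^ p ^ i * (ι (Z h 0) * ι (Z h 2)) ^ p ^ j) * (ι (Y g s) ^ p ^ i * (ι (W g 0) * ι (W g 2)) ^ p ^ j) +
      (2 : k) * (ι (X h s) ^ p ^ i * (ι (Z h 1) * ι (Z h 2)) ^ p ^ j) * (ι (Y g s) ^ p ^ i * (ι (W g 1) * ι (W g 2)) ^ p ^ j)
    simp only [map_mul, mul_pow]
    ring
  · rintro ⟨s, t⟩
    change tc k t ≠ 0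
    fin_cases t
    · exact one_ne_zero
    · exact one_ne_zero
    · exact one_ne_zero
    · exact h20
    · exact h20
    · exact h20
  · intro x hx hu _
    obtain ⟨h2, h3⟩ := hF x hx
    by_cases hij : p ^ i = p ^ j
    swap
    · exact h3 hij haq hjq
    -- the relations of `G`
    have key : ∀ d : Fin 3 × Fin 6 → k, (∀ g, ∑ s, d s * (tc k s.2 * (ι (Y g s.1) ^ p ^ i *
        (ι (W g (tA s.2)) * ι (W g (tB s.2))) ^ p ^ j)) = 0) → ∑ s, d s * x s = 0 := fun d hd => hu d hd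
    have hrel : ∀ g, ι (Y g 0) ^ p ^ i * ι (W g 0) ^ p ^ i + ι (Y g 1) ^ p ^ i * ι (W g 1) ^ p ^ i +
        ι (Y g 2) ^ p ^ i * ι (W g 2) ^ p ^ i = 0 := by
      intro g
      rw [← mul_pow, ← mul_pow, ← mul_pow, ← add_pow_char_pow, ← add_pow_char_pow, ← map_mul, ← map_mul, ← map_mul,
        ← map_add, ← map_add, hYW0, map_zero, zero_pow (pow_pos hp.out.pos i).ne']
    have hhalf : (2 : k)⁻¹ * 2 = 1 := inv_mul_cancel₀ h20
    have k0 := key (fun s => ![![1, 0, 0, 0, 0, 0], ![0, 0, 0, 2⁻¹, 0, 0], ![0, 0, 0, 0, 2⁻¹, 0]] s.1 s.2) (by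
      intro g
      rw [Fintype.sum_prod_type, Fin.sum_univ_three, Fin.sum_univ_six, Fin.sum_univ_six, Fin.sum_univ_six, ← hij]
      simp [tc, tA, tB, mul_pow]
      rw [← mul_assoc (2 : k)⁻¹ 2, ← mul_assoc (2 : k)⁻¹ 2, hhalf]
      linear_combination ι (W g 0) ^ p ^ i * hrel g)
    have k1 := key (fun s => ![![0, 0, 0, 2⁻¹, 0, 0], ![0, 1, 0, 0, 0, 0], ![0, 0, 0, 0, 0, 2⁻¹]] s.1 s.2) (by
      intro g
      rw [Fintype.sum_prod_type, Fin.sum_univ_three, Fin.sum_univ_six, Fin.sum_univ_six, Fin.sum_univ_six, ← hij]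
      simp [tc, tA, tB, mul_pow]
      rw [← mul_assoc (2 : k)⁻¹ 2, ← mul_assoc (2 : k)⁻¹ 2, hhalf]
      linear_combination ι (W g 1) ^ p ^ i * hrel g)
    have k2 := key (fun s => ![![0, 0, 0, 0, 2⁻¹, 0], ![0, 0, 0, 0, 0, 2⁻¹], ![0, 0, 1, 0, 0, 0]] s.1 s.2) (by
      intro g
      rw [Fintype.sum_prod_type, Fin.sum_univ_three, Fin.sum_univ_six, Fin.sum_univ_six, Fin.sum_univ_six, ← hij]
      simp [tc, tA, tB, mul_pow]
      rw [← mul_assoc (2 : k)⁻¹ 2, ← mul_assoc (2 : k)⁻¹ 2, hhalf]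
      linear_combination ι (W g 2) ^ p ^ i * hrel g)
    rw [Fintype.sum_prod_type, Fin.sum_univ_three, Fin.sum_univ_six, Fin.sum_univ_six, Fin.sum_univ_six] at k0 k1 k2
    have e13 : x (1, 3) = x (0, 0) := h2 _
    have e24 : x (2, 4) = x (0, 0) := h2 _
    have e03 : x (0, 3) = x (1, 1) := h2 _
    have e25 : x (2, 5) = x (1, 1) := h2 _
    have e04 : x (0, 4) = x (2, 2) := h2 _
    have e15 : x (1, 5) = x (2, 2) := h2 _
    simp [e13, e24, e03, e25, e04, e15] at k0 k1 k2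
    have l0 : x (0, 0) = 0 := by
      have : (2 : k) * x (0, 0) = 0 := by linear_combination k0 - x (0, 0) * hhalf
      exact (mul_eq_zero.1 this).resolve_left h20
    have l1 : x (1, 1) = 0 := by
      have : (2 : k) * x (1, 1) = 0 := by linear_combination k1 - x (1, 1) * hhalf
      exact (mul_eq_zero.1 this).resolve_left h20
    have l2 : x (2, 2) = 0 := by
      have : (2 : k) * x (2, 2) = 0 := by linear_combination k2 - x (2, 2) * hhalf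
      exact (mul_eq_zero.1 this).resolve_left h20
    funext s
    rw [h2 s, l0, l1, l2]
    rcases s with ⟨s, t⟩
    fin_cases s <;> fin_cases t <;> rfl
  · intro x hx hr
    obtain ⟨h2, -⟩ := hG x hx
    have r0 : x (0, 0) = 0 := hr _ (by decide)
    have r1 : x (1, 1) = 0 := hr _ (by decide)
    have r2 : x (2, 2) = 0 := hr _ (by decide)
    funext s
    rw [h2 s, r0, r1, r2]
    rcases s with ⟨s, t⟩
    fin_cases s <;> fin_cases t <;> rfl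

end

end Cfsg.Agent.H887.DS
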