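import Cfsg.Agent.H887.DS.LeDim
import Cfsg.Agent.H887.DS.One
import Cfsg.Agent.H887.DS.Two
import Cfsg.Agent.H887.DS.Coef
import Cfsg.Agent.H887.DS.Rank
import Cfsg.Agent.H119.SLVec

/-!
# Simple modules of `SL(l + 1, E)` in its own characteristic, end nodes (helper887)

* `exists_coef` : a matrix coefficient `φ (g v) = ι(g 0 0) ^ a ι(g⁻¹ l l) ^ b`;
* `one_node_zero`, `one_node_last` : only one node outside `J`, an end: the dimension for `a = r p ^ i`, `a = p ^ i + p ^ j`.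
-/

set_option autoImplicit false
set_option linter.unusedSectionVars false
set_option linter.style.haveILetI false

namespace Cfsg.Agent.H887.DS

open Matrix CoxeterSystem Cfsg.Agent.ChevalleyStructure.CoxeterGeom Cfsg.Agent.Tits.Roots Cfsg.Agent.Tits.Core
  Cfsg.Agent.Tits.Exchange Cfsg.Agent.Nodes.Reps Cfsg.Agent.Nodes.BNOf Cfsg.Agent.Nodes.StabComb
  Cfsg.Agent.Nodes.Bruhat Cfsg.Agent.Nodes.OppDec Cfsg.Agent.Nodes.LeviDec Cfsg.Agent.KFacts.RgdOpp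
  Cfsg.Agent.Omega.CR Cfsg.Agent.Omega.FOne.Lift.Sd Cfsg.Agent.Nodes.RootsA Cfsg.Agent.Nodes.RGDTypeA
open Cfsg.Agent.LieRecognition.BNCox (cA cA_apply)
open Cfsg.Agent.H905.Md Module

section vec

variable {E : Type*} [Field E] {l : ℕ}

theorem col_surj (hl : 1 ≤ l) (j₀ : Fin (l + 1)) (x : Fin (l + 1) → E) (hx : x ≠ 0) :
    ∃ g : SpecialLinearGroup (Fin (l + 1)) E, (fun j => g.1 j j₀) = x := by
  obtain ⟨g, hg⟩ := H119.SLVec.exists_map_one (F := E) (n := l + 1) (by omega) (a := Pi.single j₀ 1) (a' := x)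
    (by rw [Ne, Pi.single_eq_zero_iff]; exact one_ne_zero) hx
  refine ⟨g, ?_⟩
  rw [← hg, Matrix.mulVec_single_one]
  rfl

theorem row_surj (hl : 1 ≤ l) (j₀ : Fin (l + 1)) (x : Fin (l + 1) → E) (hx : x ≠ 0) :
    ∃ g : SpecialLinearGroup (Fin (l + 1)) E, (fun j => g.1 j₀ j) = x := by
  obtain ⟨g, hg⟩ := col_surj hl j₀ x hx
  exact ⟨g.transpose, hg⟩

theorem col_inv_surj (hl : 1 ≤ l) (j₀ : Fin (l + 1)) (x : Fin (l + 1) → E) (hx : x ≠ 0) :
    ∃ g : SpecialLinearGroup (Fin (l + 1)) E, (fun j => (g⁻¹).1 j j₀) = x := by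
  obtain ⟨g, hg⟩ := col_surj hl j₀ x hx
  exact ⟨g⁻¹, by rw [inv_inv]; exact hg⟩

theorem row_inv_surj (hl : 1 ≤ l) (j₀ : Fin (l + 1)) (x : Fin (l + 1) → E) (hx : x ≠ 0) :
    ∃ g : SpecialLinearGroup (Fin (l + 1)) E, (fun j => (g⁻¹).1 j₀ j) = x := by
  obtain ⟨g, hg⟩ := row_surj hl j₀ x hx
  exact ⟨g⁻¹, by rw [inv_inv]; exact hg⟩

variable {k : Type*} [Field k] (ι : E →+* k)

theorem xi_mul (a b : ℕ) (h g : SpecialLinearGroup (Fin (l + 1)) E) :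
    xi ι a b (h * g) = ι (∑ j, h.1 0 j * g.1 j 0) ^ a *
      ι (∑ j, (h⁻¹).1 j (Fin.last l) * (g⁻¹).1 (Fin.last l) j) ^ b := by
  unfold xi
  congr 3
  rw [_root_.mul_inv_rev]
  change ((g⁻¹).1 * (h⁻¹).1) _ _ = _
  rw [Matrix.mul_apply]
  exact Finset.sum_congr rfl fun j _ => mul_comm _ _

end vec

section

variable {E : Type*} [Field E] [Finite E] {l : ℕ} {W : Type*} [Group W] [Finite W] {cs : CoxeterSystem (cA l) W}
  {A : Fin l → Fin l → ℤ} {h : IsCartan (cA l) A} (p : ℕ) [hp : Fact p.Prime] [hEp : CharP E p]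
  {k V : Type*} [Field k] [IsAlgClosed k] [CharP k p] [AddCommGroup V] [Module k V] [FiniteDimensional k V] [Nontrivial V]
  {ρ : SpecialLinearGroup (Fin (l + 1)) E →* Module.End k V}
  (hirr : ∀ L : Submodule k V, Ivt ρ (GG cs h (T (Fin (l + 1)) E) (X E)) L → L = ⊥ ∨ L = ⊤)
  (ι : E →+* k)
include hirr

omit hp hEp [IsAlgClosed k] [CharP k p] [FiniteDimensional k V] [Nontrivial V] in
theorem irr_all (L : Submodule k V) (hL : ∀ g, ∀ w ∈ L, ρ g w ∈ L) : L = ⊥ ∨ L = ⊤ :=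
  hirr L fun g _ w hw => hL g w hw

include p in
/-- **The matrix coefficient.** -/
theorem exists_coef (hl : 2 ≤ l) (hJ : ∀ i : Fin l, i ∉ Jx cs h (X E) ρ → i.val = 0 ∨ i.val + 1 = l) :
    ∃ v ∈ D cs h (X E) ρ, v ≠ 0 ∧ ∃ φ : Module.Dual k V, φ ≠ 0 ∧ ∃ a b : ℕ, a < Nat.card E ∧ b < Nat.card E ∧
      (∀ i : Fin l, i.val = 0 → (i ∈ Jx cs h (X E) ρ ↔ a = 0)) ∧
      (∀ i : Fin l, i.val + 1 = l → (i ∈ Jx cs h (X E) ρ ↔ b = 0)) ∧
      ∀ g, φ (ρ g v) = xi ι a b g := by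
  have R := rgd cs h (F := E) (p := p)
  obtain ⟨v, hv, hv0, χ, hχ⟩ := exists_chi R hirr slT_comm
  obtain ⟨a, b, ha, hb, h1, h2, h3⟩ := exists_ab (ρ := ρ) ι hl hv0 hv hχ hJ
  obtain ⟨φ, hφ, hφ0⟩ := exists_pair_D R hirr hv hv0
  have h4 : ((φ v)⁻¹ • φ) v = 1 := by rw [LinearMap.smul_apply, smul_eq_mul, inv_mul_cancel₀ hφ0]
  refine ⟨v, hv, hv0, (φ v)⁻¹ • φ, ?_, a, b, ha, hb, h1, h2, ?_⟩
  · intro h5
    rw [h5, LinearMap.zero_apply] at h4
    exact zero_ne_one h4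
  · exact master hirr p hv h3 hJ h1 h2 (Submodule.smul_mem _ _ hφ) h4

/-- the kernel of one node -/
def OneCase (p m a n : ℕ) : Prop :=
  (∃ r i, 1 ≤ r ∧ r < p ∧ a = r * p ^ i ∧ n = (m + r - 1).choose r) ∨ (∃ i j, i < j ∧ a = p ^ i + p ^ j ∧ n = m * m)

include p in
/-- **Only the first node outside `J`.** -/
theorem only_zero (hl : 2 ≤ l) {i₀ : Fin l} (h0 : i₀.val = 0) (hi : i₀ ∉ Jx cs h (X E) ρ)
    (hJ : ∀ j : Fin l, j ∉ Jx cs h (X E) ρ → j = i₀)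
    (hn : finrank k V < (l + 1) + 4 * (l + 1).choose 2) :
    ∃ v ∈ D cs h (X E) ρ, v ≠ 0 ∧ ∃ φ : Module.Dual k V, φ ≠ 0 ∧ ∃ a : ℕ, a < Nat.card E ∧
      (∀ g, φ (ρ g v) = xi ι a 0 g) ∧ OneCase p (l + 1) a (finrank k V) := by
  have R := rgd cs h (F := E) (p := p)
  obtain ⟨v, hv, hv0, φ, hφ0, a, b, ha, hb, h1, h2, h3⟩ := exists_coef p hirr ι hl (fun j hj => by
    rw [hJ j hj]; exact Or.inl h0)
  have hb0 : b = 0 := by
    refine (h2 ⟨l - 1, by omega⟩ (by simp; omega)).1 ?_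
    by_contra hcon
    have h4 := congrArg Fin.val (hJ _ hcon)
    simp at h4
    omega
  subst hb0
  refine ⟨v, hv, hv0, φ, hφ0, a, ha, h3, ?_⟩
  have hD := finrank_D R hirr slT_comm
  have e1 := Ds_le_Le_zero ι hl p hv h3 ha h0
  have e2 := finrank_Io R hirr i₀
  have e3 := dim_ge_A R hirr hi
  rw [hD] at e2 e3
  rw [h0, Nat.choose_one_right, mul_one] at e3
  have e4 : finrank k (Io cs h (T (Fin (l + 1)) E) (X E) ρ i₀) < 4 := by
    by_contra hcon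
    push Not at hcon
    have : 4 * (l + 1).choose 2 ≤ (l + 1).choose 2 * finrank k (Io cs h (T (Fin (l + 1)) E) (X E) ρ i₀) := by
      rw [mul_comm]; exact Nat.mul_le_mul le_rfl hcon
    omega
  have ha1 : 1 ≤ a := by
    have := (h1 i₀ h0).not.1 hi
    omega
  have hf : ∀ x y, φ (ρ (x * y) v) = ι (∑ j, (fun j => x.1 0 j) j * (fun j => y.1 j 0) j) ^ a := by
    intro x y
    rw [h3, xi_mul, pow_zero, mul_one]
  rcases Ds_small hp.out a ha1 (by omega) with ⟨r, i, hr1, hr2, e5, e6⟩ | ⟨i, j, hij, e5, e6⟩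
  · left
    refine ⟨r, i, hr1, hr2, e5, ?_⟩
    exact one_mul_pow (irr_all hirr) ι (X := fun x j => x.1 0 j) (Y := fun y j => y.1 j 0)
      (fun x hx => row_surj (by omega) 0 x hx) (fun x hx => col_surj (by omega) 0 x hx) hφ0 hv0 e5 hr1 hr2 ha hf
  · right
    refine ⟨i, j, hij, e5, ?_⟩
    exact one_add_pow (irr_all hirr) ι (X := fun x j => x.1 0 j) (Y := fun y j => y.1 j 0)
      (fun x hx => row_surj (by omega) 0 x hx) (fun x hx => col_surj (by omega) 0 x hx) hφ0 hv0 e5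
      (fun e => hij.ne (Nat.pow_right_injective hp.out.two_le e)) ha hf

include p in
/-- **Only the last node outside `J`.** -/
theorem only_last (hl : 2 ≤ l) {i₀ : Fin l} (h0 : i₀.val + 1 = l) (hi : i₀ ∉ Jx cs h (X E) ρ)
    (hJ : ∀ j : Fin l, j ∉ Jx cs h (X E) ρ → j = i₀)
    (hn : finrank k V < (l + 1) + 4 * (l + 1).choose 2) :
    ∃ v ∈ D cs h (X E) ρ, v ≠ 0 ∧ ∃ φ : Module.Dual k V, φ ≠ 0 ∧ ∃ a : ℕ, a < Nat.card E ∧
      (∀ g, φ (ρ g v) = xi ι 0 a g) ∧ OneCase p (l + 1) a (finrank k V) := by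
  have R := rgd cs h (F := E) (p := p)
  obtain ⟨v, hv, hv0, φ, hφ0, a, b, ha, hb, h1, h2, h3⟩ := exists_coef p hirr ι hl (fun j hj => by
    rw [hJ j hj]; exact Or.inr h0)
  have ha0 : a = 0 := by
    refine (h1 ⟨0, by omega⟩ rfl).1 ?_
    by_contra hcon
    have h4 := congrArg Fin.val (hJ _ hcon)
    simp at h4
    omega
  subst ha0
  refine ⟨v, hv, hv0, φ, hφ0, b, hb, h3, ?_⟩
  have hD := finrank_D R hirr slT_comm
  have e1 := Ds_le_Le_last ι hl p hv h3 hb h0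
  have e2 := finrank_Io R hirr i₀
  have e3 := dim_ge_A R hirr hi
  rw [hD] at e2 e3
  rw [h0, Nat.choose_succ_self_right, mul_one] at e3
  have e4 : finrank k (Io cs h (T (Fin (l + 1)) E) (X E) ρ i₀) < 4 := by
    by_contra hcon
    push Not at hcon
    have : 4 * (l + 1).choose 2 ≤ (l + 1).choose 2 * finrank k (Io cs h (T (Fin (l + 1)) E) (X E) ρ i₀) := by
      rw [mul_comm]; exact Nat.mul_le_mul le_rfl hcon
    omega
  have hb1 : 1 ≤ b := by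
    have := (h2 i₀ h0).not.1 hi
    omega
  have hf : ∀ x y, φ (ρ (x * y) v) = ι (∑ j, (fun j => (x⁻¹).1 j (Fin.last l)) j * (fun j => (y⁻¹).1 (Fin.last l) j) j) ^ b := by
    intro x y
    rw [h3, xi_mul, pow_zero, one_mul]
  rcases Ds_small hp.out b hb1 (by omega) with ⟨r, i, hr1, hr2, e5, e6⟩ | ⟨i, j, hij, e5, e6⟩
  · left
    refine ⟨r, i, hr1, hr2, e5, ?_⟩
    exact one_mul_pow (irr_all hirr) ι (X := fun x j => (x⁻¹).1 j (Fin.last l)) (Y := fun y j => (y⁻¹).1 (Fin.last l) j)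
      (fun x hx => col_inv_surj (by omega) _ x hx) (fun x hx => row_inv_surj (by omega) _ x hx) hφ0 hv0 e5 hr1 hr2 hb hf
  · right
    refine ⟨i, j, hij, e5, ?_⟩
    exact one_add_pow (irr_all hirr) ι (X := fun x j => (x⁻¹).1 j (Fin.last l)) (Y := fun y j => (y⁻¹).1 (Fin.last l) j)
      (fun x hx => col_inv_surj (by omega) _ x hx) (fun x hx => row_inv_surj (by omega) _ x hx) hφ0 hv0 e5
      (fun e => hij.ne (Nat.pow_right_injective hp.out.two_le e)) hb hf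

end

end Cfsg.Agent.H887.DS
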