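import Cfsg.Agent.H887.DS.Rep

/-!
# Simple modules of `SL(3, E)` in its own characteristic, dimension at most 11 (helper887)

* `sd_of_eq` : `φ (g v) = ι(g 0 0) ^ a ι(g⁻¹ l l) ^ a` implies `tr g⁻¹ = tr g`;
* `sl3_two` : both nodes outside `J`, `dim V ≤ 11`: `a = p ^ i`, `b = p ^ j` and (`i = j` or `dim V = 9`);
* **`sl3`** : the classification.
-/

set_option autoImplicit false
set_option linter.unusedSectionVars false
set_option linter.style.haveILetI false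

namespace Cfsg.Agent.H887.DS

open Matrix CoxeterSystem Cfsg.Agent.ChevalleyStructure.CoxeterGeom Cfsg.Agent.Tits.Roots Cfsg.Agent.Tits.Core
  Cfsg.Agent.Tits.Exchange Cfsg.Agent.Nodes.Reps Cfsg.Agent.Nodes.BNOf Cfsg.Agent.Nodes.StabComb
  Cfsg.Agent.Nodes.Bruhat Cfsg.Agent.Nodes.OppDec Cfsg.Agent.Nodes.LeviDec Cfsg.Agent.KFacts.RgdOpp
  Cfsg.Agent.Omega.CR Cfsg.Agent.Omega.FOne.Lift.Sd Cfsg.Agent.Nodes.RootsA Cfsg.Agent.Nodes.RGDTypeA
open Cfsg.Agent.LieRecognition.BNCox (cA cA_apply)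
open Cfsg.Agent.TitsThree.KSideA (tv tv_of_ne tv_add tv_zero tv_neg tv_comm tv_commute)
open Cfsg.Agent.H905.Md Module

section sd

variable {E : Type*} [Field E] {l : ℕ}

/-- the element exchanging the ends -/
noncomputable def wl (E : Type*) [Field E] (l : ℕ) : SpecialLinearGroup (Fin (l + 1)) E := tv 0 (Fin.last l) 1 * tv (Fin.last l) 0 (-1) * tv 0 (Fin.last l) 1

theorem wl_mul_mul_zero (hl : 1 ≤ l) (g : SpecialLinearGroup (Fin (l + 1)) E) :
    (wl E l * g * (wl E l)⁻¹).1 0 0 = g.1 (Fin.last l) (Fin.last l) := by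
  have hne : (0 : Fin (l + 1)) ≠ Fin.last l := by
    intro e
    have := congrArg Fin.val e
    simp at this
    omega
  unfold wl
  simp only [_root_.mul_inv_rev, ← tv_neg, ← mul_assoc, neg_neg]
  simp only [mul_assoc (tv (0 : Fin (l + 1)) (Fin.last l) (1 : E)), mul_assoc (tv (Fin.last l) (0 : Fin (l + 1)) (-1 : E))]
  simp only [tv_mul_apply hne, tv_mul_apply hne.symm, mul_tv_apply hne, mul_tv_apply hne.symm, if_neg hne,
    if_neg hne.symm, if_true]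
  ring

theorem wl_mul_mul_last (hl : 1 ≤ l) (g : SpecialLinearGroup (Fin (l + 1)) E) :
    (wl E l * g * (wl E l)⁻¹).1 (Fin.last l) (Fin.last l) = g.1 0 0 := by
  have hne : (0 : Fin (l + 1)) ≠ Fin.last l := by
    intro e
    have := congrArg Fin.val e
    simp at this
    omega
  unfold wl
  simp only [_root_.mul_inv_rev, ← tv_neg, ← mul_assoc, neg_neg]
  simp only [mul_assoc (tv (0 : Fin (l + 1)) (Fin.last l) (1 : E)), mul_assoc (tv (Fin.last l) (0 : Fin (l + 1)) (-1 : E))]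
  simp only [tv_mul_apply hne, tv_mul_apply hne.symm, mul_tv_apply hne, mul_tv_apply hne.symm, if_neg hne,
    if_neg hne.symm, if_true]
  ring

variable {k V : Type*} [Field k] [AddCommGroup V] [Module k V] [FiniteDimensional k V]
  {ρ : SpecialLinearGroup (Fin (l + 1)) E →* Module.End k V}
  (hirr : ∀ L : Submodule k V, (∀ g, ∀ w ∈ L, ρ g w ∈ L) → L = ⊥ ∨ L = ⊤) {ι : E →+* k} {a : ℕ} {v : V}
  {φ : Module.Dual k V}
include hirr

/-- **Self-dual.** -/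
theorem sd_of_eq (hl : 1 ≤ l) (hv : v ≠ 0) (hφ : φ ≠ 0) (hf : ∀ g, φ (ρ g v) = xi ι a a g)
    (g : SpecialLinearGroup (Fin (l + 1)) E) : LinearMap.trace k V (ρ g⁻¹) = LinearMap.trace k V (ρ g) := by
  refine dual_of_coef hirr (φ := φ) (v := v) (φ' := φ.comp (ρ (wl E l))) (v' := ρ (wl E l)⁻¹ v) hφ hv ?_ ?_ ?_ g
  · intro h0
    apply hφ
    ext x
    have h1 := congrArg (fun f : Module.Dual k V => f (ρ (wl E l)⁻¹ x)) h0
    change φ (ρ (wl E l) (ρ (wl E l)⁻¹ x)) = 0 at h1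
    rwa [← rho_mul, mul_inv_cancel, map_one] at h1
  · intro h0
    apply hv
    have h1 := congrArg (ρ (wl E l)) h0
    rwa [← rho_mul, mul_inv_cancel, map_one, map_zero] at h1
  · intro g
    change φ (ρ g⁻¹ v) = φ (ρ (wl E l) (ρ g (ρ (wl E l)⁻¹ v)))
    rw [← rho_mul, ← rho_mul, hf, hf]
    unfold xi
    rw [wl_mul_mul_zero hl, inv_inv, _root_.mul_inv_rev, _root_.mul_inv_rev, inv_inv, ← mul_assoc, wl_mul_mul_last hl,
      mul_comm]

end sd

section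

variable {E : Type*} [Field E] [Finite E] {W : Type*} [Group W] [Finite W] {cs : CoxeterSystem (cA 2) W}
  {A : Fin 2 → Fin 2 → ℤ} {h : IsCartan (cA 2) A} (p : ℕ) [hp : Fact p.Prime] [hEp : CharP E p]
  {k V : Type*} [Field k] [IsAlgClosed k] [CharP k p] [AddCommGroup V] [Module k V] [FiniteDimensional k V] [Nontrivial V]
  {ρ : SpecialLinearGroup (Fin (2 + 1)) E →* Module.End k V}
  (hirr : ∀ L : Submodule k V, Ivt ρ (GG cs h (T (Fin (2 + 1)) E) (X E)) L → L = ⊥ ∨ L = ⊤)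
  (ι : E →+* k)
include hirr

include p in
theorem sl3_two (hi : (0 : Fin 2) ∉ Jx cs h (X E) ρ) (hj : (1 : Fin 2) ∉ Jx cs h (X E) ρ)
    (hn : finrank k V < 12) :
    ∃ v ∈ D cs h (X E) ρ, v ≠ 0 ∧ ∃ φ : Module.Dual k V, φ ≠ 0 ∧ ∃ i j : ℕ, p ^ i < Nat.card E ∧ p ^ j < Nat.card E ∧
      (∀ g, φ (ρ g v) = xi ι (p ^ i) (p ^ j) g) ∧ 6 ≤ finrank k V ∧ finrank k V ≤ 9 ∧ (i = j ∨ finrank k V = 9) := by
  have R := rgd cs h (F := E) (p := p)
  obtain ⟨v, hv, hv0, φ, hφ0, a, b, ha, hb, h1, h2, h3⟩ := exists_coef p hirr ι le_rfl (fun j _ => by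
    fin_cases j
    · exact Or.inl rfl
    · exact Or.inr rfl)
  have hD := finrank_D R hirr slT_comm
  have e0 := Ds_le_Le_zero ι le_rfl p hv h3 ha (i := (0 : Fin 2)) rfl
  have e1 := Ds_le_Le_last ι le_rfl p hv h3 hb (i := (1 : Fin 2)) rfl
  have i0 := finrank_Io R hirr (0 : Fin 2)
  have i1 := finrank_Io R hirr (1 : Fin 2)
  have d := dim_ge_two R hirr (i := (0 : Fin 2)) (j := (1 : Fin 2)) Nat.one_pos hi hj
  rw [hD] at i0 i1 d
  rw [show ((0 : Fin 2) : Fin 2).val = 0 from rfl, show ((1 : Fin 2) : Fin 2).val = 1 from rfl, card_flg_2_01,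
    show Nat.choose (2 + 1) 2 = 3 from rfl] at d
  have ha1 : 1 ≤ a := by
    have := (h1 0 rfl).not.1 hi
    omega
  have hb1 : 1 ≤ b := by
    have := (h2 1 rfl).not.1 hj
    omega
  have ca := Ds_small hp.out a ha1 (by omega)
  have cb := Ds_small hp.out b hb1 (by omega)
  have hXZ : ∀ x z : Fin 3 → E, x ≠ 0 → z ≠ 0 → x 0 * z 0 + x 1 * z 1 + x 2 * z 2 = 0 →
      ∃ g : SpecialLinearGroup (Fin (2 + 1)) E, (fun j => g.1 0 j) = x ∧ (fun j => (g⁻¹).1 j (Fin.last 2)) = z := by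
    intro x z hx hz hxz
    obtain ⟨g, g1, g2⟩ := exists_flag hx hz hxz
    exact ⟨g, funext g1, funext g2⟩
  have hYW : ∀ x z : Fin 3 → E, x ≠ 0 → z ≠ 0 → x 0 * z 0 + x 1 * z 1 + x 2 * z 2 = 0 →
      ∃ g : SpecialLinearGroup (Fin (2 + 1)) E, (fun j => g.1 j 0) = x ∧ (fun j => (g⁻¹).1 (Fin.last 2) j) = z := by
    intro x z hx hz hxz
    obtain ⟨g, g1, g2⟩ := exists_flag' hx hz hxz
    exact ⟨g, funext g1, funext g2⟩
  have hYW0 : ∀ g : SpecialLinearGroup (Fin (2 + 1)) E, g.1 0 0 * (g⁻¹).1 (Fin.last 2) 0 + g.1 1 0 * (g⁻¹).1 (Fin.last 2) 1 +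
      g.1 2 0 * (g⁻¹).1 (Fin.last 2) 2 = 0 := by
    intro g
    have q1 : (g⁻¹ * g).1 (Fin.last 2) 0 = 0 := by
      rw [inv_mul_cancel]
      rfl
    change ((g⁻¹).1 * g.1) (Fin.last 2) 0 = 0 at q1
    rw [Matrix.mul_apply, Fin.sum_univ_three] at q1
    rw [← q1]
    ring
  have hf : ∀ x y, φ (ρ (x * y) v) = ι (∑ j, (fun j => x.1 0 j) j * (fun j => y.1 j 0) j) ^ a *
      ι (∑ j, (fun j => (x⁻¹).1 j (Fin.last 2)) j * (fun j => (y⁻¹).1 (Fin.last 2) j) j) ^ b := by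
    intro x y
    rw [h3, xi_mul]
  -- the first exponent
  rcases ca with ⟨r, i, hr1, hr2, e5, e6⟩ | ⟨i, j, hij, e5, e6⟩
  swap
  · exfalso; omega
  rcases cb with ⟨s, j, hs1, hs2, e7, e8⟩ | ⟨i, j, hij, e7, e8⟩
  swap
  · exfalso; omega
  by_cases hr : r = 1
  · by_cases hs : s = 1
    · subst hr hs
      rw [one_mul] at e5 e7
      refine ⟨v, hv, hv0, φ, hφ0, i, j, e5 ▸ ha, e7 ▸ hb, fun g => by rw [h3, e5, e7], by omega, ?_, ?_⟩
      · exact two_PQ_le ι (X := fun x j => x.1 0 j) (Z := fun x j => (x⁻¹).1 j (Fin.last 2)) (Y := fun y j => y.1 j 0)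
          (W := fun y j => (y⁻¹).1 (Fin.last 2) j) (irr_all hirr) hφ0 hv0 e5 e7 hf
      · by_cases hij : i = j
        · exact Or.inl hij
        · right
          exact two_PQ (irr_all hirr) ι (X := fun x j => x.1 0 j) (Z := fun x j => (x⁻¹).1 j (Fin.last 2))
            (Y := fun y j => y.1 j 0) (W := fun y j => (y⁻¹).1 (Fin.last 2) j) hXZ hYW hφ0 hv0 e5 e7
            (fun e => hij (Nat.pow_right_injective hp.out.two_le (e5.symm.trans (e.trans e7)))) ha hb hf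
    · exfalso
      have hs' : s = 2 := by omega
      subst hr hs'
      rw [one_mul] at e5
      have := two_P2Q (ρ := ρ) (φ := φ) (v := v) ι (X := fun x j => x.1 0 j) (Z := fun x j => (x⁻¹).1 j (Fin.last 2))
            (Y := fun y j => y.1 j 0) (W := fun y j => (y⁻¹).1 (Fin.last 2) j) hXZ hYW hYW0 (by omega) e5 e7 ha hb hf
      omega
  · exfalso
    have hr' : r = 2 := by omega
    have hs' : s = 1 := by omega
    subst hr' hs'
    rw [one_mul] at e7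
    have := two_P2Q (ρ := ρ) (φ := φ) (v := v) ι (X := fun x j => (x⁻¹).1 j (Fin.last 2)) (Z := fun x j => x.1 0 j)
          (Y := fun y j => (y⁻¹).1 (Fin.last 2) j) (W := fun y j => y.1 j 0)
          (fun x z hx hz hxz => by
            obtain ⟨g, g1, g2⟩ := hXZ z x hz hx (by rw [← hxz]; ring)
            exact ⟨g, g2, g1⟩)
          (fun x z hx hz hxz => by
            obtain ⟨g, g1, g2⟩ := hYW z x hz hx (by rw [← hxz]; ring)
            exact ⟨g, g2, g1⟩)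
          (fun g => by rw [← hYW0 g]; ring) (by omega) e7 e5 hb ha
          (fun x y => by rw [hf, mul_comm])
    omega

/-- the cases for `SL(3, E)` -/
def Case3 (p a b n : ℕ) : Prop :=
  (b = 0 ∧ OneCase p 3 a n) ∨ (a = 0 ∧ OneCase p 3 b n) ∨
    ((∃ i j, a = p ^ i ∧ b = p ^ j ∧ (i = j ∨ n = 9)) ∧ 6 ≤ n ∧ n ≤ 9)

include p in
/-- **The classification for `SL(3, E)`.** -/
theorem sl3 (h2 : 2 ≤ finrank k V) (hn : finrank k V < 12) :
    ∃ v ∈ D cs h (X E) ρ, v ≠ 0 ∧ ∃ φ : Module.Dual k V, φ ≠ 0 ∧ ∃ a b : ℕ, a < Nat.card E ∧ b < Nat.card E ∧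
      (∀ g, φ (ρ g v) = xi ι a b g) ∧ Case3 p a b (finrank k V) := by
  have R := rgd cs h (F := E) (p := p)
  by_cases hi : (0 : Fin 2) ∈ Jx cs h (X E) ρ
  · by_cases hj : (1 : Fin 2) ∈ Jx cs h (X E) ρ
    · exfalso
      obtain ⟨j, hj'⟩ := exists_not_mem R hirr (by rw [finrank_D R hirr slT_comm]; omega)
      fin_cases j
      · exact hj' hi
      · exact hj' hj
    · obtain ⟨v, hv, hv0, φ, hφ0, a, ha, hf, hc⟩ := only_last p hirr ι le_rfl (i₀ := (1 : Fin 2)) rfl hj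
        (fun j hj' => by
          fin_cases j
          · exact absurd hi hj'
          · rfl) (by rw [show Nat.choose (2 + 1) 2 = 3 from rfl]; omega)
      exact ⟨v, hv, hv0, φ, hφ0, 0, a, Nat.card_pos, ha, hf, Or.inr (Or.inl ⟨rfl, hc⟩)⟩
  · by_cases hj : (1 : Fin 2) ∈ Jx cs h (X E) ρ
    · obtain ⟨v, hv, hv0, φ, hφ0, a, ha, hf, hc⟩ := only_zero p hirr ι le_rfl (i₀ := (0 : Fin 2)) rfl hi
        (fun j hj' => by
          fin_cases j
          · rfl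
          · exact absurd hj hj') (by rw [show Nat.choose (2 + 1) 2 = 3 from rfl]; omega)
      exact ⟨v, hv, hv0, φ, hφ0, a, 0, ha, Nat.card_pos, hf, Or.inl ⟨rfl, hc⟩⟩
    · obtain ⟨v, hv, hv0, φ, hφ0, i, j, ha, hb, hf, h6, h9, hij⟩ := sl3_two p hirr ι hi hj hn
      exact ⟨v, hv, hv0, φ, hφ0, p ^ i, p ^ j, ha, hb, hf, Or.inr (Or.inr ⟨⟨i, j, rfl, rfl, hij⟩, h6, h9⟩)⟩

end

end Cfsg.Agent.H887.DS
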