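import Cfsg.Agent.H887.DS.Master

/-!
# Characters of the torus of `SL(l + 1, E)` (helper887)

* `exists_emb` : a finite field of characteristic `p` embeds in every algebraically closed field of characteristic `p`;
* `exists_pow` : a homomorphism `Eˣ → kˣ` is `s ↦ ι(s) ^ c` with `1 ≤ c ≤ q - 1`;
* `T_induction` : the torus is generated by the elements `h_i(s)`;
* **`exists_ab`** : the exponents `a`, `b` of `V`, all nodes outside `J` being end nodes.
-/

set_option autoImplicit false
set_option linter.unusedSectionVars false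
set_option linter.style.haveILetI false

namespace Cfsg.Agent.H887.DS

open Matrix CoxeterSystem Cfsg.Agent.ChevalleyStructure.CoxeterGeom Cfsg.Agent.Tits.Roots Cfsg.Agent.Tits.Core
  Cfsg.Agent.Tits.Exchange Cfsg.Agent.Nodes.Reps Cfsg.Agent.Nodes.BNOf Cfsg.Agent.Nodes.StabComb
  Cfsg.Agent.Nodes.Bruhat Cfsg.Agent.Nodes.OppDec Cfsg.Agent.Nodes.LeviDec Cfsg.Agent.KFacts.RgdOpp
  Cfsg.Agent.Omega.CR Cfsg.Agent.Omega.FOne.Lift.Sd Cfsg.Agent.Nodes.RootsA Cfsg.Agent.Nodes.RGDTypeA
open Cfsg.Agent.LieRecognition.BNCox (cA cA_apply)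
open Cfsg.Agent.TitsThree.KSideA (tv tv_of_ne tv_add tv_zero tv_neg tv_comm tv_commute)
open Cfsg.Agent.H905.Md

theorem exists_emb (E k : Type*) [Field E] [Finite E] [Field k] [IsAlgClosed k] (p : ℕ) [Fact p.Prime] [CharP E p]
    [CharP k p] : Nonempty (E →+* k) := by
  letI := ZMod.algebra E p
  letI := ZMod.algebra k p
  haveI : Algebra.IsAlgebraic (ZMod p) E := Algebra.IsAlgebraic.of_finite (ZMod p) E
  exact ⟨(IsAlgClosed.lift : E →ₐ[ZMod p] k).toRingHom⟩

theorem exists_pow {E k : Type*} [Field E] [Finite E] [Field k] (ι : E →+* k) (f : Eˣ →* k) :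
    ∃ c : ℕ, 1 ≤ c ∧ c < Nat.card E ∧ ∀ s : Eˣ, f s = ι s ^ c := by
  obtain ⟨g, hg⟩ := IsCyclic.exists_generator (α := Eˣ)
  have hcard : Nat.card Eˣ = Nat.card E - 1 := Nat.card_units E
  have hE : 1 < Nat.card E := Finite.one_lt_card
  have ho : orderOf g = Nat.card E - 1 := by rw [← hcard]; exact orderOf_eq_card_of_forall_mem_zpowers hg
  have h1 : IsPrimitiveRoot (ι g) (Nat.card E - 1) := by
    have h2 : IsPrimitiveRoot g (Nat.card E - 1) := by rw [← ho]; exact IsPrimitiveRoot.orderOf g
    have h3 : IsPrimitiveRoot (g : E) (Nat.card E - 1) := IsPrimitiveRoot.coe_units_iff.2 h2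
    exact h3.map_of_injective ι.injective
  have h2 : f g ^ (Nat.card E - 1) = 1 := by rw [← map_pow, ← hcard, pow_card_eq_one', map_one]
  haveI : NeZero (Nat.card E - 1) := ⟨by omega⟩
  obtain ⟨i, hi, he⟩ := h1.eq_pow_of_pow_eq_one h2
  have key : ∀ c : ℕ, ι g ^ c = f g → ∀ s : Eˣ, f s = ι s ^ c := by
    intro c hc s
    obtain ⟨j, rfl⟩ := (mem_powers_iff_mem_zpowers.2 (hg s))
    rw [map_pow, ← hc, Units.val_pow_eq_pow_val, map_pow, ← pow_mul, ← pow_mul, mul_comm]
  by_cases h0 : i = 0
  · refine ⟨Nat.card E - 1, by omega, by omega, key _ ?_⟩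
    rw [h1.pow_eq_one, ← he, h0, pow_zero]
  · exact ⟨i, by omega, by omega, key _ he⟩

section torus

variable {E : Type*} [Field E] {l : ℕ}

/-- `h_i(s)` -/
noncomputable def hs (i : Fin l) (s : Eˣ) : SpecialLinearGroup (Fin (l + 1)) E :=
  SpecialLinearGroup.diag2n (i := i.castSucc) (j := i.succ) (Fin.castSucc_lt_succ).ne (s : E) s.ne_zero

theorem hs_apply (i : Fin l) (s : Eˣ) (j : Fin (l + 1)) :
    (hs i s).1 j j = if j = i.castSucc then (s : E) else if j = i.succ then (s : E)⁻¹ else 1 := by
  unfold hs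
  rw [SpecialLinearGroup.diag2n_coe, Matrix.diagonal_apply_eq]

theorem hs_mem (i : Fin l) (s : Eˣ) : hs i s ∈ T (Fin (l + 1)) E := diag_mem_T _ _

theorem mul_diag {t t' : SpecialLinearGroup (Fin (l + 1)) E} [Finite E] (ht : t ∈ T (Fin (l + 1)) E) (j : Fin (l + 1)) :
    (t * t').1 j j = t.1 j j * t'.1 j j := by
  change (t.1 * t'.1) j j = _
  rw [slT_diag ht, Matrix.diagonal_mul, Matrix.diagonal_apply_eq]

theorem T_apply_ne_zero [Finite E] {t : SpecialLinearGroup (Fin (l + 1)) E} (ht : t ∈ T (Fin (l + 1)) E)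
    (j : Fin (l + 1)) : t.1 j j ≠ 0 := by
  have h1 := t.2
  rw [slT_diag ht, Matrix.det_diagonal] at h1
  intro h0
  have h2 : ∏ i, (t.1 : Matrix _ _ E) i i = 0 := Finset.prod_eq_zero (Finset.mem_univ j) h0
  exact zero_ne_one (h2.symm.trans h1)

theorem hs_mul (i : Fin l) (s s' : Eˣ) : hs i (s * s') = hs i s * hs i s' := by
  apply Subtype.ext
  change _ = (hs i s).1 * (hs i s').1
  unfold hs
  rw [SpecialLinearGroup.diag2n_coe, SpecialLinearGroup.diag2n_coe, SpecialLinearGroup.diag2n_coe,
    Matrix.diagonal_mul_diagonal]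
  congr 1
  funext j
  split_ifs
  · exact Units.val_mul _ _
  · rw [Units.val_mul, mul_inv]
  · rw [mul_one]

/-- **The torus is generated by the `h_i(s)`.** -/
theorem T_induction [Finite E] {P : SpecialLinearGroup (Fin (l + 1)) E → Prop} (h1 : P 1)
    (hmul : ∀ t ∈ T (Fin (l + 1)) E, ∀ t' ∈ T (Fin (l + 1)) E, P t → P t' → P (t * t'))
    (hh : ∀ (i : Fin l) (s : Eˣ), P (hs i s)) : ∀ t ∈ T (Fin (l + 1)) E, P t := by
  have key : ∀ d : ℕ, d ≤ l → ∀ t ∈ T (Fin (l + 1)) E, (∀ j : Fin (l + 1), j.val < l - d → t.1 j j = 1) → P t := by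
    intro d
    induction d with
    | zero =>
      intro _ t ht hj
      have e : t = 1 := by
        apply Subtype.ext
        rw [slT_diag ht]
        change _ = (1 : Matrix (Fin (l + 1)) (Fin (l + 1)) E)
        rw [← Matrix.diagonal_one]
        congr 1
        funext j
        have hlt : ∀ i : Fin (l + 1), i ≠ Fin.last l → t.1 i i = 1 := by
          intro i hi
          apply hj
          have h2 := Fin.val_ne_of_ne hi
          rw [Fin.val_last] at h2
          have := i.2
          omega
        by_cases hjl : j = Fin.last l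
        · subst hjl
          have h2 := t.2
          rw [slT_diag ht, Matrix.det_diagonal, Finset.prod_eq_single (Fin.last l) (fun i _ hi => hlt i hi)
            (fun h => absurd (Finset.mem_univ _) h)] at h2
          exact h2
        · exact hlt j hjl
      rw [e]
      exact h1
    | succ d ih =>
      intro hd t ht hj
      have hk : l - (d + 1) < l := by omega
      set i : Fin l := ⟨l - (d + 1), hk⟩ with hi
      have hs0 := T_apply_ne_zero ht i.castSucc
      set s : Eˣ := Units.mk0 _ hs0 with hsdef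
      have e : t = hs i s * (hs i s⁻¹ * t) := by
        rw [← mul_assoc, ← hs_mul, mul_inv_cancel]
        have h2 : hs i (1 : Eˣ) = 1 := by
          have h3 := hs_mul i (1 : Eˣ) 1
          rw [mul_one] at h3
          exact (mul_eq_left (a := hs i (1 : Eˣ))).1 h3.symm
        rw [h2, one_mul]
      have hmem : hs i s⁻¹ * t ∈ T (Fin (l + 1)) E := mul_mem (hs_mem _ _) ht
      rw [e]
      refine hmul _ (hs_mem _ _) _ hmem (hh _ _) (ih (by omega) _ hmem ?_)
      intro j hj'
      rw [mul_diag (hs_mem _ _), hs_apply]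
      by_cases h2 : j = i.castSucc
      · rw [if_pos h2, h2, Units.val_inv_eq_inv_val, hsdef, Units.val_mk0, inv_mul_cancel₀ hs0]
      · have h3 := Fin.val_ne_of_ne h2
        rw [Fin.val_castSucc] at h3
        have h4 : i.val = l - (d + 1) := rfl
        have h5 : j ≠ i.succ := by
          intro e
          have := congrArg Fin.val e
          rw [Fin.val_succ] at this
          omega
        rw [if_neg h2, if_neg h5, one_mul]
        exact hj j (by omega)
  intro t ht
  exact key l le_rfl t ht fun j hj => absurd hj (by omega)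

end torus

section ab

variable {E : Type*} [Field E] [Finite E] {l : ℕ} {W : Type*} [Group W] [Finite W] {cs : CoxeterSystem (cA l) W}
  {A : Fin l → Fin l → ℤ} {h : IsCartan (cA l) A}

variable {k V : Type*} [Field k] [AddCommGroup V] [Module k V]
  {ρ : SpecialLinearGroup (Fin (l + 1)) E →* Module.End k V}

theorem rho_hs {i : Fin l} (hi : i ∈ Jx cs h (X E) ρ) {v : V} (hv : v ∈ D cs h (X E) ρ) (s : Eˣ) :
    ρ (hs i s) v = v := by
  have hne : i.castSucc ≠ i.succ := (Fin.castSucc_lt_succ).ne
  have h1 : ∀ t : E, ρ (tv i.castSucc i.succ t) v = v := by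
    intro t
    have h0 : sr i ∈ RGD.Pos cs h := by
      refine ⟨isRoot_sr cs h i, ?_⟩
      rw [← rtA_sr, rtA_nonneg_iff]; exact (Fin.castSucc_lt_succ).le
    have h1 : X E (sr i) ≤ RGD.Sup (X E) (RGD.Pos cs h) := RGD.le_Sup h0
    refine hv _ (h1 ?_)
    rw [X_sr]; exact tv_mem_XX _ _ _
  have h2 : ∀ t : E, ρ (tv i.succ i.castSucc t) v = v := by
    intro t
    refine hi _ ?_ v hv
    rw [X_neg_sr]; exact tv_mem_XX _ _ _
  have h3 : ∀ t : E, ρ (Nodes.RGDTypeA.nn i.castSucc i.succ t) v = v := by
    intro t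
    unfold Nodes.RGDTypeA.nn
    rw [rho_mul, rho_mul, h1, h2, h1]
  have h4 : hs i s = Nodes.RGDTypeA.nn i.castSucc i.succ (s : E) * (Nodes.RGDTypeA.nn i.castSucc i.succ (1 : E))⁻¹ := by
    rw [nn_eq hne s.ne_zero, mul_inv_cancel_right]
    rfl
  have h5 : ρ (Nodes.RGDTypeA.nn i.castSucc i.succ (1 : E))⁻¹ v = v := by
    conv_lhs => rw [← h3 1]
    rw [rho_inv_rho]
  rw [h4, rho_mul, h5, h3]

variable (ι : E →+* k)

/-- **The exponents.** -/
theorem exists_ab (hl : 2 ≤ l) {v : V} (hv0 : v ≠ 0) (hv : v ∈ D cs h (X E) ρ) {χ : SpecialLinearGroup (Fin (l + 1)) E → k}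
    (hχ : ∀ t ∈ T (Fin (l + 1)) E, ρ t v = χ t • v)
    (hJ : ∀ i : Fin l, i ∉ Jx cs h (X E) ρ → i.val = 0 ∨ i.val + 1 = l) :
    ∃ a b : ℕ, a < Nat.card E ∧ b < Nat.card E ∧ (∀ i : Fin l, i.val = 0 → (i ∈ Jx cs h (X E) ρ ↔ a = 0)) ∧
      (∀ i : Fin l, i.val + 1 = l → (i ∈ Jx cs h (X E) ρ ↔ b = 0)) ∧
      ∀ t ∈ T (Fin (l + 1)) E, ρ t v = xi ι a b t • v := by
  classical
  have hχm : ∀ t ∈ T (Fin (l + 1)) E, ∀ t' ∈ T (Fin (l + 1)) E, χ (t * t') = χ t * χ t' := by
    intro t ht t' ht'
    have h1 := hχ _ (mul_mem ht ht')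
    rw [rho_mul, hχ t' ht', map_smul, hχ t ht, smul_smul, mul_comm] at h1
    exact (smul_left_injective k hv0 h1).symm
  have hχ1 : χ 1 = 1 := by
    have h1 := hχ 1 (one_mem _)
    rw [map_one, Module.End.one_apply] at h1
    have h2 : (1 : k) • v = χ 1 • v := by rw [one_smul]; exact h1
    exact (smul_left_injective k hv0 h2).symm
  have hone : ∀ i : Fin l, hs i (1 : Eˣ) = 1 := by
    intro i
    have h3 := hs_mul i (1 : Eˣ) 1
    rw [mul_one] at h3
    exact (mul_eq_left (a := hs i (1 : Eˣ))).1 h3.symm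
  have hex : ∀ i : Fin l, ∃ c : ℕ, c < Nat.card E ∧ (i ∈ Jx cs h (X E) ρ ↔ c = 0) ∧ ∀ s : Eˣ, χ (hs i s) = ι s ^ c := by
    intro i
    by_cases hi : i ∈ Jx cs h (X E) ρ
    · refine ⟨0, Nat.card_pos, by simp [hi], fun s => ?_⟩
      have h1 := hχ _ (hs_mem i s)
      rw [rho_hs hi hv s] at h1
      have h2 : (1 : k) • v = χ (hs i s) • v := by rw [one_smul]; exact h1
      rw [pow_zero]
      exact (smul_left_injective k hv0 h2).symm
    · obtain ⟨c, h1, h2, h3⟩ := exists_pow ι
        ({ toFun := fun s => χ (hs i s)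
           map_one' := by rw [hone, hχ1]
           map_mul' := fun s s' => by rw [hs_mul, hχm _ (hs_mem _ _) _ (hs_mem _ _)] } : Eˣ →* k)
      exact ⟨c, h2, by simp only [hi, false_iff]; omega, h3⟩
  set i0 : Fin l := ⟨0, by omega⟩ with hi0
  set i1 : Fin l := ⟨l - 1, by omega⟩ with hi1
  obtain ⟨a, ha1, ha2, ha3⟩ := hex i0
  obtain ⟨b, hb1, hb2, hb3⟩ := hex i1
  refine ⟨a, b, ha1, hb1, ?_, ?_, ?_⟩
  · intro i hi
    rwa [show i = i0 from Fin.ext hi]
  · intro i hi
    rwa [show i = i1 from Fin.ext (by change i.val = l - 1; omega)]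
  · have key : ∀ t ∈ T (Fin (l + 1)) E, χ t = xi ι a b t := by
      refine T_induction ?_ ?_ ?_
      · rw [hχ1, xi_one]
      · intro t ht t' ht' h1 h2
        rw [hχm t ht t' ht', h1, h2, xi_T_mul ht]
      · intro i s
        have hinv : (hs i s)⁻¹ = hs i s⁻¹ := by
          rw [inv_eq_iff_mul_eq_one, ← hs_mul, mul_inv_cancel, hone]
        unfold xi
        rw [hinv, hs_apply, hs_apply]
        by_cases h0 : i.val = 0
        · have e : i = i0 := Fin.ext h0
          rw [e, ha3 s]
          have h1 : (0 : Fin (l + 1)) = i0.castSucc := Fin.ext rfl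
          have h2 : Fin.last l ≠ i0.castSucc := fun e => by
            have := congrArg Fin.val e
            simp [hi0] at this
            omega
          have h3 : Fin.last l ≠ i0.succ := fun e => by
            have := congrArg Fin.val e
            simp [hi0] at this
            omega
          rw [if_pos h1, if_neg h2, if_neg h3, map_one, one_pow, mul_one]
        · by_cases h0' : i.val + 1 = l
          · have e : i = i1 := Fin.ext (by change i.val = l - 1; omega)
            rw [e, hb3 s]
            have h1 : (0 : Fin (l + 1)) ≠ i1.castSucc := fun e => by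
              have := congrArg Fin.val e
              simp [hi1] at this
              omega
            have h2 : (0 : Fin (l + 1)) ≠ i1.succ := (Fin.succ_ne_zero i1).symm
            have h3 : Fin.last l ≠ i1.castSucc := fun e => by
              have := congrArg Fin.val e
              simp [hi1] at this
              omega
            have h4 : Fin.last l = i1.succ := Fin.ext (by simp [hi1]; omega)
            rw [if_neg h1, if_neg h2, if_neg h3, if_pos h4, map_one, one_pow, one_mul, Units.val_inv_eq_inv_val, inv_inv]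
          · have hi : i ∈ Jx cs h (X E) ρ := by
              by_contra hi
              rcases hJ i hi with h1 | h1
              · exact h0 h1
              · exact h0' h1
            have h1 : χ (hs i s) = 1 := by
              have h1 := hχ _ (hs_mem i s)
              rw [rho_hs hi hv s] at h1
              have h2 : (1 : k) • v = χ (hs i s) • v := by rw [one_smul]; exact h1
              exact (smul_left_injective k hv0 h2).symm
            have h2 : (0 : Fin (l + 1)) ≠ i.castSucc := fun e => h0 (by have := congrArg Fin.val e; simpa using this.symm)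
            have h3 : (0 : Fin (l + 1)) ≠ i.succ := (Fin.succ_ne_zero i).symm
            have h4 : Fin.last l ≠ i.castSucc := fun e => by
              have := congrArg Fin.val e
              simp at this
              have := i.2
              omega
            have h5 : Fin.last l ≠ i.succ := fun e => h0' (by have := congrArg Fin.val e; simpa using this.symm)
            rw [h1, if_neg h2, if_neg h3, if_neg h4, if_neg h5, map_one, one_pow, one_pow, one_mul]
    intro t ht
    rw [hχ t ht, key t ht]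

end ab

end Cfsg.Agent.H887.DS
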