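import Cfsg.Agent.H887.DS.MonoThree
import Cfsg.Agent.H887.DS.Low

/-!
# No 12-dimensional modules of `SL(m, E)`, `3 ≤ m < 12`, in its own characteristic (helper887)

* `sl3_twelve`, `sl4_twelve`;
* **`not_twelve`** : `Core P`, `Soc P = PSL(m, E)`, `3 ≤ m < 12`, `n = 12` is impossible.
-/

set_option autoImplicit false
set_option linter.unusedSectionVars false
set_option linter.style.haveILetI false

namespace Cfsg.Agent.H887.DS

open Matrix CoxeterSystem Cfsg.Agent.ChevalleyStructure.CoxeterGeom Cfsg.Agent.Tits.Roots Cfsg.Agent.Tits.Core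
  Cfsg.Agent.Tits.Exchange Cfsg.Agent.Nodes.Reps Cfsg.Agent.Nodes.BNOf Cfsg.Agent.Nodes.StabComb
  Cfsg.Agent.Nodes.Bruhat Cfsg.Agent.Nodes.OppDec Cfsg.Agent.Nodes.LeviDec Cfsg.Agent.KFacts.RgdOpp
  Cfsg.Agent.Omega.CR Cfsg.Agent.Omega.FOne.Lift.Sd Cfsg.Agent.Nodes.RootsA Cfsg.Agent.Nodes.RGDTypeA
open Cfsg.Agent.LieRecognition.BNCox (cA cA_apply)
open Cfsg.Agent.TitsThree.KSideA (tv tv_of_ne tv_add tv_zero tv_neg tv_comm tv_commute)
open Cfsg.Agent.H905.Md Module Cfsg.Agent.H911
open Cfsg Cfsg.Geo Cfsg.Agent.H67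
open Cfsg.Agent.H915.LD (Core Soc tr SD Fr Cj)

universe u

section swap

variable {E k : Type*} [Field E] [Field k] {l : ℕ} {ι : E →+* k}

theorem rk_swap (hl : 1 ≤ l) {a b d : ℕ} (h : Rk (xi ι a b : SpecialLinearGroup (Fin (l + 1)) E → k) d) :
    Rk (xi ι b a : SpecialLinearGroup (Fin (l + 1)) E → k) d := by
  refine (h.inv.conj (wl E l)).congr fun g => ?_
  unfold xi
  rw [inv_inv, wl_mul_mul_last hl]
  have e : (wl E l * g * (wl E l)⁻¹)⁻¹ = wl E l * g⁻¹ * (wl E l)⁻¹ := by group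
  rw [e, wl_mul_mul_zero hl, mul_comm]

theorem rk_swap4 {o z : Fin (l + 1)} (hl : 3 ≤ l) (ho : o.val = 1) (hz : z.val + 1 = l) {a b c d n : ℕ}
    (h : Rk (xf ι o z a b c d : SpecialLinearGroup (Fin (l + 1)) E → k) n) :
    Rk (xf ι o z d c b a : SpecialLinearGroup (Fin (l + 1)) E → k) n :=
  (h.inv.conj (ww E o z)).congr fun g => (xf_ww hl ho hz ι a b c d g).symm

end swap

section three

variable {E : Type*} [Field E] [Finite E] {W : Type*} [Group W] [Finite W] {cs : CoxeterSystem (cA 2) W}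
  {A : Fin 2 → Fin 2 → ℤ} {h : IsCartan (cA 2) A} (p : ℕ) [hp : Fact p.Prime] [hEp : CharP E p]
  {k V : Type*} [Field k] [IsAlgClosed k] [CharP k p] [AddCommGroup V] [Module k V] [FiniteDimensional k V] [Nontrivial V]
  {ρ : SpecialLinearGroup (Fin (2 + 1)) E →* Module.End k V}
  (hirr : ∀ L : Submodule k V, Ivt ρ (GG cs h (T (Fin (2 + 1)) E) (X E)) L → L = ⊥ ∨ L = ⊤)
include hirr

include p in
/-- **`SL(3, E)` has no 12-dimensional simple module.** -/
theorem sl3_twelve (hn : finrank k V = 12) : False := by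
  obtain ⟨ι⟩ := exists_emb E k p
  have R := rgd cs h (F := E) (p := p)
  have hD := finrank_D R hirr slT_comm
  obtain ⟨i, hi⟩ := exists_not_mem R hirr (by rw [hD]; omega)
  have c32 : Nat.choose (2 + 1) 2 = 3 := rfl
  have one : ∀ c, OneCase p 3 c (finrank k V) → False := by
    rintro c (⟨r, e, hr, hrp, -, hn'⟩ | ⟨e, e', -, -, hn'⟩)
    · rcases (choose_cases hr hn').1 rfl (by omega) with ⟨-, h4⟩ | ⟨-, h4⟩ | ⟨-, h4⟩ <;> omega
    · omega
  by_cases hi0 : (0 : Fin 2) ∈ Jx cs h (X E) ρ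
  · obtain ⟨v, hv, hv0, φ, hφ0, a, ha, hf, hc⟩ := only_last p hirr ι (by norm_num) (i₀ := (1 : Fin 2)) rfl
      (by
        intro h1
        fin_cases i
        · exact hi hi0
        · exact hi h1) (fun j hj => by
        fin_cases j
        · exact absurd hi0 hj
        · rfl) (by rw [c32]; omega)
    exact one a hc
  by_cases hi1 : (1 : Fin 2) ∈ Jx cs h (X E) ρ
  · obtain ⟨v, hv, hv0, φ, hφ0, a, ha, hf, hc⟩ := only_zero p hirr ι (by norm_num) (i₀ := (0 : Fin 2)) rfl hi0
      (fun j hj => by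
        fin_cases j
        · rfl
        · exact absurd hi1 hj) (by rw [c32]; omega)
    exact one a hc
  obtain ⟨v, hv, hv0, φ, hφ0, a, b, ha, hb, h1, h2, h3⟩ := exists_coef p hirr ι le_rfl (fun j _ => by
    fin_cases j
    · exact Or.inl rfl
    · exact Or.inr rfl)
  have e0 := Ds_le_Le_zero ι le_rfl p hv h3 ha (i := (0 : Fin 2)) rfl
  have e1 := Ds_le_Le_last ι le_rfl p hv h3 hb (i := (1 : Fin 2)) rfl
  have i0 := finrank_Io R hirr (0 : Fin 2)
  have i1 := finrank_Io R hirr (1 : Fin 2)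
  have d := dim_ge_two R hirr (i := (0 : Fin 2)) (j := (1 : Fin 2)) Nat.one_pos hi0 hi1
  rw [hD] at i0 i1 d
  rw [show ((0 : Fin 2) : Fin 2).val = 0 from rfl, show ((1 : Fin 2) : Fin 2).val = 1 from rfl, card_flg_2_01,
    show Nat.choose (2 + 1) 2 = 3 from rfl] at d
  have ha1 : 1 ≤ a := by
    have := (h1 0 rfl).not.1 hi0
    omega
  have hb1 : 1 ≤ b := by
    have := (h2 1 rfl).not.1 hi1
    omega
  have ta := two_le_Ds hp.out ha1
  have tb := two_le_Ds hp.out hb1
  have ca := Ds_small hp.out a ha1 (by omega)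
  have cb := Ds_small hp.out b hb1 (by omega)
  have hsum : (Ds p a).card + (Ds p b).card ≤ 6 := by omega
  have hR : Rk (xi ι a b : SpecialLinearGroup (Fin (2 + 1)) E → k) 12 := by
    have := rk_of_coef h3
    rwa [hn] at this
  have hR' := rk_swap (by norm_num) hR
  have hf : ∀ x y, φ (ρ (x * y) v) = ι (∑ j, (fun j => x.1 0 j) j * (fun j => y.1 j 0) j) ^ a *
      ι (∑ j, (fun j => (x⁻¹).1 j (Fin.last 2)) j * (fun j => (y⁻¹).1 (Fin.last 2) j) j) ^ b := by
    intro x y
    rw [h3, xi_mul]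
  rcases ca with ⟨r, i, hr1, hr2, e5, e6⟩ | ⟨i, i', hij, e5, e6⟩
  · rcases cb with ⟨s, j, hs1, hs2, e7, e8⟩ | ⟨j, l, hjl, e7, e8⟩
    · have hrs : (r = 1 ∧ s = 1) ∨ (r = 1 ∧ s = 2) ∨ (r = 2 ∧ s = 1) ∨ (r = 1 ∧ s = 3) ∨ (r = 3 ∧ s = 1) ∨
          (r = 2 ∧ s = 2) := by omega
      have p5 : 3 < p → 5 ≤ p := by
        intro h3p
        by_contra h5
        have h6 : p = 4 := by omega
        have := hp.out
        rw [h6] at this
        exact absurd this (by norm_num)
      rcases hrs with ⟨rfl, rfl⟩ | ⟨rfl, rfl⟩ | ⟨rfl, rfl⟩ | ⟨rfl, rfl⟩ | ⟨rfl, rfl⟩ | ⟨rfl, rfl⟩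
      · rw [one_mul] at e5 e7
        have := two_PQ_le ι (X := fun x j => x.1 0 j) (Z := fun x j => (x⁻¹).1 j (Fin.last 2)) (Y := fun y j => y.1 j 0)
          (W := fun y j => (y⁻¹).1 (Fin.last 2) j) (irr_all hirr) hφ0 hv0 e5 e7 hf
        omega
      · rw [e5, e7, one_mul] at hR
        exact absurd (le_c12 ι (by omega) hR) (by norm_num)
      · rw [e5, e7, one_mul] at hR'
        exact absurd (le_c12 ι (by omega) hR') (by norm_num)
      · rw [e5, e7, one_mul] at hR
        exact absurd (le_c13 ι (p5 hs2) hR) (by norm_num)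
      · rw [e5, e7, one_mul] at hR'
        exact absurd (le_c13 ι (p5 hr2) hR') (by norm_num)
      · rw [e5, e7] at hR
        exact absurd (le_c22 ι (by omega) hR) (by norm_num)
    · obtain rfl : r = 1 := by omega
      rw [one_mul] at e5
      rw [e5, e7] at hR
      exact absurd (le_mono ι p (fun e => hjl.ne (Nat.pow_right_injective hp.out.two_le e)) (by omega) (by omega)
        (by omega) hR) (by norm_num)
  · rcases cb with ⟨s, j, hs1, hs2, e7, e8⟩ | ⟨j, l, hjl, e7, e8⟩
    · obtain rfl : s = 1 := by omega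
      rw [one_mul] at e7
      rw [e5, e7] at hR'
      exact absurd (le_mono ι p (fun e => hij.ne (Nat.pow_right_injective hp.out.two_le e)) (by omega) (by omega)
        (by omega) hR') (by norm_num)
    · omega

end three

section le

variable {E : Type*} [Field E] [Finite E] {l : ℕ} {W : Type*} [Group W] [Finite W] {cs : CoxeterSystem (cA l) W}
  {A : Fin l → Fin l → ℤ} {h : IsCartan (cA l) A}

variable {k V : Type*} [Field k] [AddCommGroup V] [Module k V] [FiniteDimensional k V]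
  {ρ : SpecialLinearGroup (Fin (l + 1)) E →* Module.End k V}

variable (ι : E →+* k) {o z : Fin (l + 1)} (hl : 3 ≤ l) (ho : o.val = 1) (hz : z.val + 1 = l)
include hl ho hz

/-- the values on the rank one subgroups -/
theorem xf_pair (a b c d : ℕ) (i : Fin l) (s t : E) :
    xf ι o z a b c d (tv i.castSucc i.succ s * tv i.succ i.castSucc t) = (1 + ι s * ι t) ^
      ((if i.val = 0 then a else 0) + (if i.val = 1 then b else 0) + (if i.val + 2 = l then c else 0) +
        (if i.val + 1 = l then d else 0)) := by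
  have hne : i.castSucc ≠ i.succ := (Fin.castSucc_lt_succ).ne
  have hi := i.2
  have v1 : i.castSucc.val = i.val := rfl
  have v2 : i.succ.val = i.val + 1 := rfl
  have v3 : (0 : Fin (l + 1)).val = 0 := rfl
  have v4 : (Fin.last l).val = l := rfl
  have tvne : ∀ (x y : Fin (l + 1)) (_ : x ≠ y) (u : E) (i' j' : Fin (l + 1)), i' ≠ j' → ¬ (x = i' ∧ y = j') →
      (tv x y u : SpecialLinearGroup (Fin (l + 1)) E).1 i' j' = 0 := by
    intro x y hxy u i' j' hij h'
    rw [tv_val hxy, Matrix.add_apply, Matrix.one_apply_ne hij, Matrix.single_apply_of_ne _ _ _ _ _ h', add_zero]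
  have k1 : ι ((tv i.castSucc i.succ s * tv i.succ i.castSucc t : SpecialLinearGroup (Fin (l + 1)) E).1 0 0) ^ a =
      (1 + ι s * ι t) ^ (if i.val = 0 then a else 0) := by
    by_cases h0 : i.val = 0
    · have e1 : (0 : Fin (l + 1)) = i.castSucc := Fin.ext h0.symm
      rw [mul_tv_apply hne.symm, if_pos e1, tv_diag hne, e1, tv_same hne, if_pos h0, map_add, map_one, map_mul]
    · have e1 : (0 : Fin (l + 1)) ≠ i.castSucc := fun e => h0 (congrArg Fin.val e).symm
      rw [mul_tv_apply hne.symm, if_neg e1, tv_diag hne, add_zero, if_neg h0, map_one, one_pow, pow_zero]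
  have k4 : ι ((tv i.castSucc i.succ s * tv i.succ i.castSucc t : SpecialLinearGroup (Fin (l + 1)) E)⁻¹.1
      (Fin.last l) (Fin.last l)) ^ d = (1 + ι s * ι t) ^ (if i.val + 1 = l then d else 0) := by
    rw [_root_.mul_inv_rev, ← tv_neg, ← tv_neg]
    by_cases h0 : i.val + 1 = l
    · have e1 : Fin.last l = i.succ := Fin.ext h0.symm
      rw [mul_tv_apply hne, if_pos e1, tv_diag hne.symm, e1, tv_same hne.symm, if_pos h0, neg_mul_neg, map_add, map_one,
        map_mul, mul_comm (ι t)]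
    · have e1 : Fin.last l ≠ i.succ := fun e => h0 (congrArg Fin.val e).symm
      rw [mul_tv_apply hne, if_neg e1, tv_diag hne.symm, add_zero, if_neg h0, map_one, one_pow, pow_zero]
  have k2 : ι (mn 0 o (tv i.castSucc i.succ s * tv i.succ i.castSucc t : SpecialLinearGroup (Fin (l + 1)) E)) ^ b =
      (1 + ι s * ι t) ^ (if i.val = 1 then b else 0) := by
    by_cases h0 : i.val = 1
    · have hio : o = i.castSucc := Fin.ext (by rw [ho, v1, h0])
      have e0 : (0 : Fin (l + 1)) ≠ i.castSucc := fun e => by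
        have := congrArg Fin.val e
        omega
      have e0' : (0 : Fin (l + 1)) ≠ i.succ := (Fin.succ_ne_zero i).symm
      have f1 : (tv i.castSucc i.succ s * tv i.succ i.castSucc t : SpecialLinearGroup (Fin (l + 1)) E).1 0 i.castSucc = 0 := by
        rw [mul_tv_apply hne.symm, if_pos rfl, tvne _ _ hne _ _ _ e0 (fun h => e0 h.1.symm),
          tvne _ _ hne _ _ _ e0' (fun h => e0 h.1.symm)]
        ring
      unfold mn
      rw [hio, f1, mul_tv_apply hne.symm, mul_tv_apply hne.symm, if_neg e0, if_pos rfl, tv_diag hne,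
        tv_diag hne, tv_same hne, if_pos h0]
      simp
    · have c1 : (i.castSucc ≠ 0 ∧ i.castSucc ≠ o) ∨ (i.castSucc = 0 ∧ i.succ = o) ∨ (i.castSucc = o ∧ i.succ = 0) := by
        simp only [ne_eq, Fin.ext_iff, v1, v2, v3, ho]
        omega
      have c2 : (i.succ ≠ 0 ∧ i.succ ≠ o) ∨ (i.succ = 0 ∧ i.castSucc = o) ∨ (i.succ = o ∧ i.castSucc = 0) := by
        simp only [ne_eq, Fin.ext_iff, v1, v2, v3, ho]
        omega
      have e1 : mn 0 o (tv i.castSucc i.succ s * (tv i.succ i.castSucc t * 1) : SpecialLinearGroup (Fin (l + 1)) E) = 1 := by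
        rw [mn_tv_mul hne c1, mn_tv_mul hne.symm c2, mn_one (o_ne hl ho hz)]
      rw [mul_one] at e1
      rw [e1, map_one, one_pow, if_neg h0, pow_zero]
  have k3 : ι (mn z (Fin.last l) (tv i.castSucc i.succ s * tv i.succ i.castSucc t : SpecialLinearGroup (Fin (l + 1)) E)⁻¹) ^ c =
      (1 + ι s * ι t) ^ (if i.val + 2 = l then c else 0) := by
    rw [_root_.mul_inv_rev, ← tv_neg, ← tv_neg]
    by_cases h0 : i.val + 2 = l
    · have hio : z = i.succ := Fin.ext (by omega)
      have e0 : Fin.last l ≠ i.castSucc := fun e => by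
        have := congrArg Fin.val e
        omega
      have e0' : Fin.last l ≠ i.succ := fun e => by
        have := congrArg Fin.val e
        omega
      have f1 : (tv i.succ i.castSucc (-t) * tv i.castSucc i.succ (-s) : SpecialLinearGroup (Fin (l + 1)) E).1
          (Fin.last l) i.succ = 0 := by
        rw [mul_tv_apply hne, if_pos rfl, tvne _ _ hne.symm _ _ _ e0' (fun h => e0' h.1.symm),
          tvne _ _ hne.symm _ _ _ e0 (fun h => e0' h.1.symm)]
        ring
      unfold mn
      rw [hio, f1, mul_tv_apply hne, mul_tv_apply hne, if_pos rfl, if_neg e0', tv_diag hne.symm,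
        tv_diag hne.symm, tv_same hne.symm, if_pos h0]
      simp [mul_comm]
    · have c1 : (i.succ ≠ z ∧ i.succ ≠ Fin.last l) ∨ (i.succ = z ∧ i.castSucc = Fin.last l) ∨
          (i.succ = Fin.last l ∧ i.castSucc = z) := by
        simp only [ne_eq, Fin.ext_iff, v1, v2, v4]
        omega
      have c2 : (i.castSucc ≠ z ∧ i.castSucc ≠ Fin.last l) ∨ (i.castSucc = z ∧ i.succ = Fin.last l) ∨
          (i.castSucc = Fin.last l ∧ i.succ = z) := by
        simp only [ne_eq, Fin.ext_iff, v1, v2, v4]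
        omega
      have e1 : mn z (Fin.last l) (1 * tv i.succ i.castSucc (-t) * tv i.castSucc i.succ (-s) :
          SpecialLinearGroup (Fin (l + 1)) E) = 1 := by
        rw [mn_mul_tv hne c1, mn_mul_tv hne.symm c2, mn_one (z_ne hl ho hz)]
      rw [one_mul] at e1
      rw [e1, map_one, one_pow, if_neg h0, pow_zero]
  unfold xf xi
  rw [k1, k2, k3, k4, pow_add, pow_add, pow_add]
  ring

variable (p : ℕ) [Fact p.Prime] [CharP k p] {v : V}
  (hv : v ∈ D cs h (X E) ρ) {φ : Module.Dual k V}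
include hv

theorem Ds_le_Le4 {a b c d : ℕ} (hm : ∀ g, φ (ρ g v) = xf ι o z a b c d g) {e : ℕ} (i : Fin l)
    (he : e = (if i.val = 0 then a else 0) + (if i.val = 1 then b else 0) + (if i.val + 2 = l then c else 0) +
        (if i.val + 1 = l then d else 0)) (hlt : e < Nat.card E) :
    (Ds p e).card ≤ finrank k (Le cs h (T (Fin (l + 1)) E) (X E) ρ {i}) := by
  refine Ds_le ι p _ (fun t => ρ (tv i.succ i.castSucc t) v) (fun t => low_mem_Le hv t)
    (fun s => φ.comp (ρ (tv i.castSucc i.succ s))) hlt ?_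
  intro s t
  change φ (ρ (tv i.castSucc i.succ s) (ρ (tv i.succ i.castSucc t) v)) = _
  rw [← rho_mul, hm, xf_pair ι hl ho hz, he]

end le

section perm

variable {l : ℕ} {W Y : Type*} [Group W] [Group Y] {cs : CoxeterSystem (cA l) W} {A : Fin l → Fin l → ℤ}
  {h : IsCartan (cA l) A} {p : ℕ} {T : Subgroup Y} {n : Fin l → Y} {X : (Fin l → ℤ) → Subgroup Y}
  {k V : Type*} [Field k] [AddCommGroup V] [Module k V]
  (R : RGD cs h p T n X) [Finite Y] [Finite W] [Fact p.Prime] [CharP k p]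
  {ρ : Y →* Module.End k V} [FiniteDimensional k V]
  (hirr : ∀ L : Submodule k V, Ivt ρ (GG cs h T X) L → L = ⊥ ∨ L = ⊤)
include R hirr

/-- **All nodes outside `J`.** -/
theorem fact_le [Nontrivial V] (hJ : ∀ i, i ∉ Jx cs h X ρ) :
    (l + 1).factorial * Module.finrank k (D cs h X ρ) ≤ Module.finrank k V := by
  have h1 := dim_ge_perm R hirr (α := Equiv.Perm (Fin (l + 1))) (β := Empty) id (by
    intro a a' hne
    by_contra hcon
    push Not at hcon
    apply hne
    have hle : ∀ c, (a'⁻¹ c).val ≤ (a⁻¹ c).val := by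
      intro c
      by_cases hc : (a⁻¹ c).val < l
      · exact hcon ⟨_, hc⟩ (hJ _) c le_rfl
      · have := (a'⁻¹ c).2
        omega
    have hs : ∀ b : Equiv.Perm (Fin (l + 1)), ∑ c, (b c).val = ∑ c : Fin (l + 1), c.val :=
      fun b => Equiv.sum_comp b (fun c : Fin (l + 1) => c.val)
    have h2 := (Finset.sum_eq_sum_iff_of_le (s := Finset.univ) (fun c _ => hle c)).1 (by rw [hs, hs])
    have h3 : a'⁻¹ = a⁻¹ := Equiv.ext fun c => Fin.ext (h2 c (Finset.mem_univ c))
    exact (inv_injective h3).symm) (fun b => b.elim) (fun b => b.elim) (fun b => b.elim) (fun b => b.elim)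
    (fun b => b.elim)
  rw [Fintype.card_perm, Fintype.card_fin] at h1
  omega

end perm

section four

variable {E : Type*} [Field E] [Finite E] {W : Type*} [Group W] [Finite W] {cs : CoxeterSystem (cA 3) W}
  {A : Fin 3 → Fin 3 → ℤ} {h : IsCartan (cA 3) A} (p : ℕ) [hp : Fact p.Prime] [hEp : CharP E p]
  {k V : Type*} [Field k] [IsAlgClosed k] [CharP k p] [AddCommGroup V] [Module k V] [FiniteDimensional k V] [Nontrivial V]
  {ρ : SpecialLinearGroup (Fin (3 + 1)) E →* Module.End k V}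
  (hirr : ∀ L : Submodule k V, Ivt ρ (GG cs h (T (Fin (3 + 1)) E) (X E)) L → L = ⊥ ∨ L = ⊤)
include hirr

/-- the middle node, `r = 1` -/
theorem middle_le (ι : E →+* k) {v : V} (hv0 : v ≠ 0) {φ : Module.Dual k V} (hφ0 : φ ≠ 0)
    {i : ℕ} (hf : ∀ g, φ (ρ g v) = xf ι 1 2 0 (p ^ i) 0 0 g) : finrank k V ≤ 6 := by
  have h1 := finrank_le (irr_all hirr) (M := Fin 6) (c := fun _ => (1 : k)) (φ := φ) (v := v)
    (F := fun κ g => ι (g.1 0 (![0, 0, 0, 1, 1, 2] κ) * g.1 1 (![1, 2, 3, 2, 3, 3] κ) -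
      g.1 0 (![1, 2, 3, 2, 3, 3] κ) * g.1 1 (![0, 0, 0, 1, 1, 2] κ)) ^ p ^ i)
    (Gf := fun κ g => ι (g.1 (![0, 0, 0, 1, 1, 2] κ) 0 * g.1 (![1, 2, 3, 2, 3, 3] κ) 1 -
      g.1 (![0, 0, 0, 1, 1, 2] κ) 1 * g.1 (![1, 2, 3, 2, 3, 3] κ) 0) ^ p ^ i) hφ0 hv0 ?_
  · simpa using h1
  · intro x y
    rw [hf]
    unfold xf xi mn
    rw [pow_zero, pow_zero, pow_zero, mul_one, mul_one, one_mul]
    have e : ∀ i j, (x * y : SpecialLinearGroup (Fin (3 + 1)) E).1 i j = x.1 i 0 * y.1 0 j + x.1 i 1 * y.1 1 j +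
        x.1 i 2 * y.1 2 j + x.1 i 3 * y.1 3 j := by
      intro i j
      change (x.1 * y.1) i j = _
      rw [Matrix.mul_apply, Fin.sum_univ_four]
    rw [e, e, e, e]
    have e2 : ∀ f : Fin 6 → E, ι (∑ κ, f κ) ^ p ^ i = ∑ κ, ι (f κ) ^ p ^ i := by
      intro f
      rw [map_sum, sum_pow_char_pow]
    simp only [one_mul, ← mul_pow, ← map_mul]
    rw [← e2]
    congr 2
    rw [Fin.sum_univ_six]
    simp only [Matrix.cons_val_zero, Matrix.cons_val_one, Matrix.cons_val]
    ring

include p in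
/-- **`SL(4, E)` has no 12-dimensional simple module.** -/
theorem sl4_twelve (hn : finrank k V = 12) : False := by
  obtain ⟨ι⟩ := exists_emb E k p
  have R := rgd cs h (F := E) (p := p)
  have hD := finrank_D R hirr slT_comm
  have ho : (1 : Fin (3 + 1)).val = 1 := rfl
  have hz : (2 : Fin (3 + 1)).val + 1 = 3 := rfl
  have c42 : Nat.choose (3 + 1) 2 = 6 := rfl
  obtain ⟨v, hv, hv0, φ, hφ0, e, he, heJ, hf⟩ := exists_coef4 (cs := cs) (h := h) p ι hirr (o := 1) (z := 2) le_rfl ho hz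
  have hf1 := hf (e 0) (e 1) 0 (e 2) (by
    intro i
    fin_cases i <;> simp)
  have hf2 := hf (e 0) 0 (e 1) (e 2) (by
    intro i
    fin_cases i <;> simp)
  have hDs : ∀ i, (Ds p (e i)).card ≤ finrank k (Io cs h (T (Fin (3 + 1)) E) (X E) ρ i) + 2 := by
    intro i
    have h1 := Ds_le_Le4 ι le_rfl ho hz p hv hf1 i (e := e i) (by fin_cases i <;> simp) (he i)
    have h2 := finrank_Io R hirr i
    rw [hD] at h2
    omega
  have hpow : ∀ i, i ∉ Jx cs h (X E) ρ → (Ds p (e i)).card ≤ 3 →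
      ∃ r j, 1 ≤ r ∧ r < p ∧ e i = r * p ^ j ∧ r + 1 ≤ (Ds p (e i)).card := by
    intro i hi h3
    have hne := mt (heJ i).2 hi
    rcases Ds_small hp.out (e i) (by omega) (by omega) with h | ⟨-, -, -, -, h⟩
    · exact h
    · omega
  have one : ∀ c, OneCase p 4 c (finrank k V) → False := by
    rintro c (⟨r, e, hr, hrp, -, hn'⟩ | ⟨e, e', -, -, hn'⟩)
    · rcases (choose_cases hr hn').2.1 rfl (by omega) with ⟨-, h4⟩ | ⟨-, h4⟩ <;> omega
    · omega
  have two : ∀ i j : Fin 3, i.val < j.val → i ∉ Jx cs h (X E) ρ → j ∉ Jx cs h (X E) ρ →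
      (∃ a, e i = p ^ a) ∧ ∃ b, e j = p ^ b := by
    intro i j hij hi hj
    have h1 := dim_ge_two R hirr hij hi hj
    rw [hD] at h1
    have h3 : 12 ≤ Fintype.card (Flg 3 i.val j.val) := by
      fin_cases i <;> fin_cases j <;> first
        | exact card_flg_3_01.ge
        | exact card_flg_3_02.ge
        | exact card_flg_3_12.ge
        | exact absurd hij (by decide)
    rw [c42] at h1
    have hi' := hDs i
    have hj' := hDs j
    obtain ⟨r, a, hr, -, ea, hra⟩ := hpow i hi (by omega)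
    obtain ⟨s, b, hs, -, eb, hsb⟩ := hpow j hj (by omega)
    obtain rfl : r = 1 := by omega
    obtain rfl : s = 1 := by omega
    exact ⟨⟨a, by rw [ea, one_mul]⟩, ⟨b, by rw [eb, one_mul]⟩⟩
  have hR1 : Rk (xf ι 1 2 (e 0) (e 1) 0 (e 2) : SpecialLinearGroup (Fin (3 + 1)) E → k) 12 := by
    have := rk_of_coef hf1
    rwa [hn] at this
  have hR2 : Rk (xf ι 1 2 (e 0) 0 (e 1) (e 2) : SpecialLinearGroup (Fin (3 + 1)) E → k) 12 := by
    have := rk_of_coef hf2
    rwa [hn] at this
  by_cases h0 : (0 : Fin 3) ∈ Jx cs h (X E) ρ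
  · have e0 := (heJ 0).1 h0
    by_cases h1 : (1 : Fin 3) ∈ Jx cs h (X E) ρ
    · have e1 := (heJ 1).1 h1
      by_cases h2 : (2 : Fin 3) ∈ Jx cs h (X E) ρ
      · obtain ⟨i, hi⟩ := exists_not_mem R hirr (by rw [hD]; omega)
        fin_cases i
        · exact hi h0
        · exact hi h1
        · exact hi h2
      · -- the last node
        obtain ⟨v, hv, hv0, φ, hφ0, a, ha, hf, hc⟩ := only_last p hirr ι (by norm_num) (i₀ := (2 : Fin 3)) rfl h2
          (fun j hj => by
            fin_cases j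
            · exact absurd h0 hj
            · exact absurd h1 hj
            · rfl) (by rw [c42]; omega)
        exact one a hc
    · by_cases h2 : (2 : Fin 3) ∈ Jx cs h (X E) ρ
      · -- the middle node
        have e2 := (heJ 2).1 h2
        have d := dim_ge_A R hirr h1
        rw [hD, c42, show Nat.choose (3 + 1) ((1 : Fin 3).val + 1) = 6 from rfl] at d
        have d1 := hDs 1
        obtain ⟨r, j, hr, hrp, er, hra⟩ := hpow 1 h1 (by omega)
        rw [e0, e2, er] at hR1 hf1
        have hr2 : r = 1 ∨ r = 2 := by omega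
        rcases hr2 with rfl | rfl
        · rw [one_mul] at hf1
          have := middle_le p hirr ι hv0 hφ0 hf1
          omega
        · exact absurd (le_d020 ι (by omega) hR1) (by norm_num)
      · -- 1, 2
        obtain ⟨⟨a, ea⟩, b, eb⟩ := two 1 2 (by decide) h1 h2
        rw [e0, ea, eb] at hR2
        exact absurd (le_d110 ι (rk_swap4 le_rfl ho hz hR2)) (by norm_num)
  · by_cases h1 : (1 : Fin 3) ∈ Jx cs h (X E) ρ
    · have e1 := (heJ 1).1 h1
      by_cases h2 : (2 : Fin 3) ∈ Jx cs h (X E) ρ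
      · -- the first node
        obtain ⟨v, hv, hv0, φ, hφ0, a, ha, hf, hc⟩ := only_zero p hirr ι (by norm_num) (i₀ := (0 : Fin 3)) rfl h0
          (fun j hj => by
            fin_cases j
            · rfl
            · exact absurd h1 hj
            · exact absurd h2 hj) (by rw [c42]; omega)
        exact one a hc
      · -- 0, 2
        obtain ⟨⟨a, ea⟩, b, eb⟩ := two 0 2 (by decide) h0 h2
        rw [e1, ea, eb] at hR1
        refine absurd (le_d101 ι (i := a) (j := b) (hR1.congr fun g => ?_)) (by norm_num)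
        unfold xf
        rw [pow_zero, pow_zero, mul_one, mul_one]
    · by_cases h2 : (2 : Fin 3) ∈ Jx cs h (X E) ρ
      · -- 0, 1
        have e2 := (heJ 2).1 h2
        obtain ⟨⟨a, ea⟩, b, eb⟩ := two 0 1 (by decide) h0 h1
        rw [e2, ea, eb] at hR1
        exact absurd (le_d110 ι hR1) (by norm_num)
      · have h3 := fact_le R hirr (by
          intro i
          fin_cases i
          · exact h0
          · exact h1
          · exact h2)
        have h4 : Nat.factorial (3 + 1) = 24 := rfl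
        rw [hD, h4] at h3
        omega

end four

section main

variable {F : Type u} [Field F] [Finite F] {ι : Type} [Fintype ι] [DecidableEq ι] {P : Subgroup (GL ι F)}
  {E : Type*} [Field E] [Finite E] (p : ℕ) [hp : Fact p.Prime] [hFp : CharP F p] [hEp : CharP E p]
include hp hFp hEp

/-- **`n = 12`.** -/
theorem not_twelve {m : ℕ} (hC : Core P) (hm : 3 ≤ m) (hm' : m < 12) (hn : Fintype.card ι = 12)
    (Φ : Soc P ≃* ProjectiveSpecialLinearGroup (Fin m) E) : False := by
  obtain ⟨l, rfl⟩ : ∃ l, m = l + 1 := ⟨m - 1, by omega⟩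
  haveI : Nonempty ι := Fintype.card_pos_iff.1 (by omega)
  haveI hchar : CharP (AlgebraicClosure F) p := charP_of_injective_algebraMap (algebraMap F _).injective p
  by_cases h6 : l < 5
  · have h7 : 2 ≤ l := by omega
    clear hm
    interval_cases l
    · obtain ⟨φ, hφ, hk, hpr⟩ := psl_cover (l := 2) p hC.perfect (by norm_num) (fun h => by omega) Φ
      haveI : Finite (cA 2).Group := finite_W (cA 2).toCoxeterSystem (isCartan 2)
      have R := Nodes.RGDTypeA.rgd (cA 2).toCoxeterSystem (isCartan 2) (F := E) (p := p)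
      have hirr := ac_irr R (gg_eq_top (Nodes.RGDTypeA.G1_eq_top _ _)) slT_comm hφ hC.absIrred
      exact sl3_twelve p hirr (by rw [Module.finrank_fintype_fun_eq_card, hn])
    · obtain ⟨φ, hφ, hk, hpr⟩ := psl_cover (l := 3) p hC.perfect (by norm_num) (fun h => by omega) Φ
      haveI : Finite (cA 3).Group := finite_W (cA 3).toCoxeterSystem (isCartan 3)
      have R := Nodes.RGDTypeA.rgd (cA 3).toCoxeterSystem (isCartan 3) (F := E) (p := p)
      have hirr := ac_irr R (gg_eq_top (Nodes.RGDTypeA.G1_eq_top _ _)) slT_comm hφ hC.absIrred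
      exact sl4_twelve p hirr (by rw [Module.finrank_fintype_fun_eq_card, hn])
    · have := dim5 p hC Φ (by omega)
      omega
  · push Not at h6
    have h1 : (5 + 1).choose 2 ≤ (l + 1).choose 2 := Nat.choose_le_choose 2 (by omega)
    have h2 : (5 + 1).choose 2 = 15 := rfl
    have := card_eq_of_lt p hC (by omega) Φ (by omega)
    omega

end main

end Cfsg.Agent.H887.DS
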