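import Cfsg.Agent.H887.DS.Low
import Cfsg.Agent.H906.Trace

/-!
# Uniqueness of the matrix coefficient, fields and unitary forms (helper887)

* `coef_unique` : two coefficients of a simple module of `SL(l + 1, E)`, right `U`- and left `U⁻`-invariant, are
  proportional;
* `fr_coef` : `f ^ |F|` is a coefficient if `f` is; `cj_coef` : `g ↦ f (g⁻¹) ^ Q` is a coefficient if `f` is and `Cj P Q`;
* `fr_xi` : `xi ε a b g ^ |F| = xi ε a b g`; `cj_xi` : `Cj P Q` implies `xi ε b a g ^ Q = xi ε a b g`;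
* `card_dvd_a`, `card_dvd_b` : `|E| - 1 ∣ a (|F| - 1)`.
-/

set_option autoImplicit false
set_option linter.unusedSectionVars false
set_option linter.style.haveILetI false

namespace Cfsg.Agent.H887.DS

open Matrix CoxeterSystem Cfsg.Agent.ChevalleyStructure.CoxeterGeom Cfsg.Agent.Tits.Roots Cfsg.Agent.Tits.Core
  Cfsg.Agent.Tits.Exchange Cfsg.Agent.Nodes.Reps Cfsg.Agent.Nodes.BNOf Cfsg.Agent.Nodes.StabComb
  Cfsg.Agent.Nodes.Bruhat Cfsg.Agent.Nodes.OppDec Cfsg.Agent.Nodes.LeviDec Cfsg.Agent.KFacts.RgdOpp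
  Cfsg.Agent.Omega.CR Cfsg.Agent.Omega.FOne.Lift.Sd Cfsg.Agent.Nodes.RootsA Cfsg.Agent.Nodes.RGDTypeA
open Cfsg.Agent.LieRecognition.BNCox (cA cA_apply)
open Cfsg.Agent.TitsThree.KSideA (tv tv_of_ne tv_add tv_zero tv_neg tv_comm tv_commute)
open Cfsg.Agent.H905.Md Module Cfsg.Agent.H911
open Cfsg Cfsg.Geo Cfsg.Agent.H67
open Cfsg.Agent.H915.LD (Core Soc tr SD Fr Cj)

universe u

section unique

variable {E : Type*} [Field E] [Finite E] {l : ℕ} {W : Type*} [Group W] [Finite W] {cs : CoxeterSystem (cA l) W}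
  {A : Fin l → Fin l → ℤ} {h : IsCartan (cA l) A} (p : ℕ) [hp : Fact p.Prime] [hEp : CharP E p]
  {k V : Type*} [Field k] [IsAlgClosed k] [CharP k p] [AddCommGroup V] [Module k V] [FiniteDimensional k V] [Nontrivial V]
  {ρ : SpecialLinearGroup (Fin (l + 1)) E →* Module.End k V}
  (hirr : ∀ L : Submodule k V, Ivt ρ (GG cs h (T (Fin (l + 1)) E) (X E)) L → L = ⊥ ∨ L = ⊤)
include hirr

omit hp hEp [IsAlgClosed k] [CharP k p] [FiniteDimensional k V] [Nontrivial V] in
theorem mem_D_of_coef {v : V} {φ : Module.Dual k V} (hφ : φ ≠ 0) {f : SpecialLinearGroup (Fin (l + 1)) E → k}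
    (hf : ∀ g, φ (ρ g v) = f g) (hU : ∀ u ∈ RGD.Sup (X E) (RGD.Pos cs h), ∀ g, f (g * u) = f g) : v ∈ D cs h (X E) ρ := by
  intro u hu
  apply Psi_injective (irr_all hirr) hφ
  funext g
  rw [Psi_apply, Psi_apply, ← rho_mul, hf, hf, hU u hu]

omit hp hEp [IsAlgClosed k] [CharP k p] [FiniteDimensional k V] [Nontrivial V] in
theorem mem_D_dual_of_coef {v : V} (hv : v ≠ 0) {φ : Module.Dual k V} {f : SpecialLinearGroup (Fin (l + 1)) E → k}
    (hf : ∀ g, φ (ρ g v) = f g) (hU : ∀ u ∈ UN cs h (X E), ∀ g, f (u * g) = f g) :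
    φ ∈ fx (dualRep ρ) (UN cs h (X E)) := by
  intro u hu
  have h1 : ∀ w : V, φ (ρ u⁻¹ w) = φ w := by
    intro w
    have hw : w ∈ Submodule.span k (Set.range fun g => ρ g v) := by rw [span_eq_top (irr_all hirr) hv]; trivial
    induction hw using Submodule.span_induction with
    | mem x hx =>
      obtain ⟨g, rfl⟩ := hx
      change φ (ρ u⁻¹ (ρ g v)) = φ (ρ g v)
      rw [← rho_mul, hf, hf, hU _ (inv_mem hu)]
    | zero => rw [map_zero]
    | add x y _ _ hx hy => rw [map_add, map_add, map_add, hx, hy]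
    | smul a x _ hx => rw [map_smul, map_smul, map_smul, hx]
  ext w
  rw [dualRep_apply]
  exact h1 w

include p in
/-- **Uniqueness.** -/
theorem coef_unique {v₁ v₂ : V} {φ₁ φ₂ : Module.Dual k V} {f₁ f₂ : SpecialLinearGroup (Fin (l + 1)) E → k}
    (hv₁ : v₁ ≠ 0) (hφ₁ : φ₁ ≠ 0) (hf₁ : ∀ g, φ₁ (ρ g v₁) = f₁ g)
    (hU₁ : ∀ u ∈ RGD.Sup (X E) (RGD.Pos cs h), ∀ g, f₁ (g * u) = f₁ g) (hN₁ : ∀ u ∈ UN cs h (X E), ∀ g, f₁ (u * g) = f₁ g)
    (hv₂ : v₂ ≠ 0) (hφ₂ : φ₂ ≠ 0) (hf₂ : ∀ g, φ₂ (ρ g v₂) = f₂ g)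
    (hU₂ : ∀ u ∈ RGD.Sup (X E) (RGD.Pos cs h), ∀ g, f₂ (g * u) = f₂ g) (hN₂ : ∀ u ∈ UN cs h (X E), ∀ g, f₂ (u * g) = f₂ g) :
    ∃ c : k, ∀ g, f₂ g = c * f₁ g := by
  have R := rgd cs h (F := E) (p := p)
  have d1 := mem_D_of_coef hirr hφ₁ hf₁ hU₁
  have d2 := mem_D_of_coef hirr hφ₂ hf₂ hU₂
  have e1 := mem_D_dual_of_coef hirr hv₁ hf₁ hN₁
  have e2 := mem_D_dual_of_coef hirr hv₂ hf₂ hN₂
  have hD := finrank_D R hirr slT_comm
  have hD' : Module.finrank k (D cs h (fun x => X E (-x)) (dualRep ρ)) = 1 :=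
    finrank_D (opp R) (H905.Md.hirr_opp R hirr) slT_comm
  rw [← D_opp] at e1 e2
  obtain ⟨c, hc⟩ := (finrank_eq_one_iff_of_nonzero' (⟨v₁, d1⟩ : D cs h (X E) ρ)
    (by intro e; exact hv₁ (congrArg Subtype.val e))).1 hD ⟨v₂, d2⟩
  obtain ⟨c', hc'⟩ := (finrank_eq_one_iff_of_nonzero' (⟨φ₁, e1⟩ : D cs h (fun x => X E (-x)) (dualRep ρ))
    (by intro e; exact hφ₁ (congrArg Subtype.val e))).1 hD' ⟨φ₂, e2⟩
  have hc1 : c • v₁ = v₂ := congrArg Subtype.val hc
  have hc1' : c' • φ₁ = φ₂ := congrArg Subtype.val hc'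
  refine ⟨c' * c, fun g => ?_⟩
  rw [← hf₂, ← hf₁, ← hc1, ← hc1', map_smul, LinearMap.smul_apply, map_smul, smul_eq_mul, smul_eq_mul]
  ring

end unique

section twist

variable {F : Type u} [Field F] [Finite F] {ι : Type} [Fintype ι] [DecidableEq ι] {P : Subgroup (GL ι F)}
  {G : Type*} [Group G] {φ : G →* GL ι F}

/-- the dot product with a vector -/
def dotL {k : Type*} [Field k] (r : ι → k) : Module.Dual k (ι → k) := Fintype.linearCombination k r

theorem dotL_apply {k : Type*} [Field k] (r x : ι → k) : dotL r x = x ⬝ᵥ r := by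
  unfold dotL
  rw [Fintype.linearCombination_apply]
  rfl

theorem exists_dotL {k : Type*} [Field k] (ψ : Module.Dual k (ι → k)) : ∃ r, ψ = dotL r := by
  refine ⟨fun i => ψ (Pi.single i 1), ?_⟩
  refine LinearMap.pi_ext' fun i => LinearMap.ext_ring ?_
  change ψ (Pi.single i 1) = dotL _ (Pi.single i 1)
  rw [dotL_apply, single_one_dotProduct]

theorem dotL_ne_zero {k : Type*} [Field k] {r : ι → k} (hr : r ≠ 0) : dotL r ≠ 0 := by
  intro h0
  apply hr
  funext i
  have h1 := congrArg (fun f : Module.Dual k (ι → k) => f (Pi.single i 1)) h0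
  change dotL r (Pi.single i 1) = 0 at h1
  rwa [dotL_apply, single_one_dotProduct] at h1

omit [Finite F] [DecidableEq ι] in
theorem map_dot {K : Type*} [Field K] (s : K ≃+* K) (x y : ι → K) : s (x ⬝ᵥ y) = (fun i => s (x i)) ⬝ᵥ fun i => s (y i) := by
  rw [dotProduct, map_sum, dotProduct]
  exact Finset.sum_congr rfl fun i _ => map_mul _ _ _

/-- **`f ^ |F|` is a coefficient.** -/
theorem fr_coef {v : ι → AlgebraicClosure F} {ψ : Module.Dual (AlgebraicClosure F) (ι → AlgebraicClosure F)}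
    (hv : v ≠ 0) (hψ : ψ ≠ 0) {f : G → AlgebraicClosure F} (hf : ∀ g, ψ (lin (acRep φ) g v) = f g) :
    ∃ (v' : ι → AlgebraicClosure F) (ψ' : Module.Dual (AlgebraicClosure F) (ι → AlgebraicClosure F)), v' ≠ 0 ∧ ψ' ≠ 0 ∧
      ∀ g, ψ' (lin (acRep φ) g v') = f g ^ Nat.card F := by
  have := Fintype.ofFinite F
  obtain ⟨p, hp⟩ := CharP.exists F
  haveI : Fact p.Prime := ⟨CharP.char_is_prime F p⟩
  obtain ⟨a, -, ha⟩ := FiniteField.card F p
  obtain ⟨s, hs⟩ := exists_frob F p a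
  have hs' : ∀ x, s x = x ^ Nat.card F := fun x => by rw [hs, Nat.card_eq_fintype_card, ha]
  obtain ⟨r, rfl⟩ := exists_dotL ψ
  have hr : r ≠ 0 := by
    rintro rfl
    apply hψ
    ext x
    simp [dotL]
  refine ⟨sv s v, dotL (sv s r), ?_, ?_, fun g => ?_⟩
  · intro h0
    exact hv (sv_inj s (h0.trans (sv_zero s).symm))
  · apply dotL_ne_zero
    intro h0
    exact hr (sv_inj s (h0.trans (sv_zero s).symm))
  · have h1 : tw s (acRep φ) g = acRep φ g := by
      rw [tw_apply, acRep_apply]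
      ext i j
      simp only [Matrix.map_apply]
      rw [hs', ← map_pow, Nat.card_eq_fintype_card, FiniteField.pow_card]
    have h2 : lin (acRep φ) g (sv s v) = sv s (lin (acRep φ) g v) := by
      rw [← lin_tw, lin_apply, lin_apply, h1]
    rw [h2, dotL_apply, ← hs', ← hf, dotL_apply]
    exact (map_dot s _ _).symm

/-- **`g ↦ f (g⁻¹) ^ Q` is a coefficient if `Cj P Q`.** -/
theorem cj_coef (p : ℕ) [hp : Fact p.Prime] [CharP F p] (hφ : φ.range = P) (hP : ActsAbsolutelyIrreducibly (matrixSet P))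
    {k : ℕ} (hCj : Cj P (p ^ k)) {v : ι → AlgebraicClosure F}
    {ψ : Module.Dual (AlgebraicClosure F) (ι → AlgebraicClosure F)}
    (hv : v ≠ 0) (hψ : ψ ≠ 0) {f : G → AlgebraicClosure F} (hf : ∀ g, ψ (lin (acRep φ) g v) = f g) :
    ∃ (v' : ι → AlgebraicClosure F) (ψ' : Module.Dual (AlgebraicClosure F) (ι → AlgebraicClosure F)), v' ≠ 0 ∧ ψ' ≠ 0 ∧
      ∀ g, ψ' (lin (acRep φ) g v') = f g⁻¹ ^ p ^ k := by
  obtain ⟨s, hs⟩ := exists_frob F p k
  obtain ⟨σ, hσ⟩ : ∃ σ : F ≃+* F, ∀ x, σ x = x ^ p ^ k := by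
    refine ⟨RingEquiv.ofBijective (iterateFrobenius F p k) ⟨(iterateFrobenius F p k).injective,
      Finite.surjective_of_injective (iterateFrobenius F p k).injective⟩, fun x => ?_⟩
    change iterateFrobenius F p k x = _
    rw [iterateFrobenius_def]
  obtain ⟨B, hB⟩ := H906.exists_conj_of_trace ((Units.coeHom (Matrix ι ι F)).comp P.subtype) (H906.dualRep σ P)
    (H906.span_subtype hP) (H906.span_dualRep hP σ) (by
      intro g
      have h1 := hCj _ (inv_mem g.2)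
      have h2 : (H906.dualRep σ P g).trace = σ ((((g : GL ι F)⁻¹ : GL ι F) : Matrix ι ι F).trace) := by
        simp [H906.dualRep, Matrix.trace, map_sum]
      rw [h2, hσ]
      change _ = tr (g : GL ι F)⁻¹ ^ p ^ k
      rw [h1, inv_inv]
      rfl)
  -- over the closure
  set c := algebraMap F (AlgebraicClosure F) with hc
  set BK : Matrix ι ι (AlgebraicClosure F) := (B : Matrix ι ι F).map c with hBK
  set BK' : Matrix ι ι (AlgebraicClosure F) := ((B⁻¹ : GL ι F) : Matrix ι ι F).map c with hBK'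
  have hBB : BK * BK' = 1 := by
    rw [hBK, hBK', ← Matrix.map_mul, ← Units.val_mul, mul_inv_cancel, Units.val_one,
      Matrix.map_one c (map_zero c) (map_one c)]
  have hBB' : BK' * BK = 1 := by
    rw [hBK, hBK', ← Matrix.map_mul, ← Units.val_mul, inv_mul_cancel, Units.val_one,
      Matrix.map_one c (map_zero c) (map_one c)]
  have key : ∀ g : G, ((acRep φ g⁻¹).map s)ᵀ = BK * acRep φ g * BK' := by
    intro g
    have h1 := hB ⟨φ g, by rw [← hφ]; exact ⟨g, rfl⟩⟩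
    have h2 : ((φ g⁻¹ : GL ι F) : Matrix ι ι F)ᵀ.map σ
        = (B : Matrix ι ι F) * (φ g : Matrix ι ι F) * ((B⁻¹ : GL ι F) : Matrix ι ι F) := by
      rw [map_inv]; exact h1
    have h3 := congrArg (fun M : Matrix ι ι F => M.map c) h2
    simp only [Matrix.map_mul] at h3
    rw [acRep_apply, acRep_apply, hBK, hBK', ← h3]
    ext i j
    simp only [Matrix.transpose_apply, Matrix.map_apply]
    rw [hs, hσ, map_pow]
  obtain ⟨r, rfl⟩ := exists_dotL ψ
  have hr : r ≠ 0 := by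
    rintro rfl
    apply hψ
    ext x
    simp [dotL]
  have hsr : sv s r ≠ 0 := fun h0 => hr (sv_inj s (h0.trans (sv_zero s).symm))
  have hsv : sv s v ≠ 0 := fun h0 => hv (sv_inj s (h0.trans (sv_zero s).symm))
  refine ⟨BK' *ᵥ sv s r, dotL (BKᵀ *ᵥ sv s v), ?_, ?_, fun g => ?_⟩
  · intro h0
    apply hsr
    have h1 := congrArg (fun x => BK *ᵥ x) h0
    simp only [Matrix.mulVec_mulVec, hBB, Matrix.one_mulVec, Matrix.mulVec_zero] at h1
    exact h1
  · apply dotL_ne_zero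
    intro h0
    apply hsv
    have h1 := congrArg (fun x => BK'ᵀ *ᵥ x) h0
    simp only [Matrix.mulVec_mulVec, ← Matrix.transpose_mul, hBB, Matrix.transpose_one, Matrix.one_mulVec,
      Matrix.mulVec_zero] at h1
    exact h1
  · rw [← hf, dotL_apply, dotL_apply, lin_apply, lin_apply, ← hs, map_dot]
    have h1 : (fun i => s ((acRep φ g⁻¹ *ᵥ v) i)) = (acRep φ g⁻¹).map s *ᵥ sv s v := by
      funext i
      simp only [Matrix.mulVec, dotProduct, Matrix.map_apply, sv, map_sum, map_mul]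
    rw [h1]
    change _ = ((acRep φ g⁻¹).map s *ᵥ sv s v) ⬝ᵥ sv s r
    rw [Matrix.dotProduct_mulVec, Matrix.vecMul_transpose, dotProduct_comm ((acRep φ g⁻¹).map s *ᵥ sv s v),
      Matrix.dotProduct_mulVec, ← Matrix.mulVec_transpose, key, Matrix.mulVec_mulVec, Matrix.mulVec_mulVec]

end twist

section xi

variable {F : Type u} [Field F] [Finite F] {ι : Type} [Fintype ι] [DecidableEq ι] [Nonempty ι] {P : Subgroup (GL ι F)}
  {E : Type*} [Field E] [Finite E] (p : ℕ) [hp : Fact p.Prime] [hFp : CharP F p] [hEp : CharP E p] {l : ℕ}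
  {φ : SpecialLinearGroup (Fin (l + 1)) E →* GL ι F}
  (hirr : ∀ L : Submodule (AlgebraicClosure F) (ι → AlgebraicClosure F), (∀ g, ∀ w ∈ L, lin (acRep φ) g w ∈ L) →
    L = ⊥ ∨ L = ⊤)
  {v : ι → AlgebraicClosure F} {ψ : Module.Dual (AlgebraicClosure F) (ι → AlgebraicClosure F)}
  (hv : v ≠ 0) (hψ : ψ ≠ 0)
include p hp hFp hEp hirr hv hψ

/-- uniqueness, concretely -/
theorem unique_of_coef {f f' : SpecialLinearGroup (Fin (l + 1)) E → AlgebraicClosure F}
    (hf : ∀ g, ψ (lin (acRep φ) g v) = f g)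
    (hU : ∀ c d : Fin (l + 1), c < d → ∀ t g, f (g * tv c d t) = f g)
    (hN : ∀ c d : Fin (l + 1), d < c → ∀ t g, f (tv c d t * g) = f g)
    {v' : ι → AlgebraicClosure F} {ψ' : Module.Dual (AlgebraicClosure F) (ι → AlgebraicClosure F)}
    (hv' : v' ≠ 0) (hψ' : ψ' ≠ 0) (hf' : ∀ g, ψ' (lin (acRep φ) g v') = f' g)
    (hU' : ∀ c d : Fin (l + 1), c < d → ∀ t g, f' (g * tv c d t) = f' g)
    (hN' : ∀ c d : Fin (l + 1), d < c → ∀ t g, f' (tv c d t * g) = f' g) (h1 : f 1 = 1) (h1' : f' 1 = 1) :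
    ∀ g, f' g = f g := by
  haveI : Finite (cA l).Group := finite_W (cA l).toCoxeterSystem (isCartan l)
  haveI hchar : CharP (AlgebraicClosure F) p := charP_of_injective_algebraMap (algebraMap F _).injective p
  have hirr' : ∀ L : Submodule (AlgebraicClosure F) (ι → AlgebraicClosure F),
      Ivt (lin (acRep φ)) (GG (cA l).toCoxeterSystem (isCartan l) (T (Fin (l + 1)) E) (X E)) L → L = ⊥ ∨ L = ⊤ := by
    intro L hL
    refine hirr L fun g w hw => hL g ?_ w hw
    rw [gg_eq_top (Nodes.RGDTypeA.G1_eq_top _ _)]; trivial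
  have rU : ∀ f : SpecialLinearGroup (Fin (l + 1)) E → AlgebraicClosure F,
      (∀ c d : Fin (l + 1), c < d → ∀ t g, f (g * tv c d t) = f g) →
      ∀ u ∈ RGD.Sup (X E) (RGD.Pos (cA l).toCoxeterSystem (isCartan l)), ∀ g, f (g * u) = f g := by
    intro f hU u hu g
    have h1 : RGD.Sup (X E) (RGD.Pos (cA l).toCoxeterSystem (isCartan l)) ≤ rSt f := by
      refine RGD.Sup_le fun z hz => ?_
      intro x hx g
      obtain ⟨c, d, hcd, rfl⟩ := exists_of_isRoot (cA l).toCoxeterSystem (isCartan l) hz.1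
      rw [X_rtA hcd] at hx
      obtain ⟨t, rfl⟩ := hx
      exact hU _ _ (lt_of_le_of_ne (rtA_nonneg_iff.1 hz.2) hcd) t g
    exact h1 hu g
  have rN : ∀ f : SpecialLinearGroup (Fin (l + 1)) E → AlgebraicClosure F,
      (∀ c d : Fin (l + 1), d < c → ∀ t g, f (tv c d t * g) = f g) →
      ∀ u ∈ UN (cA l).toCoxeterSystem (isCartan l) (X E), ∀ g, f (u * g) = f g := by
    intro f hN u hu g
    have h1 : UN (cA l).toCoxeterSystem (isCartan l) (X E) ≤ lSt f := by
      refine RGD.Sup_le fun z hz => ?_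
      intro x hx g
      obtain ⟨c, d, hcd, rfl⟩ := exists_of_isRoot (cA l).toCoxeterSystem (isCartan l) hz.1
      rw [X_rtA hcd] at hx
      obtain ⟨t, rfl⟩ := hx
      have h1 : 0 ≤ rtA d c := by rw [← rtA_neg]; exact neg_nonneg.2 hz.2
      exact hN _ _ (lt_of_le_of_ne (rtA_nonneg_iff.1 h1) hcd.symm) t g
    exact h1 hu g
  obtain ⟨c, hc⟩ := coef_unique p hirr' hv hψ hf (rU f hU) (rN f hN) hv' hψ' hf' (rU f' hU') (rN f' hN')
  have h2 : c = 1 := by
    have h3 := hc 1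
    rw [h1, h1', mul_one] at h3
    exact h3.symm
  intro g
  rw [hc g, h2, one_mul]

variable {ε : E →+* AlgebraicClosure F} {a b : ℕ} (hf : ∀ g, ψ (lin (acRep φ) g v) = xi ε a b g)
include hf

/-- **The field.** -/
theorem fr_xi (g : SpecialLinearGroup (Fin (l + 1)) E) : xi ε a b g ^ Nat.card F = xi ε a b g := by
  obtain ⟨v', ψ', hv', hψ', hf'⟩ := fr_coef hv hψ hf
  exact unique_of_coef p hirr hv hψ hf (fun c d hcd t g => xi_mul_tv hcd t g) (fun c d hcd t g => xi_tv_mul hcd t g)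
    hv' hψ' hf' (fun c d hcd t g => by rw [xi_mul_tv hcd]) (fun c d hcd t g => by rw [xi_tv_mul hcd]) xi_one
    (by rw [xi_one, one_pow]) g

/-- **Unitary groups.** -/
theorem cj_xi (hl : 1 ≤ l) (hφ : φ.range = P) (hP : ActsAbsolutelyIrreducibly (matrixSet P)) {k : ℕ}
    (hCj : Cj P (p ^ k)) (g : SpecialLinearGroup (Fin (l + 1)) E) : xi ε b a g ^ p ^ k = xi ε a b g := by
  obtain ⟨v', ψ', hv', hψ', hf'⟩ := cj_coef p hφ hP hCj hv hψ hf
  refine unique_of_coef p hirr hv hψ hf (fun c d hcd t g => xi_mul_tv hcd t g) (fun c d hcd t g => xi_tv_mul hcd t g)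
    (v' := lin (acRep φ) (wl E l)⁻¹ v') (ψ' := ψ'.comp (lin (acRep φ) (wl E l))) (f' := fun g => xi ε b a g ^ p ^ k)
    ?_ ?_ ?_ (fun c d hcd t g => by simp only [xi_mul_tv hcd]) (fun c d hcd t g => by simp only [xi_tv_mul hcd]) xi_one
    (by simp only [xi_one, one_pow]) g
  · intro h0
    apply hv'
    have h1 := congrArg (lin (acRep φ) (wl E l)) h0
    rwa [← rho_mul, mul_inv_cancel, map_one, map_zero] at h1
  · intro h0
    apply hψ'
    refine LinearMap.ext fun x => ?_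
    have h1 := congrArg (fun f : Module.Dual (AlgebraicClosure F) (ι → AlgebraicClosure F) =>
      f (lin (acRep φ) (wl E l)⁻¹ x)) h0
    change ψ' (lin (acRep φ) (wl E l) (lin (acRep φ) (wl E l)⁻¹ x)) = 0 at h1
    rwa [← rho_mul, mul_inv_cancel, map_one] at h1
  · intro g
    change ψ' (lin (acRep φ) (wl E l) (lin (acRep φ) g (lin (acRep φ) (wl E l)⁻¹ v'))) = _
    rw [← rho_mul, ← rho_mul, hf']
    congr 1
    unfold xi
    rw [inv_inv, _root_.mul_inv_rev, _root_.mul_inv_rev, inv_inv, ← mul_assoc, wl_mul_mul_last hl,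
      wl_mul_mul_zero hl, mul_comm]

end xi

section arith

variable {F : Type u} [Field F] [Finite F] {E : Type*} [Field E] [Finite E] {K : Type*} [Field K]

/-- the divisibility -/
theorem dvd_of_pow_eq (ε : E →+* K) {a Q : ℕ} (hQ : 1 ≤ Q) (h : ∀ s : Eˣ, (ε s ^ a) ^ Q = ε s ^ a) :
    Nat.card E - 1 ∣ a * (Q - 1) := by
  obtain ⟨g, hg⟩ := IsCyclic.exists_generator (α := Eˣ)
  have hcard : Nat.card Eˣ = Nat.card E - 1 := Nat.card_units E
  have ho : orderOf g = Nat.card E - 1 := by rw [← hcard]; exact orderOf_eq_card_of_forall_mem_zpowers hg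
  rw [← ho]
  apply orderOf_dvd_of_pow_eq_one
  apply Units.ext
  have h1 := h g
  rw [← pow_mul, ← map_pow, ← map_pow] at h1
  have h2 := ε.injective h1
  have h3 : (g : E) ^ (a * Q) = (g : E) ^ (a * (Q - 1)) * (g : E) ^ a := by
    rw [← pow_add]
    congr 1
    obtain ⟨Q, rfl⟩ : ∃ Q', Q = Q' + 1 := ⟨Q - 1, by omega⟩
    rw [Nat.add_sub_cancel]
    ring
  rw [h3] at h2
  rw [Units.val_pow_eq_pow_val, Units.val_one]
  exact mul_right_cancel₀ (pow_ne_zero _ g.ne_zero) (h2.trans (one_mul _).symm)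

/-- `a = r p ^ i`, `r < p`: the fields are equal -/
theorem card_eq_of_dvd {p : ℕ} [hp : Fact p.Prime] [CharP F p] [CharP E p] {j r i : ℕ} (hj : 1 ≤ j)
    (hFE : Nat.card F ^ j = Nat.card E) (hr : 1 ≤ r) (hrp : r < p) (h : Nat.card E - 1 ∣ r * p ^ i * (Nat.card F - 1)) :
    Nat.card E = Nat.card F := by
  have hF2 : 1 < Nat.card F := Finite.one_lt_card
  have hpF : p ≤ Nat.card F := by
    have := Fintype.ofFinite F
    obtain ⟨n, -, hn⟩ := FiniteField.card F p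
    rw [Nat.card_eq_fintype_card, hn]
    calc p = p ^ 1 := (pow_one p).symm
      _ ≤ p ^ (n : ℕ) := Nat.pow_le_pow_right hp.out.pos n.2
  have h1 : Nat.card E - 1 ∣ r * (Nat.card F - 1) := by
    have h2 : (Nat.card E - 1).Coprime (p ^ i) := Nat.Coprime.pow_right _ (not_dvd_card_sub_one (p := p) (F := E))
    have h3 : r * p ^ i * (Nat.card F - 1) = p ^ i * (r * (Nat.card F - 1)) := by ring
    rw [h3] at h
    exact h2.dvd_of_dvd_mul_left h
  have h2 : Nat.card E - 1 ≤ r * (Nat.card F - 1) := Nat.le_of_dvd (Nat.mul_pos (by omega) (by omega)) h1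
  by_cases hj1 : j = 1
  · rw [← hFE, hj1, pow_one]
  · exfalso
    have h3 : Nat.card F ^ 2 ≤ Nat.card E := by rw [← hFE]; exact Nat.pow_le_pow_right (by omega) (by omega)
    have h4 : r * (Nat.card F - 1) + r ≤ (Nat.card F - 1) * Nat.card F := by
      have h5 : r ≤ Nat.card F - 1 := by omega
      calc r * (Nat.card F - 1) + r = r * (Nat.card F - 1 + 1) := by ring
        _ = r * Nat.card F := by rw [Nat.sub_add_cancel (by omega)]
        _ ≤ _ := Nat.mul_le_mul_right _ h5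
    have h6 : (Nat.card F - 1) * Nat.card F + Nat.card F = Nat.card F ^ 2 := by
      obtain ⟨f, hf⟩ : ∃ f, Nat.card F = f + 1 := ⟨Nat.card F - 1, by omega⟩
      rw [hf, Nat.add_sub_cancel]; ring
    omega

end arith

end Cfsg.Agent.H887.DS
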